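import Cfsg.Agent.Ch.I

/-! Basic API for the Cech cochain model. -/

set_option autoImplicit false

namespace Cfsg.Agent.Ch

open Subgroup Cfsg.Agent.H1 Cfsg.Agent.L Cfsg.Agent.FT
open scoped Pointwise commutatorElement

variable {G : Type} [Group G] {X : Type} [MulAction G X] {M : Type} [AddCommGroup M]
  {p : ℕ} {Γ : Subgroup G} {Ω : Set X} {ρ : G → M →+ M}

/-! ### stabilisers -/

theorem mem_st {l : List X} {g : G} : g ∈ st Γ l ↔ g ∈ Γ ∧ ∀ a ∈ l, g • a = a := by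
  simp [st, Subgroup.mem_iInf]

theorem st_le (l : List X) : st Γ l ≤ Γ := inf_le_left

theorem st_anti {l l' : List X} (h : ∀ a ∈ l, a ∈ l') : st Γ l' ≤ st Γ l := fun _ hg =>
  mem_st.2 ⟨(mem_st.1 hg).1, fun a ha => (mem_st.1 hg).2 a (h a ha)⟩

theorem st_sublist {l l' : List X} (h : l.Sublist l') : st Γ l' ≤ st Γ l :=
  st_anti fun _ ha => h.subset ha

theorem st_single (a : X) : st Γ [a] = Γ ⊓ MulAction.stabilizer G a := by
  ext g; simp [mem_st]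

theorem st_inf (H : Subgroup G) (l : List X) : st (Γ ⊓ H) l = st Γ l ⊓ H := by
  ext g; simp only [mem_st, Subgroup.mem_inf]; tauto

theorem st_map {g : G} (hg : g ∈ Γ) (l : List X) : st Γ (l.map (g • ·)) = g ⋆ st Γ l := by
  ext x
  rw [mem_conj, mem_st, mem_st]
  constructor
  · rintro ⟨h1, h2⟩
    refine ⟨mul_mem (mul_mem (inv_mem hg) h1) hg, fun a ha => ?_⟩
    rw [mul_smul, mul_smul, h2 _ (List.mem_map_of_mem ha), inv_smul_smul]
  · rintro ⟨h1, h2⟩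
    refine ⟨by simpa [mul_assoc] using mul_mem (mul_mem hg h1) (inv_mem hg), fun b hb => ?_⟩
    obtain ⟨a, ha, rfl⟩ := List.mem_map.1 hb
    have := h2 a ha
    rw [mul_smul, mul_smul, inv_smul_eq_iff] at this
    exact this

theorem map_smul_of_mem {g : G} {l : List X} (hg : g ∈ st Γ l) : l.map (g • ·) = l := by
  conv_rhs => rw [← List.map_id l]
  exact List.map_congr_left fun a ha => (mem_st.1 hg).2 a ha

theorem mem_st_of_map {g : G} {l : List X} (hg : g ∈ Γ) (h : l.map (g • ·) = l) : g ∈ st Γ l := by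
  refine mem_st.2 ⟨hg, ?_⟩
  induction l with
  | nil => simp
  | cons a l ih =>
    simp only [List.map_cons, List.cons.injEq] at h
    intro b hb
    rcases List.mem_cons.1 hb with rfl | hb
    · exact h.1
    · exact ih h.2 b hb

theorem map_one_smul (l : List X) : l.map ((1 : G) • ·) = l := by simp

theorem map_mul_smul (g h : G) (l : List X) :
    l.map ((g * h) • ·) = (l.map (h • ·)).map (g • ·) := by
  simp [List.map_map, mul_smul, Function.comp_def]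

theorem On.ne_nil {n : ℕ} {l : List X} (h : On Ω (n + 1) l) : l ≠ [] := by
  rintro rfl; exact absurd h.1 (by simp)

theorem On.stb {n : ℕ} {l : List X} (h : On Ω (n + 1) l) : Stb Γ Ω (st Γ l) :=
  ⟨l, h.ne_nil, h.2, rfl⟩

theorem On.stb' {n : ℕ} {l : List X} (h : On Ω n l) (hl : l ≠ []) : Stb Γ Ω (st Γ l) :=
  ⟨l, hl, h.2, rfl⟩

theorem On.sublist {n : ℕ} {l l' : List X} (h : On Ω (n + 1) l) (hs : l'.Sublist l)
    (hl : l'.length + 1 = l.length) : On Ω n l' :=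
  ⟨by have := h.1; omega, fun a ha => h.2 a (hs.subset ha)⟩

theorem On.cons {n : ℕ} {l : List X} {a : X} (h : On Ω n l) (ha : a ∈ Ω) : On Ω (n + 1) (a :: l) :=
  ⟨by simp [h.1], by simpa [ha] using h.2⟩

theorem On.tail {n : ℕ} {l : List X} {a : X} (h : On Ω (n + 1) (a :: l)) : On Ω n l :=
  ⟨by simpa using h.1, fun b hb => h.2 b (List.mem_cons_of_mem _ hb)⟩

theorem On.mono {Ω' : Set X} (hΩ : Ω ⊆ Ω') {n : ℕ} {l : List X} (h : On Ω n l) : On Ω' n l :=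
  ⟨h.1, fun a ha => hΩ (h.2 a ha)⟩

theorem on_zero {l : List X} : On Ω 0 l ↔ l = [] :=
  ⟨fun h => List.length_eq_zero_iff.1 h.1, by rintro rfl; exact ⟨rfl, by simp⟩⟩

theorem on_one {l : List X} : On Ω 1 l ↔ ∃ a ∈ Ω, l = [a] := by
  constructor
  · intro h
    obtain ⟨a, rfl⟩ := List.length_eq_one_iff.1 h.1
    exact ⟨a, h.2 a (by simp), rfl⟩
  · rintro ⟨a, ha, rfl⟩; exact ⟨rfl, by simpa⟩

theorem on_two {l : List X} : On Ω 2 l ↔ ∃ a ∈ Ω, ∃ b ∈ Ω, l = [a, b] := by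
  constructor
  · intro h
    obtain ⟨a, b, rfl⟩ := List.length_eq_two.1 h.1
    exact ⟨a, h.2 a (by simp), b, h.2 b (by simp), rfl⟩
  · rintro ⟨a, ha, b, hb, rfl⟩; exact ⟨rfl, by simp [ha, hb]⟩

theorem on_three {l : List X} : On Ω 3 l ↔ ∃ a ∈ Ω, ∃ b ∈ Ω, ∃ c ∈ Ω, l = [a, b, c] := by
  constructor
  · intro h
    obtain ⟨a, b, c, rfl⟩ := List.length_eq_three.1 h.1
    exact ⟨a, h.2 a (by simp), b, h.2 b (by simp), c, h.2 c (by simp), rfl⟩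
  · rintro ⟨a, ha, b, hb, c, hc, rfl⟩; exact ⟨rfl, by simp [ha, hb, hc]⟩

theorem Geo.on_map (hG : Geo p Γ Ω) {g : G} (hg : g ∈ Γ) {n : ℕ} {l : List X} (h : On Ω n l) :
    On Ω n (l.map (g • ·)) :=
  ⟨by simp [h.1], fun b hb => by
    obtain ⟨a, ha, rfl⟩ := List.mem_map.1 hb; exact hG.inv g hg a (h.2 a ha)⟩

theorem Stb.le {P : Subgroup G} (h : Stb Γ Ω P) : P ≤ Γ := by
  obtain ⟨l, -, -, rfl⟩ := h; exact st_le l

theorem Stb.pg (hG : Geo p Γ Ω) {P : Subgroup G} (h : Stb Γ Ω P) : IsPGroup p P := by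
  obtain ⟨l, h1, h2, rfl⟩ := h
  obtain ⟨a, ha⟩ := List.exists_mem_of_ne_nil l h1
  refine IsPGroup.le' (hG.pg a (h2 a ha)) ?_
  rw [← st_single]; exact st_anti (by simpa)

theorem Stb.conj (hG : Geo p Γ Ω) {P : Subgroup G} (h : Stb Γ Ω P) {g : G} (hg : g ∈ Γ) :
    Stb Γ Ω (g ⋆ P) := by
  obtain ⟨l, h1, h2, rfl⟩ := h
  exact ⟨l.map (g • ·), by simpa, (hG.on_map hg ⟨rfl, h2⟩).2, (st_map hg l).symm⟩

theorem stb_single {a : X} (ha : a ∈ Ω) : Stb Γ Ω (st Γ [a]) := ⟨[a], by simp, by simpa, rfl⟩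

/-- local stabilisers contain `Y` -/
theorem Stb.ge_of_fx {Y P : Subgroup G} (hY : Y ≤ Γ) (h : Stb Γ (Fx Ω Y) P) : Y ≤ P := by
  obtain ⟨l, -, h2, rfl⟩ := h
  exact fun g hg => mem_st.2 ⟨hY hg, fun a ha => (h2 a ha).2 g hg⟩

theorem Stb.ge_loc {Y P : Subgroup G} (hY : Y ≤ Γ) (h : Stb (Γ ⊓ 𝐍(Y)) (Fx Ω Y) P) : Y ≤ P :=
  h.ge_of_fx (le_inf hY Subgroup.le_normalizer)

/-- a local stabiliser is `N_Q(Y)` for a global stabiliser `Q ≥ Y` -/
theorem Stb.exists_glob {Y H P : Subgroup G} (hY : Y ≤ Γ) (h : Stb (Γ ⊓ H) (Fx Ω Y) P) :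
    ∃ Q, Stb Γ Ω Q ∧ Y ≤ Q ∧ P = Q ⊓ H := by
  obtain ⟨l, h1, h2, rfl⟩ := h
  exact ⟨st Γ l, ⟨l, h1, fun a ha => (h2 a ha).1, rfl⟩,
    Stb.ge_of_fx hY ⟨l, h1, h2, rfl⟩, st_inf H l⟩

/-- the points fixed by `Y` under a subgroup normalising `Y` -/
theorem Geo.fx (hG : Geo p Γ Ω) {Y H : Subgroup G} (hY : Y ≤ Γ) (hp : IsPGroup p Y) (hH : H ≤ Γ)
    (hn : H ≤ 𝐍(Y)) : Geo p H (Fx Ω Y) where
  inv g hg a ha := ⟨hG.inv g (hH hg) a ha.1, fun y hy => by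
    have := ha.2 _ (conj_mem_of_mem_normalizer' (hn hg) hy)
    rw [mul_smul, mul_smul, inv_smul_eq_iff] at this
    exact this⟩
  pg a ha := IsPGroup.le' (hG.pg a ha.1) (inf_le_inf_right _ hH)
  fix P hP hPp := by
    obtain ⟨a, ha, h⟩ := hG.fix (P ⊔ Y) (sup_le (hP.trans hH) hY)
      (pgroup_sup hPp hp (Or.inl (hP.trans hn)))
    exact ⟨a, ⟨ha, fun g hg => h g (mem_sup_right hg)⟩, fun g hg => h g (mem_sup_left hg)⟩

theorem Geo.loc (hG : Geo p Γ Ω) {Y : Subgroup G} (hY : Y ≤ Γ) (hp : IsPGroup p Y) :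
    Geo p (Γ ⊓ 𝐍(Y)) (Fx Ω Y) := hG.fx hY hp inf_le_left inf_le_right

theorem Geo.sub (hG : Geo p Γ Ω) {H : Subgroup G} (hH : H ≤ Γ) : Geo p H Ω where
  inv g hg := hG.inv g (hH hg)
  pg a ha := IsPGroup.le' (hG.pg a ha) (inf_le_inf_right _ hH)
  fix P hP := hG.fix P (hP.trans hH)

/-- a Sylow subgroup is a point stabiliser -/
theorem Geo.exists_st (hG : Geo p Γ Ω) {S : Subgroup G} (hS : IsSylowIn p S Γ) :
    ∃ a ∈ Ω, st Γ [a] = S := by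
  obtain ⟨a, ha, h⟩ := hG.fix S hS.le hS.isPGroup
  exact ⟨a, ha, hS.maximal _ ((stb_single ha).pg hG)
    (fun g hg => mem_st.2 ⟨hS.le hg, by simpa using h g hg⟩) (st_le _)⟩

/-! ### actions, systems -/

theorem Act.sub (hA : Act Γ ρ) {H : Subgroup G} (hH : H ≤ Γ) : Act H ρ :=
  ⟨hA.one, fun g hg h hh => hA.mul g (hH hg) h (hH hh)⟩

theorem Act.inv_apply (hA : Act Γ ρ) {g : G} (hg : g ∈ Γ) (x : M) : ρ g⁻¹ (ρ g x) = x := by
  rw [← hA.mul _ (inv_mem hg) _ hg, inv_mul_cancel, hA.one]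

theorem Act.apply_inv (hA : Act Γ ρ) {g : G} (hg : g ∈ Γ) (x : M) : ρ g (ρ g⁻¹ x) = x := by
  rw [← hA.mul _ hg _ (inv_mem hg), mul_inv_cancel, hA.one]

theorem Act.inj (hA : Act Γ ρ) {g : G} (hg : g ∈ Γ) : Function.Injective (ρ g) :=
  Function.LeftInverse.injective (hA.inv_apply hg)

theorem Act.pow_fix (hA : Act Γ ρ) {g : G} (hg : g ∈ Γ) {x : M} (h : ρ g x = x) (n : ℕ) :
    ρ (g ^ n) x = x := by
  induction n with
  | zero => simpa using hA.one x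
  | succ n ih => rw [pow_succ, hA.mul _ (pow_mem hg n) _ hg, h, ih]

theorem act_ac {D : Type} [AddCommGroup D] [DistribMulAction G D] (Γ : Subgroup G) :
    Act Γ (ac G D) := ⟨fun x => one_smul G x, fun g _ h _ x => mul_smul g h x⟩

@[simp] theorem ac_apply {D : Type} [AddCommGroup D] [DistribMulAction G D] (g : G) (x : D) :
    ac G D g x = g • x := rfl

theorem Sys.sub {U : Subgroup G → AddSubgroup M} (h : Sys p Γ ρ U) {H : Subgroup G} (hH : H ≤ Γ) :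
    Sys p H ρ U :=
  ⟨fun P Q h1 h2 => h.anti P Q h1 (h2.trans hH),
    fun g hg P hP => h.conj g (hH hg) P (hP.trans hH), fun P hP => h.fix P (hP.trans hH)⟩

theorem Le.sub {U W : Subgroup G → AddSubgroup M} (h : Le p Γ W U) {H : Subgroup G} (hH : H ≤ Γ) :
    Le p H W U := fun P hP => h P (hP.trans hH)

theorem Le.stb {U W : Subgroup G → AddSubgroup M} (h : Le p Γ W U) (hG : Geo p Γ Ω) :
    ∀ P, Stb Γ Ω P → W P ≤ U P := fun P hP => h P hP.le (hP.pg hG)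

theorem Up.sub {𝒰 : Subgroup G → Prop} (h : Up p Γ 𝒰) {H : Subgroup G} (hH : H ≤ Γ) : Up p H 𝒰 :=
  ⟨fun P Q h1 h2 => h.mono P Q h1 (h2.trans hH), fun g hg P hP => h.conj g (hH hg) P (hP.trans hH)⟩

theorem Up.conj_iff {𝒰 : Subgroup G → Prop} (h : Up p Γ 𝒰) {g : G} (hg : g ∈ Γ) {P : Subgroup G}
    (hP : P ≤ Γ) (hp : IsPGroup p P) : 𝒰 (g ⋆ P) ↔ 𝒰 P :=
  ⟨fun h' => by
    simpa using h.conj g⁻¹ (inv_mem hg) _ (conj_le_of_mem hg hP) (pgroup_conj hp g) h',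
    h.conj g hg P hP hp⟩

theorem Mod.sub {D : AddSubgroup M} (h : Mod p Γ ρ D) {H : Subgroup G} (hH : H ≤ Γ) :
    Mod p H ρ D := ⟨fun g hg => h.inv g (hH hg), h.fin, h.tor⟩

theorem NG.sub {D : AddSubgroup M} {𝒜 : Subgroup G → Prop} (h : NG p Γ ρ D 𝒜) {H : Subgroup G}
    (hH : H ≤ Γ) : NG p H ρ D 𝒜 :=
  ⟨fun g hg A hA => h.conj g (hH hg) A (hA.trans hH), fun A hA => h.norm A (hA.trans hH)⟩

theorem RJ.up {r : Subgroup G → ℕ} {j : Subgroup G → Subgroup G} (h : RJ p Γ r j) (n : ℕ) :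
    Up p Γ (fun P => n < r P) :=
  ⟨fun P Q h1 h2 h3 h4 => h4.trans_le (h.mono P Q h1 h2 h3),
    fun g hg P h1 h2 h3 => by rwa [h.rconj g hg P h1 h2]⟩

theorem mem_fx {D : AddSubgroup M} {P : Subgroup G} {x : M} :
    x ∈ fx ρ D P ↔ x ∈ D ∧ ∀ g ∈ P, ρ g x = x := Iff.rfl

theorem fx_le (D : AddSubgroup M) (P : Subgroup G) : fx ρ D P ≤ D := fun _ h => h.1

theorem fx_anti (D : AddSubgroup M) {P Q : Subgroup G} (h : P ≤ Q) : fx ρ D Q ≤ fx ρ D P :=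
  fun _ hx => ⟨hx.1, fun g hg => hx.2 g (h hg)⟩

theorem fx_mono {D D' : AddSubgroup M} (h : D ≤ D') (P : Subgroup G) : fx ρ D P ≤ fx ρ D' P :=
  fun _ hx => ⟨h hx.1, hx.2⟩

theorem fx_fx (D : AddSubgroup M) {Y P : Subgroup G} (h : Y ≤ P) :
    fx ρ (fx ρ D Y) P = fx ρ D P :=
  le_antisymm (fx_mono (fx_le _ _) _) fun _ hx => ⟨fx_anti D h hx, hx.2⟩

theorem fx_conj (hA : Act Γ ρ) {D : AddSubgroup M} (hD : ∀ g ∈ Γ, ∀ x ∈ D, ρ g x ∈ D) {g : G}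
    (hg : g ∈ Γ) {P : Subgroup G} (hP : P ≤ Γ) {x : M} (hx : x ∈ fx ρ D P) :
    ρ g x ∈ fx ρ D (g ⋆ P) := ⟨hD g hg x hx.1, fun y hy => by
  obtain ⟨z, hz, rfl⟩ := mem_conj'.1 hy
  rw [← hA.mul _ (mul_mem (mul_mem hg (hP hz)) (inv_mem hg)) _ hg, inv_mul_cancel_right,
    hA.mul _ hg _ (hP hz), hx.2 z hz]⟩

theorem sys_fx (hA : Act Γ ρ) {D : AddSubgroup M} (hD : ∀ g ∈ Γ, ∀ x ∈ D, ρ g x ∈ D) :
    Sys p Γ ρ (fx ρ D) :=
  ⟨fun _ _ h _ _ => fx_anti D h, fun _ hg _ hP _ _ hx => fx_conj hA hD hg hP hx,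
    fun _ _ _ _ hx => hx.2⟩

theorem Mod.fx (hA : Act Γ ρ) {D : AddSubgroup M} (h : Mod p Γ ρ D) {Y H : Subgroup G}
    (hY : Y ≤ Γ) (hH : H ≤ Γ) (hn : H ≤ 𝐍(Y)) : Mod p H ρ (fx ρ D Y) where
  inv g hg x hx := by
    have := fx_conj hA h.inv (hH hg) hY hx
    rwa [conj_of_mem_norm (hn hg)] at this
  fin := have := h.fin; Finite.of_injective _ (AddSubgroup.inclusion_injective (fx_le D Y))
  tor := let ⟨e, he⟩ := h.tor; ⟨e, fun x hx => he x hx.1⟩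

@[simp] theorem mem_zr {P : Subgroup G} {x : M} : x ∈ (zr P : AddSubgroup M) ↔ x = 0 :=
  AddSubgroup.mem_bot

theorem zr_le (P : Subgroup G) (V : AddSubgroup M) : (zr P : AddSubgroup M) ≤ V := bot_le

theorem sys_zr : Sys p Γ ρ zr :=
  ⟨fun _ _ _ _ _ => le_rfl, fun _ _ _ _ _ x hx => by simp [mem_zr.1 hx],
    fun _ _ _ x hx _ _ => by simp [mem_zr.1 hx]⟩

section Mix
variable {𝒰 : Subgroup G → Prop} {U W : Subgroup G → AddSubgroup M} {P : Subgroup G}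

theorem mix_pos (h : 𝒰 P) : mix 𝒰 U W P = W P := if_pos h
theorem mix_neg (h : ¬ 𝒰 P) : mix 𝒰 U W P = U P := if_neg h

theorem mix_le (h : W P ≤ U P) : mix 𝒰 U W P ≤ U P := by
  by_cases h' : 𝒰 P
  · rwa [mix_pos h']
  · rw [mix_neg h']

theorem le_mix (h : W P ≤ U P) : W P ≤ mix 𝒰 U W P := by
  by_cases h' : 𝒰 P
  · rw [mix_pos h']
  · rwa [mix_neg h']

theorem Sys.mix (hU : Sys p Γ ρ U) (hW : Sys p Γ ρ W) (hle : Le p Γ W U) (h : Up p Γ 𝒰) :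
    Sys p Γ ρ (mix 𝒰 U W) where
  anti P Q h1 h2 h3 := by
    by_cases hQ : 𝒰 Q
    · rw [mix_pos hQ]
      exact (hW.anti P Q h1 h2 h3).trans (le_mix (hle P (h1.trans h2) (IsPGroup.le' h3 h1)))
    · rw [mix_neg hQ, mix_neg fun hP => hQ (h.mono P Q h1 h2 h3 hP)]
      exact hU.anti P Q h1 h2 h3
  conj g hg P h1 h2 x hx := by
    by_cases hP : 𝒰 P
    · rw [mix_pos hP] at hx; rw [mix_pos ((h.conj_iff hg h1 h2).2 hP)]
      exact hW.conj g hg P h1 h2 x hx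
    · rw [mix_neg hP] at hx; rw [mix_neg (mt (h.conj_iff hg h1 h2).1 hP)]
      exact hU.conj g hg P h1 h2 x hx
  fix P h1 h2 x hx := hU.fix P h1 h2 x (mix_le (hle P h1 h2) hx)

theorem Le.mix_left (hle : Le p Γ W U) (𝒰 : Subgroup G → Prop) : Le p Γ (mix 𝒰 U W) U :=
  fun P h1 h2 => mix_le (hle P h1 h2)

theorem Le.mix_right (hle : Le p Γ W U) (𝒰 : Subgroup G → Prop) : Le p Γ W (mix 𝒰 U W) :=
  fun P h1 h2 => le_mix (hle P h1 h2)

theorem le_zr (U : Subgroup G → AddSubgroup M) : Le p Γ zr U := fun _ _ _ => bot_le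

end Mix

/-! ### `JJ` -/

theorem JJ_le (𝒜 : Subgroup G → Prop) (P : Subgroup G) : JJ 𝒜 P ≤ P := sSup_le fun _ h => h.2

theorem le_JJ {𝒜 : Subgroup G → Prop} {A P : Subgroup G} (h : 𝒜 A) (hA : A ≤ P) : A ≤ JJ 𝒜 P :=
  le_sSup ⟨h, hA⟩

theorem JJ_le_iff {𝒜 : Subgroup G → Prop} {P Q : Subgroup G} :
    JJ 𝒜 P ≤ Q ↔ ∀ A, 𝒜 A → A ≤ P → A ≤ Q :=
  ⟨fun h _ h1 h2 => (le_JJ h1 h2).trans h, fun h => sSup_le fun A hA => h A hA.1 hA.2⟩

theorem JJ_mono (𝒜 : Subgroup G → Prop) {P Q : Subgroup G} (h : P ≤ Q) : JJ 𝒜 P ≤ JJ 𝒜 Q :=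
  JJ_le_iff.2 fun _ h1 h2 => le_JJ h1 (h2.trans h)

theorem JJ_JJ (𝒜 : Subgroup G → Prop) (P : Subgroup G) : JJ 𝒜 (JJ 𝒜 P) = JJ 𝒜 P :=
  le_antisymm (JJ_le _ _) (JJ_le_iff.2 fun _ h1 h2 => le_JJ h1 (le_JJ h1 h2))

theorem JJ_conj {𝒜 : Subgroup G → Prop} (h : ∀ g ∈ Γ, ∀ A : Subgroup G, A ≤ Γ → 𝒜 A → 𝒜 (g ⋆ A))
    {g : G} (hg : g ∈ Γ) {P : Subgroup G} (hP : P ≤ Γ) : JJ 𝒜 (g ⋆ P) = g ⋆ JJ 𝒜 P := by
  refine le_antisymm (JJ_le_iff.2 fun A h1 h2 => ?_) ?_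
  · rw [le_conj_iff] at h2 ⊢
    exact le_JJ (h _ (inv_mem hg) A ((le_conj_iff.2 h2).trans (conj_le_of_mem hg hP)) h1) h2
  · rw [conj_le_iff]
    exact JJ_le_iff.2 fun A h1 h2 =>
      conj_le_iff.1 (le_JJ (h g hg A (h2.trans hP) h1) (conj_mono g h2))

theorem rj_JJ [Finite G] {𝒜 : Subgroup G → Prop}
    (h : ∀ g ∈ Γ, ∀ A : Subgroup G, A ≤ Γ → 𝒜 A → 𝒜 (g ⋆ A)) :
    RJ p Γ (fun P => #|JJ 𝒜 P|) (JJ 𝒜) where
  mono _ _ h1 _ _ := Subgroup.card_le_of_le (JJ_mono 𝒜 h1)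
  rconj g hg P h1 _ := by rw [JJ_conj h hg h1, card_conj]
  jconj g hg P h1 _ := JJ_conj h hg h1
  jle P _ _ := JJ_le 𝒜 P
  rj P _ _ := by rw [JJ_JJ]
  jeq _ _ h1 _ _ h2 := Subgroup.eq_of_le_of_card_ge (JJ_mono 𝒜 h1) h2.ge

theorem rj_inf [Finite G] {K : Subgroup G} (hK : Γ ≤ 𝐍(K)) :
    RJ p Γ (fun P => #|P ⊓ K|) (fun P => P ⊓ K) where
  mono _ _ h1 _ _ := Subgroup.card_le_of_le (inf_le_inf_right K h1)
  rconj g hg P _ _ := by
    rw [← card_conj g (P ⊓ K), conj_inf, conj_of_mem_norm (hK hg)]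
  jconj g hg P _ _ := by rw [conj_inf, conj_of_mem_norm (hK hg)]
  jle _ _ _ := inf_le_left
  rj P _ _ := by rw [inf_assoc, inf_idem]
  jeq _ _ h1 _ _ h2 := Subgroup.eq_of_le_of_card_ge (inf_le_inf_right K h1) h2.ge

theorem rj_card [Finite G] : RJ p Γ (fun P => #|P|) (fun P => P) where
  mono _ _ h1 _ _ := Subgroup.card_le_of_le h1
  rconj g _ P _ _ := card_conj g P
  jconj _ _ _ _ _ := rfl
  jle _ _ _ := le_rfl
  rj _ _ _ := rfl
  jeq _ _ h1 _ _ h2 := Subgroup.eq_of_le_of_card_ge h1 h2.ge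

/-- normalisers grow: a local stabiliser of minimal rank is a global one -/
theorem RJ.le_norm [Finite G] [hp : Fact p.Prime] {r : Subgroup G → ℕ}
    {j : Subgroup G → Subgroup G} (h : RJ p Γ r j) {Y Q : Subgroup G} (hY : j Y = Y) (hYQ : Y ≤ Q)
    (hQ : Q ≤ Γ) (hQp : IsPGroup p Q) (hr : r (Q ⊓ 𝐍(Y)) ≤ r Y) : Q ≤ 𝐍(Y) ∧ j Q = Y := by
  have h1 : Y ≤ Q ⊓ 𝐍(Y) := le_inf hYQ Subgroup.le_normalizer
  have h2 : Q ⊓ 𝐍(Y) ≤ Γ := inf_le_left.trans hQ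
  have h3 : IsPGroup p ↥(Q ⊓ 𝐍(Y)) := IsPGroup.le' hQp inf_le_left
  have hj : j (Q ⊓ 𝐍(Y)) = Y :=
    (h.jeq _ _ h1 h2 h3 (le_antisymm (h.mono _ _ h1 h2 h3) hr)).symm.trans hY
  have h4 : Q ≤ 𝐍(Y) := by
    by_contra hn
    have hlt : Q ⊓ 𝐍(Y) < Q := lt_of_le_of_ne inf_le_left fun e => hn (e ▸ inf_le_right)
    refine (lt_inf_norm_of_nil (pgroup_nil hp.out hQp) hlt).not_ge fun g hg => ⟨hg.1, ?_⟩
    have := h.jconj g (hQ hg.1) _ h2 h3
    rw [conj_of_mem_norm hg.2, hj] at this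
    exact conj_eq_self_iff.1 this.symm
  exact ⟨h4, by rwa [inf_eq_left.2 h4] at hj⟩

theorem exists_T [Finite G] [hp : Fact p.Prime] {P K : Subgroup G} (hP : IsPGroup p P)
    (hn : P ≤ 𝐍(K)) (h : ¬ IsSylowIn p (P ⊓ K) K) :
    ∃ T : Subgroup G, T ≤ K ∧ T ≤ 𝐍(P) ∧ IsPGroup p T ∧ ¬ T ≤ P := by
  obtain ⟨S, hS, hPS⟩ := exists_isSylowIn_ge hP (le_sup_left : P ≤ P ⊔ K)
  have hK : K ⊴ P ⊔ K := ⟨le_sup_right, sup_le hn Subgroup.le_normalizer⟩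
  have h1 := sylow_inf_normal' hp.out hS hK
  have h2 : ¬ S ⊓ K ≤ P := fun e => h (by
    rwa [show P ⊓ K = S ⊓ K from le_antisymm (inf_le_inf_right K hPS) (le_inf e inf_le_right)])
  have h3 : P < P ⊔ (S ⊓ K) := lt_of_le_of_ne le_sup_left fun e => h2 (e ▸ le_sup_right)
  have h4 : IsPGroup p ↥(P ⊔ (S ⊓ K)) := IsPGroup.le' hS.isPGroup (sup_le hPS inf_le_left)
  have h5 := lt_inf_norm_of_nil (pgroup_nil hp.out h4) h3
  have hn' : P ≤ 𝐍(S ⊓ K) := fun g hg => conj_eq_self_iff.1 (by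
    rw [conj_inf, conj_of_mem (hPS hg), conj_of_mem_norm (hn hg)])
  rw [sup_inf_modular Subgroup.le_normalizer (Or.inr hn')] at h5
  exact ⟨S ⊓ K ⊓ 𝐍(P), inf_le_left.trans inf_le_right, inf_le_right,
    IsPGroup.le' hS.isPGroup (inf_le_left.trans inf_le_left),
    fun e => h5.not_ge (sup_le le_rfl e)⟩

/-! ### the coboundary -/

@[simp] theorem dd_nil (f : List X → M) : dd f [] = 0 := rfl
theorem dd_cons (f : List X → M) (a : X) (l : List X) :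
    dd f (a :: l) = f l - dd (fun t => f (a :: t)) l := rfl
theorem dd_one (f : List X → M) (a : X) : dd f [a] = f [] := by simp [dd_cons]
theorem dd_two (f : List X → M) (a b : X) : dd f [a, b] = f [b] - f [a] := by simp [dd_cons]
theorem dd_three (f : List X → M) (a b c : X) :
    dd f [a, b, c] = f [b, c] - f [a, c] + f [a, b] := by simp [dd_cons]; abel

theorem dd_congr {f g : List X → M} {l : List X}
    (h : ∀ l', l'.Sublist l → l'.length + 1 = l.length → f l' = g l') : dd f l = dd g l := by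
  induction l generalizing f g with
  | nil => rfl
  | cons a l ih =>
    rw [dd_cons, dd_cons, h l (List.sublist_cons_self a l) rfl,
      ih fun l' h1 h2 => h _ (h1.cons₂ a) (by simp [h2])]

theorem dd_mem {V : AddSubgroup M} {f : List X → M} {l : List X}
    (h : ∀ l', l'.Sublist l → l'.length + 1 = l.length → f l' ∈ V) : dd f l ∈ V := by
  induction l generalizing f with
  | nil => exact zero_mem V
  | cons a l ih =>
    exact sub_mem (h l (List.sublist_cons_self a l) rfl)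
      (ih fun l' h1 h2 => h _ (h1.cons₂ a) (by simp [h2]))

theorem map_dd {M' : Type} [AddCommGroup M'] (φ : M →+ M') (f : List X → M) (l : List X) :
    φ (dd f l) = dd (fun t => φ (f t)) l := by
  induction l generalizing f with
  | nil => simp
  | cons a l ih => rw [dd_cons, dd_cons, map_sub, ih]

theorem dd_map {X' : Type} (σ : X → X') (f : List X' → M) (l : List X) :
    dd f (l.map σ) = dd (fun t => f (t.map σ)) l := by
  induction l generalizing f with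
  | nil => rfl
  | cons a l ih => rw [List.map_cons, dd_cons, dd_cons, ih]; rfl

theorem dd_add (f g : List X → M) (l : List X) : dd (f + g) l = dd f l + dd g l := by
  induction l generalizing f g with
  | nil => simp
  | cons a l ih =>
    rw [dd_cons, dd_cons, dd_cons]
    have := ih (fun t => f (a :: t)) (fun t => g (a :: t))
    rw [show (fun t => (f + g) (a :: t)) = (fun t => f (a :: t)) + fun t => g (a :: t) from rfl,
      this, Pi.add_apply]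
    abel

theorem dd_zero (l : List X) : dd (0 : List X → M) l = 0 :=
  AddSubgroup.mem_bot.1 (dd_mem fun _ _ _ => zero_mem _)

theorem dd_neg (f : List X → M) (l : List X) : dd (-f) l = - dd f l :=
  (map_dd (-AddMonoidHom.id M) f l).symm

theorem dd_sub (f g : List X → M) (l : List X) : dd (f - g) l = dd f l - dd g l := by
  rw [sub_eq_add_neg, dd_add, dd_neg, sub_eq_add_neg]

theorem dd_nsmul (n : ℕ) (f : List X → M) (l : List X) : dd (n • f) l = n • dd f l :=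
  (map_dd (nsmulAddMonoidHom n) f l).symm

theorem dd_sum {ι : Type} (s : Finset ι) (f : ι → List X → M) (l : List X) :
    dd (∑ i ∈ s, f i) l = ∑ i ∈ s, dd (f i) l := by
  classical
  induction s using Finset.induction_on with
  | empty => simpa using dd_zero l
  | insert i s hi ih => rw [Finset.sum_insert hi, Finset.sum_insert hi, dd_add, ih]

theorem dd_dd (f : List X → M) (l : List X) : dd (dd f) l = 0 := by
  induction l generalizing f with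
  | nil => rfl
  | cons a l ih =>
    rw [dd_cons, show (fun t => dd f (a :: t)) = f - dd (fun t => f (a :: t)) from rfl, dd_sub, ih]
    simp

theorem dd_prod {M' : Type} [AddCommGroup M'] (f : List X → M) (f' : List X → M') (l : List X) :
    dd (fun t => (f t, f' t)) l = (dd f l, dd f' l) :=
  Prod.ext (map_dd (AddMonoidHom.fst M M') _ l) (map_dd (AddMonoidHom.snd M M') _ l)

theorem dd_eqv {n : ℕ} {f : List X → M}
    (h : ∀ g ∈ Γ, ∀ l, On Ω n l → f (l.map (g • ·)) = ρ g (f l)) :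
    ∀ g ∈ Γ, ∀ l, On Ω (n + 1) l → dd f (l.map (g • ·)) = ρ g (dd f l) := fun g hg l hl => by
  rw [dd_map, map_dd]
  exact dd_congr fun l' h1 h2 => h g hg l' (hl.sublist h1 h2)

section Co
variable {U U' W W' : Subgroup G → AddSubgroup M} {n m : ℕ} {f g : List X → M}

theorem co_zero : Co Γ Ω ρ U n 0 := ⟨fun _ _ _ _ => by simp, fun _ _ _ => zero_mem _, fun _ => rfl⟩

theorem Co.add (hf : Co Γ Ω ρ U n f) (hg : Co Γ Ω ρ U n g) : Co Γ Ω ρ U n (f + g) :=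
  ⟨fun x hx l hl => by simp [hf.eqv x hx l hl, hg.eqv x hx l hl],
    fun l hl h => add_mem (hf.mem l hl h) (hg.mem l hl h), fun h => by simp [hf.nil h, hg.nil h]⟩

theorem Co.sub (hf : Co Γ Ω ρ U n f) (hg : Co Γ Ω ρ U n g) : Co Γ Ω ρ U n (f - g) :=
  ⟨fun x hx l hl => by simp [hf.eqv x hx l hl, hg.eqv x hx l hl],
    fun l hl h => sub_mem (hf.mem l hl h) (hg.mem l hl h), fun h => by simp [hf.nil h, hg.nil h]⟩

theorem Co.mono (hf : Co Γ Ω ρ U n f) (h : ∀ P, Stb Γ Ω P → U P ≤ U' P) : Co Γ Ω ρ U' n f :=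
  ⟨hf.eqv, fun l hl h' => h _ (hl.stb' h') (hf.mem l hl h'), hf.nil⟩

theorem Co.mem' (hf : Co Γ Ω ρ U (n + 1) f) {l : List X} (hl : On Ω (n + 1) l) :
    f l ∈ U (st Γ l) := hf.mem l hl hl.ne_nil

theorem co_succ (h1 : ∀ g ∈ Γ, ∀ l, On Ω (n + 1) l → f (l.map (g • ·)) = ρ g (f l))
    (h2 : ∀ l, On Ω (n + 1) l → f l ∈ U (st Γ l)) : Co Γ Ω ρ U (n + 1) f :=
  ⟨h1, fun l hl _ => h2 l hl, fun h => absurd h (by simp)⟩

/-- `f - d g` as a cochain -/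
theorem Co.sub_dd (hf : Co Γ Ω ρ U (n + 1) f) (hg : Co Γ Ω ρ W n g)
    (h : ∀ l, On Ω (n + 1) l → f l - dd g l ∈ U' (st Γ l)) : Co Γ Ω ρ U' (n + 1) (f - dd g) :=
  co_succ (fun x hx l hl => by
    simp only [Pi.sub_apply, map_sub, hf.eqv x hx l hl, dd_eqv hg.eqv x hx l hl]) h

theorem Co.dd (hf : Co Γ Ω ρ U n f) (h : ∀ l, On Ω (n + 1) l → dd f l ∈ U' (st Γ l)) :
    Co Γ Ω ρ U' (n + 1) (dd f) := co_succ (dd_eqv hf.eqv) h

/-- the coboundary of a cochain lies in the system -/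
theorem Co.dd_mem (hf : Co Γ Ω ρ U n f)
    (hU : ∀ P Q, Stb Γ Ω P → Stb Γ Ω Q → P ≤ Q → U Q ≤ U P) {l : List X} (hl : On Ω (n + 1) l) :
    Ch.dd f l ∈ U (st Γ l) := Ch.dd_mem fun l' h1 h2 => by
  have h3 := hl.sublist h1 h2
  by_cases h4 : l' = []
  · subst h4; rw [hf.nil h3.1.symm]; exact zero_mem _
  · exact hU _ _ hl.stb (h3.stb' h4) (st_sublist h1) (hf.mem l' h3 h4)

theorem Sys.anti_stb (h : Sys p Γ ρ U) (hG : Geo p Γ Ω) :
    ∀ P Q, Stb Γ Ω P → Stb Γ Ω Q → P ≤ Q → U Q ≤ U P :=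
  fun P Q _ hQ hPQ => h.anti P Q hPQ hQ.le (hQ.pg hG)

/-- an equivariant function with values in `D` is a cochain of the fixed point system -/
theorem co_fx {D : AddSubgroup M}
    (h1 : ∀ g ∈ Γ, ∀ l, On Ω (n + 1) l → f (l.map (g • ·)) = ρ g (f l))
    (h2 : ∀ l, On Ω (n + 1) l → f l ∈ D) : Co Γ Ω ρ (fx ρ D) (n + 1) f :=
  co_succ h1 fun l hl => ⟨h2 l hl, fun g hg => by
    rw [← h1 g (st_le l hg) l hl, map_smul_of_mem hg]⟩

theorem Ex.congr (h : Ex Γ Ω ρ U W m) (hU : ∀ P, Stb Γ Ω P → U P = U' P)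
    (hW : ∀ P, Stb Γ Ω P → W P = W' P) : Ex Γ Ω ρ U' W' m := fun f hf hd => by
  obtain ⟨g, hg, h'⟩ := h f (hf.mono fun P hP => (hU P hP).ge) fun l hl => by
    rw [hW _ hl.stb]; exact hd l hl
  exact ⟨g, hg.mono fun P hP => (hU P hP).le, fun l hl => by rw [← hW _ hl.stb]; exact h' l hl⟩

theorem Ex.of_le (h : ∀ P, Stb Γ Ω P → U P ≤ W P) : Ex Γ Ω ρ U W m := fun f hf _ =>
  ⟨0, co_zero, fun l hl => by rw [dd_zero, sub_zero]; exact h _ hl.stb (hf.mem' hl)⟩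

theorem Ex.trans (h1 : Ex Γ Ω ρ U U' m) (h2 : Ex Γ Ω ρ U' W m)
    (hW : ∀ P, Stb Γ Ω P → W P ≤ U' P) (hU : ∀ P, Stb Γ Ω P → U' P ≤ U P) : Ex Γ Ω ρ U W m :=
  fun f hf hd => by
  obtain ⟨g, hg, h'⟩ := h1 f hf fun l hl => hW _ hl.stb (hd l hl)
  obtain ⟨g', hg', h''⟩ := h2 _ (hf.sub_dd hg h') fun l hl => by
    rw [dd_sub, dd_dd, sub_zero]; exact hd l hl
  exact ⟨g + g', hg.add (hg'.mono hU), fun l hl => by
    rw [dd_add, ← sub_sub]; exact h'' l hl⟩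

theorem Ex.sub (h1 : Ex Γ Ω ρ U W (m + 1)) (h2 : Ex Γ Ω ρ U U' m)
    (hW : ∀ P, Stb Γ Ω P → W P ≤ U' P) (hU : ∀ P, Stb Γ Ω P → U' P ≤ U P) :
    Ex Γ Ω ρ U' W (m + 1) := fun f hf hd => by
  obtain ⟨g, hg, h'⟩ := h1 f (hf.mono hU) hd
  obtain ⟨k, hk, h''⟩ := h2 g hg fun l hl => by
    simpa using sub_mem (hf.mem' hl) (hW _ hl.stb (h' l hl))
  exact ⟨g - dd k, hg.sub_dd hk h'', fun l hl => by
    rw [dd_sub, dd_dd, sub_zero]; exact h' l hl⟩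

theorem Ex.quot (h1 : Ex Γ Ω ρ U W m) (h2 : Ex Γ Ω ρ U' W (m + 1))
    (hW : ∀ P, Stb Γ Ω P → W P ≤ U' P) (hU : ∀ P, Stb Γ Ω P → U' P ≤ U P) :
    Ex Γ Ω ρ U U' m := fun f hf hd => by
  obtain ⟨g, hg, h'⟩ := h2 _ (hf.dd hd) fun l _ => by rw [dd_dd]; exact zero_mem _
  obtain ⟨k, hk, h''⟩ := h1 _ (hf.sub (hg.mono hU)) fun l hl => by rw [dd_sub]; exact h' l hl
  exact ⟨k, hk, fun l hl => by
    have := add_mem (hW _ hl.stb (h'' l hl)) (hg.mem' hl)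
    simp only [Pi.sub_apply] at this
    rwa [show f l - g l - dd k l + g l = f l - dd k l by abel] at this⟩

end Co

/-- transport along a homomorphism compatible with the actions on `X` -/
theorem ex_map_iff {G' : Type} [Group G'] [MulAction G' X] (φ : G →* G')
    (hφ : ∀ (g : G) (a : X), φ g • a = g • a) {ρ' : G' → M →+ M}
    {U W : Subgroup G' → AddSubgroup M} {m : ℕ} :
    Ex (Γ.map φ) Ω ρ' U W m ↔
      Ex Γ Ω (fun g => ρ' (φ g)) (fun P => U (P.map φ)) (fun P => W (P.map φ)) m := by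
  have h1 : ∀ l : List X, st (Γ.map φ) l = (st Γ l).map φ := fun l => by
    ext x
    simp only [mem_st, Subgroup.mem_map]
    constructor
    · rintro ⟨⟨g, hg, rfl⟩, h⟩; exact ⟨g, ⟨hg, fun a ha => by rw [← hφ, h a ha]⟩, rfl⟩
    · rintro ⟨g, ⟨hg, h⟩, rfl⟩; exact ⟨⟨g, hg, rfl⟩, fun a ha => by rw [hφ, h a ha]⟩
  have h2 : ∀ (V : Subgroup G' → AddSubgroup M) (n : ℕ) (f : List X → M),
      Co (Γ.map φ) Ω ρ' V n f ↔ Co Γ Ω (fun g => ρ' (φ g)) (fun P => V (P.map φ)) n f :=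
    fun V n f => ⟨fun h => ⟨fun g hg l hl => by
        simpa only [hφ] using h.eqv (φ g) (Subgroup.mem_map_of_mem φ hg) l hl,
        fun l hl h' => h1 l ▸ h.mem l hl h', h.nil⟩,
      fun h => ⟨by
        rintro _ ⟨g, hg, rfl⟩ l hl
        simpa only [hφ] using h.eqv g hg l hl, fun l hl h' => (h1 l).symm ▸ h.mem l hl h', h.nil⟩⟩
  simp only [Ex, h1, h2]

/-- equivariant choice -/
theorem exists_equivariant {T V : Type} [Nonempty V] (Γ : Subgroup G) (α : G → T → T)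
    (β : G → V → V) (S : Set T) (R : T → V → Prop) (h1 : ∀ t ∈ S, α 1 t = t)
    (h2 : ∀ g ∈ Γ, ∀ h ∈ Γ, ∀ t ∈ S, α (g * h) t = α g (α h t))
    (h3 : ∀ g ∈ Γ, ∀ t ∈ S, α g t ∈ S) (h4 : ∀ v, β 1 v = v)
    (h5 : ∀ g ∈ Γ, ∀ h ∈ Γ, ∀ v, β (g * h) v = β g (β h v))
    (h6 : ∀ g ∈ Γ, ∀ t ∈ S, ∀ v, R t v → R (α g t) (β g v))
    (h7 : ∀ t ∈ S, ∃ v, R t v ∧ ∀ g ∈ Γ, α g t = t → β g v = v) :
    ∃ F : T → V, (∀ t ∈ S, R t (F t)) ∧ ∀ g ∈ Γ, ∀ t ∈ S, F (α g t) = β g (F t) := by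
  classical
  let O : T → Set T := fun t => {s | s ∈ S ∧ ∃ g ∈ Γ, α g s = t}
  have hO : ∀ g ∈ Γ, ∀ t ∈ S, O (α g t) = O t := fun g hg t ht => by
    ext s
    constructor
    · rintro ⟨hs, k, hk, e⟩
      exact ⟨hs, g⁻¹ * k, mul_mem (inv_mem hg) hk, by
        rw [h2 _ (inv_mem hg) _ hk s hs, e, ← h2 _ (inv_mem hg) _ hg t ht, inv_mul_cancel, h1 t ht]⟩
    · rintro ⟨hs, k, hk, e⟩
      exact ⟨hs, g * k, mul_mem hg hk, by rw [h2 _ hg _ hk s hs, e]⟩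
  have hne : ∀ t ∈ S, (O t).Nonempty := fun t ht => ⟨t, ht, 1, one_mem _, h1 t ht⟩
  let rep : Set T → T → T := fun A t => if h : A.Nonempty then h.some else t
  have hrep : ∀ t ∈ S, ∀ t', rep (O t) t' ∈ O t := fun t ht t' => by
    simp only [rep, dif_pos (hne t ht)]; exact (hne t ht).some_mem
  have hrep2 : ∀ t ∈ S, ∀ t', rep (O t) t' = rep (O t) t := fun t ht t' => by
    simp only [rep, dif_pos (hne t ht)]
  choose! v hv1 hv2 using h7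
  have hk : ∀ t, ∃ k, t ∈ S → k ∈ Γ ∧ α k (rep (O t) t) = t := fun t => by
    by_cases ht : t ∈ S
    · obtain ⟨-, k, hk, e⟩ := hrep t ht t; exact ⟨k, fun _ => ⟨hk, e⟩⟩
    · exact ⟨1, fun h => absurd h ht⟩
  choose k hk using hk
  refine ⟨fun t => β (k t) (v (rep (O t) t)), fun t ht => ?_, fun g hg t ht => ?_⟩
  · have := h6 _ (hk t ht).1 _ (hrep t ht t).1 _ (hv1 _ (hrep t ht t).1)
    rwa [(hk t ht).2] at this
  · have hgt := h3 g hg t ht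
    have e : rep (O (α g t)) (α g t) = rep (O t) t := by rw [hO g hg t ht, hrep2 t ht]
    obtain ⟨a1, a2⟩ := hk t ht
    obtain ⟨b1, b2⟩ := hk _ hgt
    rw [e] at b2
    have hs := (hrep t ht t).1
    simp only [e]
    have c1 : (g * k t)⁻¹ * k (α g t) ∈ Γ := mul_mem (inv_mem (mul_mem hg a1)) b1
    have c2 := hv2 _ hs _ c1 (by
      have e2 : α g t = α (g * k t) (rep (O t) t) := by rw [h2 _ hg _ a1 _ hs, a2]
      rw [h2 _ (inv_mem (mul_mem hg a1)) _ b1 _ hs, b2, e2,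
        ← h2 _ (inv_mem (mul_mem hg a1)) _ (mul_mem hg a1) _ hs, inv_mul_cancel, h1 _ hs])
    rw [← h5 _ hg _ a1]
    conv_rhs => rw [← c2]
    rw [← h5 _ (mul_mem hg a1) _ c1, mul_inv_cancel_left]

/-- equivariant choice of a cochain -/
theorem exists_cochain (hG : Geo p Γ Ω) (hA : Act Γ ρ) (n : ℕ) (R : List X → M → Prop)
    (h6 : ∀ g ∈ Γ, ∀ l, On Ω n l → ∀ v, R l v → R (l.map (g • ·)) (ρ g v))
    (h7 : ∀ l, On Ω n l → ∃ v, R l v ∧ ∀ g ∈ st Γ l, ρ g v = v) :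
    ∃ F : List X → M, (∀ l, On Ω n l → R l (F l)) ∧
      ∀ g ∈ Γ, ∀ l, On Ω n l → F (l.map (g • ·)) = ρ g (F l) :=
  exists_equivariant Γ (fun g (l : List X) => l.map (g • ·)) (fun g v => ρ g v) {l | On Ω n l} R
    (fun l _ => map_one_smul l) (fun g _ h _ l _ => map_mul_smul g h l)
    (fun _ hg _ hl => hG.on_map hg hl) hA.one hA.mul h6 fun l hl =>
      let ⟨v, h1, h2⟩ := h7 l hl
      ⟨v, h1, fun g hg e => h2 g (mem_st_of_map hg e)⟩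

end Cfsg.Agent.Ch
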