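import Cfsg.Agent.Ch.A

/-! The framework lemmas: correspondences, acyclicity of fixed point systems, localisation. -/

set_option autoImplicit false

namespace Cfsg.Agent.Ch

open Subgroup Cfsg.Agent.H1 Cfsg.Agent.L Cfsg.Agent.FT
open scoped Pointwise commutatorElement

variable {G : Type} [Group G] {X : Type} [MulAction G X] {M : Type} [AddCommGroup M]
  {p : ℕ} {Γ : Subgroup G} {Ω : Set X} {ρ : G → M →+ M}

section CM
variable {M' : Type} [AddCommGroup M'] {ρ' : G → M' →+ M'} {U W : Subgroup G → AddSubgroup M}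
  {U' W' : Subgroup G → AddSubgroup M'} {Θ : Subgroup G → AddSubgroup (M × M')}

theorem Corr.symm (h : Corr Γ Ω ρ ρ' U W U' W' Θ) :
    Corr Γ Ω ρ' ρ U' W' U W
      (fun P => (Θ P).comap (AddEquiv.prodComm : M' × M ≃+ M × M').toAddMonoidHom) where
  anti P Q h1 h2 h3 := AddSubgroup.comap_mono (h.anti P Q h1 h2 h3)
  conj g hg P hP x x' hx := h.conj g hg P hP x' x hx
  fix P hP x x' hx g hg := (h.fix P hP x' x hx g hg).symm
  left P hP x := h.right P hP x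
  right P hP x := h.left P hP x
  ker P hP x x' hx := (h.ker P hP x' x hx).symm

/-- lifting a cochain through a correspondence -/
theorem Corr.lift (h : Corr Γ Ω ρ ρ' U W U' W' Θ) (hG : Geo p Γ Ω) (hA : Act Γ ρ) {n : ℕ}
    {f' : List X → M'} (hf : Co Γ Ω ρ' U' n f') :
    ∃ f, Co Γ Ω ρ U n f ∧ ∀ l, On Ω n l → l ≠ [] → (f l, f' l) ∈ Θ (st Γ l) := by
  cases n with
  | zero => exact ⟨0, co_zero, fun l hl h' => absurd (on_zero.1 hl) h'⟩
  | succ n =>
    obtain ⟨F, h1, h2⟩ := exists_cochain hG hA (n + 1) (fun l v => (v, f' l) ∈ Θ (st Γ l))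
      (fun g hg l hl v hv => by
        rw [hf.eqv g hg l hl, st_map hg]; exact h.conj g hg _ hl.stb _ _ hv)
      (fun l hl => by
        obtain ⟨x, hx⟩ := (h.right _ hl.stb _).1 (hf.mem' hl)
        exact ⟨x, hx, fun g hg => (h.fix _ hl.stb _ _ hx g hg).1⟩)
    exact ⟨F, co_succ h2 fun l hl => (h.left _ hl.stb _).2 ⟨_, h1 l hl⟩, fun l hl _ => h1 l hl⟩

theorem Corr.dd_mem (h : Corr Γ Ω ρ ρ' U W U' W' Θ) {n : ℕ} {f : List X → M} {f' : List X → M'}
    (h0 : n = 0 → f [] = 0) (h0' : n = 0 → f' [] = 0)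
    (hf : ∀ l, On Ω n l → l ≠ [] → (f l, f' l) ∈ Θ (st Γ l)) {l : List X} (hl : On Ω (n + 1) l) :
    (dd f l, dd f' l) ∈ Θ (st Γ l) := by
  rw [← dd_prod]
  refine Ch.dd_mem fun l' h1 h2 => ?_
  have h3 := hl.sublist h1 h2
  by_cases h4 : l' = []
  · subst h4; rw [h0 h3.1.symm, h0' h3.1.symm]; exact zero_mem _
  · exact h.anti _ _ hl.stb (h3.stb' h4) (st_sublist h1) (hf l' h3 h4)

theorem Corr.ex (h : Corr Γ Ω ρ ρ' U W U' W' Θ) (hG : Geo p Γ Ω) (hA : Act Γ ρ) (hA' : Act Γ ρ')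
    {m : ℕ} (hE : Ex Γ Ω ρ U W m) : Ex Γ Ω ρ' U' W' m := fun f' hf' hd => by
  obtain ⟨f, hf, hff⟩ := h.lift hG hA hf'
  obtain ⟨g, hg, hfg⟩ := hE f hf fun l hl =>
    (h.ker _ hl.stb _ _ (h.dd_mem hf.nil hf'.nil hff hl)).2 (hd l hl)
  obtain ⟨g', hg', hgg⟩ := h.symm.lift hG hA' hg
  refine ⟨g', hg', fun l hl => (h.ker _ hl.stb (f l - dd g l) _ ?_).1 (hfg l hl)⟩
  exact sub_mem (hff l hl hl.ne_nil) (h.dd_mem hg.nil hg'.nil hgg hl)

end CM

/-- an orbit of length prime to `p` -/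
theorem Geo.exists_orbit [Finite G] [Finite X] [hp : Fact p.Prime] (hG : Geo p Γ Ω) :
    ∃ O : Finset X, (∀ a ∈ O, a ∈ Ω) ∧ (∀ g ∈ Γ, ∀ a, g • a ∈ O ↔ a ∈ O) ∧ ¬ p ∣ O.card := by
  classical
  obtain ⟨S, hS⟩ := exists_isSylowIn p Γ
  obtain ⟨a, ha, e⟩ := hG.exists_st hS
  refine ⟨(MulAction.orbit Γ a).toFinite.toFinset, fun b hb => ?_, fun g hg b => ?_, ?_⟩
  · obtain ⟨g, rfl⟩ := (Set.Finite.mem_toFinset _).1 hb
    exact hG.inv g g.2 a ha
  · simp only [Set.Finite.mem_toFinset]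
    constructor
    · rintro ⟨k, hk⟩
      exact ⟨⟨g, hg⟩⁻¹ * k, by
        simp only [mul_smul, hk]; exact inv_smul_smul g b⟩
    · rintro ⟨k, rfl⟩
      exact ⟨⟨g, hg⟩ * k, mul_smul _ _ _⟩
  · rw [← Set.ncard_eq_toFinset_card _ _, ← MulAction.index_stabilizer]
    have : MulAction.stabilizer Γ a = S.subgroupOf Γ := by
      ext g; rw [← e, mem_subgroupOf, mem_st]; simp [Subgroup.smul_def]
    rw [this]
    exact hS.not_dvd_relIndex

theorem ex_fx [Finite G] [Finite X] [hp : Fact p.Prime] {D : AddSubgroup M} {m : ℕ}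
    (hG : Geo p Γ Ω) (hD : ∃ e : ℕ, ∀ x ∈ D, p ^ e • x = 0) (hm : 1 ≤ m) :
    Ex Γ Ω ρ (fx ρ D) zr m := fun f hf hd => by
  classical
  obtain ⟨m, rfl⟩ : ∃ k, m = k + 1 := ⟨m - 1, by omega⟩
  obtain ⟨O, h1, h2, h3⟩ := hG.exists_orbit
  obtain ⟨e, he⟩ := hD
  obtain ⟨c, hc⟩ : ∃ c : ℕ, ∀ x ∈ D, c • O.card • x = x := by
    have hco : Nat.Coprime O.card (p ^ e) :=
      ((Nat.Prime.coprime_iff_not_dvd hp.out).2 h3).symm.pow_right e
    by_cases h1 : p ^ e = 1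
    · exact ⟨0, fun x hx => by have := he x hx; rw [h1, one_smul] at this; simp [this]⟩
    obtain ⟨c, hc⟩ := Nat.exists_mul_mod_eq_one_of_coprime hco
      (lt_of_le_of_ne (Nat.one_le_pow _ _ hp.out.pos) (Ne.symm h1))
    refine ⟨c, fun x hx => ?_⟩
    rw [← mul_smul, mul_comm, ← Nat.div_add_mod (O.card * c) (p ^ e), hc.2, add_smul, one_smul,
      mul_comm, mul_smul, he x hx, smul_zero, zero_add]
  refine ⟨c • ∑ a ∈ O, fun l => f (a :: l), co_fx (fun g hg l hl => ?_) fun l hl => ?_,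
    fun l hl => ?_⟩
  · simp only [Pi.smul_apply, Finset.sum_apply, map_nsmul, map_sum]
    congr 1
    refine (Finset.sum_bijective (g • ·) (MulAction.bijective g) (fun a => (h2 g hg a).symm)
      fun a ha => ?_).symm
    exact (hf.eqv g hg (a :: l) (hl.cons (h1 a ha))).symm
  · simp only [Pi.smul_apply, Finset.sum_apply]
    exact nsmul_mem (sum_mem fun a ha => (hf.mem' (hl.cons (h1 a ha))).1) c
  · rw [dd_nsmul, dd_sum, mem_zr, sub_eq_zero]
    rw [Finset.sum_congr rfl (g := fun _ => f l) fun a ha => by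
      have := mem_zr.1 (hd _ (hl.cons (h1 a ha)))
      rw [dd_cons, sub_eq_zero] at this
      exact this.symm]
    rw [Finset.sum_const, hc _ (hf.mem' hl).1]

section FL
variable {U W : Subgroup G → AddSubgroup M}
  {r : Subgroup G → ℕ} {j : Subgroup G → Subgroup G} {m : ℕ}

theorem on_fx {n : ℕ} {l : List X} {Y : Subgroup G} (hl : On Ω n l) (hY : Y ≤ st Γ l) :
    On (Fx Ω Y) n l := ⟨hl.1, fun a ha => ⟨hl.2 a ha, fun _ hg => (mem_st.1 (hY hg)).2 a ha⟩⟩

theorem fx_conj_on (hG : Geo p Γ Ω) {g : G} (hg : g ∈ Γ) {Y : Subgroup G} {n : ℕ} {l : List X}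
    (hl : On (Fx Ω Y) n l) : On (Fx Ω (g ⋆ Y)) n (l.map (g • ·)) :=
  ⟨by simp [hl.1], fun b hb => by
    obtain ⟨a, ha, rfl⟩ := List.mem_map.1 hb
    refine ⟨hG.inv g hg a (hl.2 a ha).1, fun y hy => ?_⟩
    obtain ⟨z, hz, rfl⟩ := mem_conj'.1 hy
    rw [mul_smul, inv_smul_smul, mul_smul, (hl.2 a ha).2 z hz]⟩

variable [Finite G] [hp : Fact p.Prime]

theorem floc_step (hG : Geo p Γ Ω) (hA : Act Γ ρ) (hU : Sys p Γ ρ U) (hW : Sys p Γ ρ W)
    (hle : Le p Γ W U) (hr : RJ p Γ r j)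
    (hloc : ∀ Y : Subgroup G, Y ≤ Γ → IsPGroup p Y → j Y = Y →
      Ex (Γ ⊓ 𝐍(Y)) (Fx Ω Y) ρ (mix (fun P => r Y < r P) U W) W m) (i : ℕ) :
    Ex Γ Ω ρ (mix (fun P => i < r P) U W) (mix (fun P => i ≤ r P) U W) m := fun f hf hd => by
  classical
  have hup := hr.up i
  have hM := hU.mix hW hle hup
  -- the local primitives
  let S : Set (Subgroup G) := {Y | Y ≤ Γ ∧ IsPGroup p Y ∧ j Y = Y ∧ r Y = i}
  let R : Subgroup G → (List X → M) → Prop := fun Y F => (m = 0 → F [] = 0) ∧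
    (∀ l, On (Fx Ω Y) m l → l ≠ [] → F l ∈ mix (fun P => i < r P) U W (st Γ l ⊓ 𝐍(Y))) ∧
    ∀ l, On (Fx Ω Y) (m + 1) l → f l - dd F l ∈ W (st Γ l ⊓ 𝐍(Y))
  have hsub : ∀ Y : Subgroup G, Fx Ω Y ⊆ Ω := fun Y a ha => ha.1
  have hpg : ∀ {n : ℕ} {l : List X} (H : Subgroup G), On Ω n l → l ≠ [] →
      IsPGroup p ↥(st Γ l ⊓ H) := fun H hl h => IsPGroup.le' ((hl.stb' (Γ := Γ) h).pg hG) inf_le_left
  have hcj : ∀ {g : G}, g ∈ Γ → ∀ (l : List X) (Y : Subgroup G),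
      g ⋆ (st Γ (l.map (g⁻¹ • ·)) ⊓ 𝐍(Y)) = st Γ l ⊓ 𝐍(g ⋆ Y) := fun {g} hg l Y => by
    rw [conj_inf, st_map (inv_mem hg), conj_inv_conj, conj_norm]
  obtain ⟨F, hF1, hF2⟩ := exists_equivariant Γ (fun g Y => g ⋆ Y)
    (fun (g : G) (F : List X → M) (l : List X) => ρ g (F (l.map (g⁻¹ • ·)))) S R (fun Y _ => one_conj Y)
    (fun g _ h _ Y _ => mul_conj g h Y)
    (fun g hg Y hY => ⟨conj_le_of_mem hg hY.1, pgroup_conj hY.2.1 g, by
      rw [hr.jconj g hg Y hY.1 hY.2.1, hY.2.2.1], by rw [hr.rconj g hg Y hY.1 hY.2.1, hY.2.2.2]⟩)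
    (fun F => by funext l; simp [hA.one])
    (fun g hg h hh F => by funext l; rw [hA.mul g hg h hh, mul_inv_rev, map_mul_smul])
    (fun g hg Y hY F hF => by
      refine ⟨fun h0 => by simp [hF.1 h0], fun l hl h0 => ?_, fun l hl => ?_⟩
      · have hl' := fx_conj_on hG (inv_mem hg) hl
        rw [inv_conj_conj] at hl'
        have h0' : l.map (g⁻¹ • ·) ≠ [] := by simpa
        rw [← hcj hg]
        exact hM.conj g hg _ (inf_le_left.trans (st_le _)) (hpg _ (hl'.mono (hsub _)) h0') _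
          (hF.2.1 _ hl' h0')
      · have hl' := fx_conj_on hG (inv_mem hg) hl
        rw [inv_conj_conj] at hl'
        have := hW.conj g hg _ (inf_le_left.trans (st_le _))
          (hpg _ (hl'.mono (hsub _)) hl'.ne_nil) _ (hF.2.2 _ hl')
        rw [hcj hg, map_sub, ← hf.eqv g hg _ (hl'.mono (hsub _)), ← map_mul_smul, mul_inv_cancel,
          map_one_smul, dd_map, map_dd] at this
        exact this)
    (fun Y hY => by
      obtain ⟨h1, h2, h3, h4⟩ := hY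
      have hge : ∀ {n : ℕ} {l : List X}, On (Fx Ω Y) (n + 1) l → Y ≤ st Γ l := fun hl =>
        Stb.ge_of_fx h1 hl.stb
      obtain ⟨g, hg, hfg⟩ := hloc Y h1 h2 h3 f
        (co_succ (fun g hg l hl => hf.eqv g hg.1 l (hl.mono (hsub _))) fun l hl => by
          rw [st_inf, h4]
          exact hM.anti _ _ inf_le_left (st_le _) ((hl.mono (hsub _)).stb.pg hG)
            (hf.mem' (hl.mono (hsub _))))
        (fun l hl => by
          have hs := (hl.mono (hsub _)).stb (Γ := Γ)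
          have := hd l (hl.mono (hsub _))
          rw [mix_pos (h4 ▸ hr.mono _ _ (hge hl) hs.le (hs.pg hG))] at this
          rw [st_inf]
          exact hW.anti _ _ inf_le_left hs.le (hs.pg hG) this)
      refine ⟨fun l => if On (Fx Ω Y) m l then g l else 0, ⟨fun h0 => by simp [hg.nil h0],
        fun l hl h0 => ?_, fun l hl => ?_⟩, fun x hx e => ?_⟩
      · simp only [if_pos hl]
        rw [← st_inf, ← h4]; exact hg.mem l hl h0
      · rw [dd_congr (g := g) fun l' a b => if_pos (hl.sublist a b), ← st_inf]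
        exact hfg l hl
      · funext l
        have hx' : x ∈ Γ ⊓ 𝐍(Y) := ⟨hx, conj_eq_self_iff.1 e⟩
        have hG' := hG.loc h1 h2
        by_cases hl : On (Fx Ω Y) m l
        · simp only [if_pos hl, if_pos (hG'.on_map (inv_mem hx') hl)]
          rw [hg.eqv _ (inv_mem hx') l hl, hA.apply_inv hx]
        · have hl' : ¬ On (Fx Ω Y) m (l.map (x⁻¹ • ·)) := fun h => hl (by
            have := hG'.on_map hx' h
            rwa [← map_mul_smul, mul_inv_cancel, map_one_smul] at this)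
          simp only [if_neg hl, if_neg hl', map_zero])
  -- the localising subgroup of a stabiliser of rank `i`
  have hS : ∀ Q, Stb Γ Ω Q → r Q = i → j Q ∈ S ∧ Q ≤ 𝐍(j Q) := fun Q hQ hi => by
    have h1 := hr.jle Q hQ.le (hQ.pg hG)
    have h2 := hr.rj Q hQ.le (hQ.pg hG)
    exact ⟨⟨h1.trans hQ.le, IsPGroup.le' (hQ.pg hG) h1, hr.jeq _ _ h1 hQ.le (hQ.pg hG) h2,
      h2.trans hi⟩, fun g hg => conj_eq_self_iff.1 (by
        rw [← hr.jconj g (hQ.le hg) Q hQ.le (hQ.pg hG), conj_of_mem hg])⟩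
  let g : List X → M := fun l => if l ≠ [] ∧ r (st Γ l) = i then F (j (st Γ l)) l else 0
  have hg : Co Γ Ω ρ (mix (fun P => i < r P) U W) m g := by
    refine ⟨fun x hx l hl => ?_, fun l hl h0 => ?_, fun _ => by simp [g]⟩
    · by_cases h0 : l = []
      · simp [g, h0]
      have hs := hl.stb' (Γ := Γ) h0
      have h0' : l.map (x • ·) ≠ [] := by simpa
      simp only [g, st_map hx, hr.rconj x hx _ hs.le (hs.pg hG), h0, h0', ne_eq, not_false_eq_true,
        true_and]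
      split_ifs with hi
      · rw [hr.jconj x hx _ hs.le (hs.pg hG), hF2 x hx _ (hS _ hs hi).1]
        simp only
        rw [← map_mul_smul, inv_mul_cancel, map_one_smul]
      · simp
    · have hs := hl.stb' (Γ := Γ) h0
      simp only [g]
      split_ifs with hi
      · have := (hF1 _ (hS _ hs hi.2).1).2.1 l (on_fx hl (hr.jle _ hs.le (hs.pg hG))) h0
        rwa [inf_eq_left.2 (hS _ hs hi.2).2] at this
      · exact zero_mem _
  refine ⟨g, hg, fun l hl => ?_⟩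
  have hs := hl.stb (Γ := Γ)
  rcases lt_trichotomy (r (st Γ l)) i with hi | hi | hi
  · rw [mix_neg hi.not_ge]
    have := sub_mem (hf.mem' hl) (hg.dd_mem (hM.anti_stb hG) hl)
    rwa [mix_neg hi.not_gt] at this
  · rw [mix_pos hi.ge]
    obtain ⟨hY, hn⟩ := hS _ hs hi
    have hle' := hr.jle _ hs.le (hs.pg hG)
    have hl' := on_fx hl hle'
    have h1 := (hF1 _ hY).2.2 l hl'
    rw [inf_eq_left.2 hn] at h1
    have h2 : dd (F (j (st Γ l)) - g) l ∈ W (st Γ l) := dd_mem fun l' a b => by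
      have h3 := hl.sublist a b
      by_cases h0 : l' = []
      · subst h0
        simp [g, (hF1 _ hY).1 h3.1.symm]
      have hs' := h3.stb' (Γ := Γ) h0
      have h4 := st_sublist (Γ := Γ) a
      simp only [g, Pi.sub_apply]
      split_ifs with hi'
      · rw [hr.jeq _ _ h4 hs'.le (hs'.pg hG) (hi.trans hi'.2.symm), sub_self]; exact zero_mem _
      · have h5 := (hF1 _ hY).2.1 l' (hl'.sublist a b) h0
        have h6 : i < r (st Γ l' ⊓ 𝐍(j (st Γ l))) := by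
          by_contra h6
          obtain ⟨h7, h8⟩ := hr.le_norm hY.2.2.1 (hle'.trans h4) hs'.le (hs'.pg hG)
            (by rw [hY.2.2.2]; exact not_lt.1 h6)
          exact hi' ⟨h0, by rw [← hr.rj _ hs'.le (hs'.pg hG), h8, hY.2.2.2]⟩
        rw [mix_pos h6] at h5
        rw [sub_zero]
        exact hW.anti _ _ (le_inf h4 hn) (inf_le_left.trans hs'.le) (hpg _ h3 h0) h5
    have := add_mem h1 h2
    rwa [dd_sub, sub_add_sub_cancel] at this
  · rw [mix_pos hi.le]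
    have h1 := hf.mem' hl
    rw [mix_pos hi] at h1
    refine sub_mem h1 (dd_mem fun l' a b => ?_)
    have h3 := hl.sublist a b
    simp only [g]
    split_ifs with hi'
    · have hs' := h3.stb' (Γ := Γ) hi'.1
      have := hr.mono _ _ (st_sublist a) hs'.le (hs'.pg hG)
      omega
    · exact zero_mem _

theorem floc (hG : Geo p Γ Ω) (hA : Act Γ ρ) (hU : Sys p Γ ρ U) (hW : Sys p Γ ρ W)
    (hle : Le p Γ W U) (hr : RJ p Γ r j)
    (hloc : ∀ Y : Subgroup G, Y ≤ Γ → IsPGroup p Y → j Y = Y →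
      (∃ Q, Stb Γ Ω Q ∧ j Q = Y ∧ ¬ U Q ≤ W Q) →
      Ex (Γ ⊓ 𝐍(Y)) (Fx Ω Y) ρ (mix (fun P => r Y < r P) U W) W m) : Ex Γ Ω ρ U W m := by
  have hloc' : ∀ Y : Subgroup G, Y ≤ Γ → IsPGroup p Y → j Y = Y →
      Ex (Γ ⊓ 𝐍(Y)) (Fx Ω Y) ρ (mix (fun P => r Y < r P) U W) W m := fun Y h1 h2 h3 => by
    by_cases h4 : ∃ Q, Stb Γ Ω Q ∧ j Q = Y ∧ ¬ U Q ≤ W Q
    · exact hloc Y h1 h2 h3 h4
    refine Ex.of_le fun P hP => ?_
    by_cases h5 : r Y < r P
    · rw [mix_pos h5]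
    rw [mix_neg h5]
    obtain ⟨Q, hQ, hYQ, rfl⟩ := hP.exists_glob h1
    obtain ⟨h6, h7⟩ := hr.le_norm h3 hYQ hQ.le (hQ.pg hG) (not_lt.1 h5)
    rw [inf_eq_left.2 h6]
    by_contra h8
    exact h4 ⟨Q, hQ, h7, h8⟩
  have key : ∀ i, Ex Γ Ω ρ (mix (fun P => i ≤ r P) U W) W m := fun i => by
    induction i with
    | zero => exact Ex.of_le fun P _ => by rw [mix_pos (Nat.zero_le _)]
    | succ i ih =>
      refine Ex.trans (floc_step hG hA hU hW hle hr hloc' i) ih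
        ((hle.mix_right _).stb hG) fun P hP => ?_
      by_cases h : i ≤ r P
      · rw [mix_pos h]; exact le_mix (hle.stb hG P hP)
      · rw [mix_neg h, mix_neg (by omega)]
  have : Finite (Subgroup G) := inferInstance
  obtain ⟨N, hN⟩ := (Set.finite_range r).bddAbove
  exact (key (N + 1)).congr (fun P _ => mix_neg (by have := hN ⟨P, rfl⟩; omega)) fun _ _ => rfl

end FL

instance instFW : FW where
  cm hG hA hA' h hE := h.ex hG hA hA' hE
  ac hG _ _ hD hm := ex_fx hG hD hm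
  floc := floc

end Cfsg.Agent.Ch
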