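import Cfsg.Agent.Ch.A

/-! Corrected form of `KZ`: the ambient module is the group ring of `G ⧸ A`. -/

set_option autoImplicit false

namespace Cfsg.Agent.Ch

open Subgroup Cfsg.Agent.H1 Cfsg.Agent.L Cfsg.Agent.FT

/-- degree two for `P ↦ (P ∩ X(P)) / Z(P)` on the subgroups that are centric modulo `A` -/
class KZ2 : Prop where
  out : ∀ {G : Type} [Group G] [Finite G] {X : Type} [MulAction G X] [Finite X] {p : ℕ}
    [Fact p.Prime] {A : Subgroup G} [A.Normal], A ≤ center G → IsPGroup p A →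
    Geo p (⊤ : Subgroup G) (Set.univ : Set X) → (∀ g ∈ A, ∀ a : X, g • a = a) →
    Ex (⊤ : Subgroup G) (Set.univ : Set X) (fun g : G => cj (g : G ⧸ A))
      (mix (CenB p A) (fx (fun g : G => cj (g : G ⧸ A)) ⊤)
        (fun P => spn ((P ⊓ xg A P).map (QuotientGroup.mk' A))))
      (mix (CenB p A) (fx (fun g : G => cj (g : G ⧸ A)) ⊤)
        (fun P => rel ((P ⊓ xg A P).map (QuotientGroup.mk' A)) ⊔
          spn ((zent P).map (QuotientGroup.mk' A)))) 2

end Cfsg.Agent.Ch
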