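import Cfsg.Agent.Ch.A

/-! Vanishing of the atomic pieces (`ACY`). -/

set_option autoImplicit false
set_option linter.unusedSectionVars false

namespace Cfsg.Agent.Ch

open Subgroup Cfsg.Agent.H1 Cfsg.Agent.L Cfsg.Agent.FT
open scoped Pointwise commutatorElement

namespace Y6

variable {G : Type} [Group G] [Finite G] {X : Type} [MulAction G X] {M : Type} [AddCommGroup M]
  {p : ℕ} [hp : Fact p.Prime] {Γ K T H P Y : Subgroup G} {Ω : Set X} {ρ : G → M →+ M}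
  {U W : Subgroup G → AddSubgroup M}

theorem le_of_pow (hT : IsSylowIn p T K) (hH : T ≤ H) (h : ∀ k ∈ K, ∃ n, k ^ p ^ n ∈ H) : K ≤ H :=
  le_of_forall_isSylowIn fun q hq => by
    by_cases e : q = p
    · exact ⟨T, e ▸ hT, hH⟩
    have := Fact.mk hq
    obtain ⟨Q, hQ⟩ := exists_isSylowIn q K
    refine ⟨Q, hQ, fun x hx => ?_⟩
    obtain ⟨n, hn⟩ := h x (hQ.le hx)
    obtain ⟨k, hk⟩ := hQ.isPGroup ⟨x, hx⟩
    exact B9.mem_of_pow_mem_of_pow_mem (Nat.coprime_pow_primes n k hp.out hq (Ne.symm e)) hn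
      ((show x ^ q ^ k = 1 from congrArg Subtype.val hk) ▸ one_mem _)

/-- `P` contains a Sylow subgroup of `K` -/
def Sy (p : ℕ) (K P : Subgroup G) : Prop := IsSylowIn p (P ⊓ K) K

theorem sy_of_le (hT : IsSylowIn p T K) (h : T ≤ P) (hP : IsPGroup p P) : P ⊓ K = T :=
  hT.maximal _ (hP.to_inf_left) (le_inf h hT.le) inf_le_right

theorem conj_inf' (hK : Γ ≤ 𝐍(K)) {g : G} (hg : g ∈ Γ) (P : Subgroup G) :
    g ⋆ P ⊓ K = g ⋆ (P ⊓ K) := by rw [conj_inf, conj_of_mem_norm (hK hg)]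

theorem up_sy (hK : Γ ≤ 𝐍(K)) : Up p Γ (Sy p K) where
  mono _ _ h _ hQ h1 := by rw [Sy, sy_of_le h1 (inf_le_left.trans h) hQ]; exact h1
  conj g hg P _ _ h := by
    have := sylow_conj hp.out h g
    rwa [conj_of_mem_norm (hK hg), ← conj_inf' hK hg] at this

theorem core [FW] [Finite X] (hG : Geo p Γ Ω) (hρ : Act Γ ρ) (ht : ∃ e : ℕ, ∀ x : M, p ^ e • x = 0)
    (hKΓ : K ≤ Γ) (hK : Γ ≤ 𝐍(K)) (hk : ∀ k ∈ K, ∃ n, ∀ x, ρ (k ^ p ^ n) x = x) :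
    ∀ m, Ex Γ Ω ρ (mix (Sy p K) (fx ρ ⊤) zr) zr m := by
  have ht' : ∃ e : ℕ, ∀ x ∈ (⊤ : AddSubgroup M), p ^ e • x = 0 := ht.imp fun _ h x _ => h x
  have s1 : Sys p Γ ρ (fx ρ ⊤) := sys_fx hρ fun _ _ _ _ => trivial
  have s2 := s1.mix sys_zr (fun _ _ _ => bot_le) (up_sy hK)
  have l1 : Le p Γ (mix (Sy p K) (fx ρ ⊤) zr) (fx ρ ⊤) := (le_zr _).mix_left _
  have ac : ∀ {Γ' : Subgroup G} {Ω' : Set X} {m}, Geo p Γ' Ω' → Γ' ≤ Γ → Ex Γ' Ω' ρ (fx ρ ⊤) zr (m + 1) :=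
    fun h h' => FW.ac h (hρ.sub h') (fun _ _ _ _ => trivial) ht' (by omega)
  obtain ⟨T, hT⟩ := exists_isSylowIn p K
  obtain ⟨a₀, h0, hT0⟩ := hG.fix T (hT.le.trans hKΓ) hT.isPGroup
  have z : ∀ {n l x}, On Ω (n + 1) l → (∀ a ∈ l, ∀ g ∈ T, g • a = a) →
      x ∈ mix (Sy p K) (fx ρ ⊤) zr (st Γ l) → x = 0 := fun hl h hx => by
    rwa [mix_pos (by
      rw [Sy, sy_of_le hT (fun g hg => mem_st.2 ⟨hKΓ (hT.le hg), fun a ha => h a ha g hg⟩)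
        (hl.stb.pg hG)]; exact hT)] at hx
  have o1 : ∀ {a}, a ∈ Ω → On Ω 1 [a] := fun h => ⟨rfl, by simpa using h⟩
  have o2 : ∀ {a b}, a ∈ Ω → b ∈ Ω → On Ω 2 [a, b] := fun h h' => ⟨rfl, by simp [h, h']⟩
  rintro (_ | _ | m)
  · refine fun f hf hd => ⟨0, co_zero, fun l hl => ?_⟩
    obtain ⟨a, ha, rfl⟩ := on_one.1 hl
    have h1 := z (o1 h0) (by simpa using hT0) (hf.mem _ (o1 h0) (by simp))
    simpa [dd, zr, h1] using hd _ (o2 ha h0)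
  · intro f hf hd
    obtain ⟨g, hg, e⟩ := ac hG le_rfl f (hf.mono (l1.stb hG)) hd
    have e1 : ∀ a ∈ Ω, (∀ t ∈ T, t • a = a) → g [a] = g [a₀] := fun a ha h => by
      have h1 := z (o2 h0 ha) (by simpa using ⟨hT0, h⟩) (hf.mem _ (o2 h0 ha) (by simp))
      simpa [dd, zr, h1, sub_eq_zero, eq_comm] using e _ (o2 h0 ha)
    have e2 : ∀ γ ∈ Γ, ∀ a ∈ Ω, g [γ • a] = ρ γ (g [a]) := fun γ hγ a ha => hg.eqv γ hγ _ (o1 ha)
    let H : Subgroup G := {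
      carrier := {γ | γ ∈ Γ ∧ ρ γ (g [a₀]) = g [a₀]}
      one_mem' := ⟨one_mem _, hρ.one _⟩
      mul_mem' := fun ha hb => ⟨mul_mem ha.1 hb.1, by rw [hρ.mul _ ha.1 _ hb.1, hb.2, ha.2]⟩
      inv_mem' := fun {a} ha => ⟨inv_mem ha.1, by
        conv_lhs => rw [← ha.2, ← hρ.mul _ (inv_mem ha.1) _ ha.1, inv_mul_cancel, hρ.one]⟩ }
    have e3 : K ≤ H := le_of_pow hT (fun t ht => ⟨hKΓ (hT.le ht), by
      rw [← e2 t (hKΓ (hT.le ht)) _ h0, hT0 t ht]⟩) fun k h =>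
        (hk k h).imp fun n hn => ⟨pow_mem (hKΓ h) _, hn _⟩
    have e4 : ∀ a ∈ Ω, Sy p K (st Γ [a]) → g [a] = g [a₀] := fun a ha h => by
      obtain ⟨k, h1, h2⟩ := sylow_exists_conj_eq hp.out h hT
      rw [← smul_inv_smul k⁻¹ a, e2 _ (inv_mem (hKΓ h1)) _ (hG.inv _ (by simpa using hKΓ h1) a ha),
        e1 _ (hG.inv _ (by simpa using hKΓ h1) a ha), (e3 (inv_mem h1)).2]
      intro t ht
      rw [← h2, mem_conj] at ht
      have := (mem_st.1 ht.1).2 a (by simp)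
      rwa [mul_smul, mul_smul, inv_smul_eq_iff, ← inv_inv k] at this
    have e5 : ∀ γ ∈ Γ, ρ γ (g [a₀]) = g [a₀] := fun γ hγ => by
      rw [← e2 γ hγ _ h0]
      refine e4 _ (hG.inv γ hγ _ h0) ((up_sy hK).mono (γ ⋆ T) _ (fun t ht => ?_)
        (st_le _) ((o1 (hG.inv γ hγ _ h0)).stb.pg hG)
        ((up_sy hK).conj γ hγ T (hT.le.trans hKΓ) hT.isPGroup (by rwa [Sy, inf_eq_left.2 hT.le])))
      obtain ⟨s, hs, rfl⟩ := mem_conj'.1 ht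
      exact mem_st.2 ⟨mul_mem (mul_mem hγ (hKΓ (hT.le hs))) (inv_mem hγ), by
        simp [mul_smul, hT0 s hs]⟩
    refine ⟨fun l => g l - g [a₀], ⟨fun γ hγ l hl => by rw [hg.eqv γ hγ l hl, map_sub, e5 γ hγ],
      fun l hl h => ?_, by simp⟩, fun l hl => ?_⟩
    · obtain ⟨a, ha, rfl⟩ := on_one.1 hl
      unfold mix
      split_ifs with h1
      · simp [e4 a ha h1]
      · exact sub_mem (hg.mem _ hl h) ⟨trivial, fun γ hγ => e5 γ (mem_st.1 hγ).1⟩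
    · obtain ⟨a, ha, b, hb, rfl⟩ := on_two.1 hl
      simpa [dd] using e _ hl
  refine (ac hG le_rfl).sub (FW.floc hG hρ s1 s2 l1 (rj_inf hK) ?_) (fun _ _ => bot_le) (l1.stb hG)
  rintro Y h1 h2 - ⟨Q, -, rfl, h3⟩
  have h4 : Sy p K Q := by
    by_contra e
    exact h3 (mix_neg e).ge
  have hL := hG.loc h1 h2
  refine (ac hL inf_le_left).congr (fun P hP => ?_) fun P hP => ?_
  · rw [mix_neg (by rw [sy_of_le h4 (hP.ge_loc h1) (hP.pg hL), inf_assoc, inf_idem]; exact lt_irrefl _)]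
  · rw [mix_pos (by rw [Sy, sy_of_le h4 (hP.ge_loc h1) (hP.pg hL)]; exact h4)]

section Quot
variable (hU : Sys p Γ ρ U) (hW : Sys p Γ ρ W) (hY : Y ≤ Γ) (hYp : IsPGroup p Y)

/-- the section `U Y / W Y` -/
abbrev Q (U W : Subgroup G → AddSubgroup M) (Y : Subgroup G) : Type := U Y ⧸ (W Y).addSubgroupOf (U Y)

include hU hY hYp in
theorem inv {g : G} (hg : g ∈ Γ ⊓ 𝐍(Y)) {x : M} (hx : x ∈ U Y) : ρ g x ∈ U Y :=
  conj_of_mem_norm hg.2 ▸ hU.conj g hg.1 Y hY hYp x hx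

open Classical in
/-- the action on the section -/
noncomputable def qa (g : G) : Q U W Y →+ Q U W Y :=
  if hg : g ∈ Γ ⊓ 𝐍(Y) then QuotientAddGroup.map _ _
    (((ρ g).comp (U Y).subtype).codRestrict _ fun x => inv hU hY hYp hg x.2) fun _ hx => inv hW hY hYp hg hx
  else .id _

theorem qa_mk {g : G} (hg : g ∈ Γ ⊓ 𝐍(Y)) (x : U Y) :
    qa hU hW hY hYp g (x : Q U W Y) = (⟨ρ g x, inv hU hY hYp hg x.2⟩ : U Y) := by
  rw [qa, dif_pos hg]; rfl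

theorem act_qa (hρ : Act Γ ρ) : Act (Γ ⊓ 𝐍(Y)) (qa hU hW hY hYp) where
  one x := by
    induction x using QuotientAddGroup.induction_on
    simp [qa_mk hU hW hY hYp (one_mem _), hρ.one]
  mul g hg h hh x := by
    induction x using QuotientAddGroup.induction_on
    simp [qa_mk hU hW hY hYp hg, qa_mk hU hW hY hYp hh, qa_mk hU hW hY hYp (mul_mem hg hh),
      hρ.mul g hg.1 h hh.1]

theorem corr (hG : Geo p Γ Ω) (hle : Le p Γ W U) : Corr (Γ ⊓ 𝐍(Y)) (Fx Ω Y) (qa hU hW hY hYp) ρ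
    (mix (fun P => #|Y| < #|P|) (fx (qa hU hW hY hYp) ⊤) zr) zr (mix (fun P => #|Y| < #|P|) U W) W
    fun P => ((mix (fun P => #|Y| < #|P|) U W P).addSubgroupOf (U Y)).map
      ((QuotientAddGroup.mk' _).prod (U Y).subtype) := by
  have hL := hG.loc hY hYp
  have s := (hU.mix hW hle (rj_card.up #|Y|)).sub (inf_le_left (b := 𝐍(Y)))
  have c : ∀ {P}, Stb (Γ ⊓ 𝐍(Y)) (Fx Ω Y) P → P = Y ∨ #|Y| < #|P| ∧ W P ≤ W Y := fun hP =>
    (card_le_of_le' (hP.ge_loc hY)).eq_or_lt.imp (fun e => (eq_of_le_of_card_le (hP.ge_loc hY) e.ge).symm)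
      fun e => ⟨e, hW.anti _ _ (hP.ge_loc hY) (hP.le.trans inf_le_left) (hP.pg hL)⟩
  refine ⟨fun P Q hP hQ h => AddSubgroup.map_mono (AddSubgroup.comap_mono (s.anti_stb hL P Q hP hQ h)),
    ?_, ?_, fun P hP x => ?_, fun P hP x => ⟨fun hx => ?_, ?_⟩, ?_⟩
  · rintro g hg P hP _ _ ⟨x, hx, ⟨⟩⟩
    exact ⟨⟨_, inv hU hY hYp hg x.2⟩, s.conj g hg P hP.le (hP.pg hL) _ hx,
      Prod.ext (qa_mk hU hW hY hYp hg x).symm rfl⟩
  · rintro P hP _ _ ⟨x, hx, ⟨⟩⟩ g hg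
    have := s.fix P hP.le (hP.pg hL) _ hx g hg
    exact ⟨(qa_mk hU hW hY hYp (hP.le hg) x).trans (congrArg _ (Subtype.ext this)), this⟩
  · rcases c hP with rfl | ⟨e, e'⟩
    · obtain ⟨y, rfl⟩ := QuotientAddGroup.mk_surjective x
      simp only [mix, lt_irrefl, if_false]
      exact iff_of_true ⟨trivial, fun g hg => (qa_mk hU hW hY hYp (hP.le hg) y).trans
        (congrArg _ (Subtype.ext (hU.fix _ hY hYp _ y.2 g hg)))⟩ ⟨y, y, y.2, rfl⟩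
    · rw [mix_pos e, mix_pos e]
      exact ⟨fun h => ⟨0, 0, zero_mem _, by simp [mem_zr.1 h]⟩, by
        rintro ⟨_, y, hy, ⟨⟩⟩; exact (QuotientAddGroup.eq_zero_iff y).2 (e' hy)⟩
  · exact ⟨_, ⟨x, hU.anti _ _ (hP.ge_loc hY) (hP.le.trans inf_le_left) (hP.pg hL)
      (mix_le (hle _ (hP.le.trans inf_le_left) (hP.pg hL)) hx)⟩, hx, rfl⟩
  · rintro ⟨_, y, hy, ⟨⟩⟩; exact hy
  · rintro P hP _ _ ⟨y, hy, ⟨⟩⟩
    rcases c hP with rfl | ⟨e, e'⟩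
    · exact QuotientAddGroup.eq_zero_iff y
    · rw [mix_pos e] at hy
      exact iff_of_true ((QuotientAddGroup.eq_zero_iff y).2 (e' hy)) hy

end Quot

theorem main [FW] [Finite X] (n : ℕ) : ∀ {M : Type} [AddCommGroup M] {Γ : Subgroup G} {Ω : Set X}
    {ρ : G → M →+ M} {U W : Subgroup G → AddSubgroup M}, Geo p Γ Ω → Act Γ ρ → Sys p Γ ρ U →
    Sys p Γ ρ W → Le p Γ W U → (∀ P, Stb Γ Ω P → U P ≤ W P ∨ Nat.card G < #|P| + n ∧ Van p Γ ρ U W P) →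
    ∀ m, Ex Γ Ω ρ U W m := by
  induction n with
  | zero => exact fun _ _ _ _ _ h _ => .of_le fun P hP => (h P hP).resolve_right fun e =>
      absurd (card_le_card_group P) (by omega)
  | succ n ih =>
  intro M _ Γ Ω ρ U W hG hρ hU hW hle h m
  refine FW.floc hG hρ hU hW hle rj_card ?_
  rintro Y hY hYp - ⟨Y', hQ, e0, h1⟩
  obtain rfl : Y = Y' := e0.symm
  obtain ⟨hn, hf, ⟨e, he⟩, K, k1, k2, k3, k4⟩ := (h Y hQ).resolve_left h1
  have hL := hG.loc hY hYp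
  have hA := act_qa hU hW hY hYp hρ
  refine FW.cm hL hA (hρ.sub inf_le_left) (corr hU hW hY hYp hG hle) ?_
  have : Finite (Q U W Y) := Nat.finite_of_card_ne_zero hf
  have ht : ∀ x : Q U W Y, p ^ e • x = 0 := fun x => by
    obtain ⟨y, rfl⟩ := QuotientAddGroup.mk_surjective x
    exact (QuotientAddGroup.eq_zero_iff (p ^ e • y)).2 (he y y.2)
  have n1 : K ⊓ 𝐍(Y) ≤ Γ ⊓ 𝐍(Y) := inf_le_inf_right _ k1
  have n2 : Γ ⊓ 𝐍(Y) ≤ 𝐍(K ⊓ 𝐍(Y)) := le_norm_of_conj fun g hg => by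
    rw [conj_inf, conj_of_mem_norm (k2 hg), conj_of_mem hg.2]
  have hk : ∀ k ∈ K ⊓ 𝐍(Y), ∃ n, ∀ x, qa hU hW hY hYp (k ^ p ^ n) x = x := fun k hk =>
    (k4 k hk.1 hk.2).imp fun n hn x => by
      obtain ⟨y, rfl⟩ := QuotientAddGroup.mk_surjective x
      rw [qa_mk hU hW hY hYp (pow_mem (n1 hk) _), QuotientAddGroup.eq_iff_sub_mem]
      exact hn y y.2
  have hS : ¬ Sy p (K ⊓ 𝐍(Y)) Y := fun e => by
    obtain ⟨T, t1, t2, t3, t4⟩ := exists_T hYp ((le_inf hY le_normalizer).trans k2) k3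
    exact t4 ((sylow_le_of_norm hp.out e (le_inf t1 t2) t3 (.inr (le_norm_of_conj fun g hg => by
      rw [conj_inf, conj_of_mem_norm (t2 hg), conj_of_mem (le_inf t1 t2 hg)]))).trans inf_le_left)
  have c := core hL hA ⟨e, ht⟩ n1 n2 hk
  generalize qa hU hW hY hYp = σ at *
  have s1 : Sys p _ σ (fx σ ⊤) := sys_fx hA fun _ _ _ _ => trivial
  have u1 := up_sy (p := p) n2
  have u2 : Up p (Γ ⊓ 𝐍(Y)) fun P => Sy p (K ⊓ 𝐍(Y)) P ∨ #|Y| < #|P| :=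
    ⟨fun P Q a b c => Or.imp (u1.mono P Q a b c) ((rj_card.up _).mono P Q a b c),
      fun g a P b c => Or.imp (u1.conj g a P b c) ((rj_card.up _).conj g a P b c)⟩
  have l : Le p (Γ ⊓ 𝐍(Y)) (mix (fun P => Sy p (K ⊓ 𝐍(Y)) P ∨ #|Y| < #|P|) (fx σ ⊤) zr)
      (mix (Sy p (K ⊓ 𝐍(Y))) (fx σ ⊤) zr) := fun P _ _ => by
    by_cases e : Sy p (K ⊓ 𝐍(Y)) P
    · rw [mix_pos (.inl e)]; exact bot_le
    · rw [mix_neg e]; exact mix_le bot_le
  refine Ex.congr (U := mix (fun P => Sy p (K ⊓ 𝐍(Y)) P ∨ #|Y| < #|P|) (fx σ ⊤) zr) ?_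
    (fun P hP => ?_) fun _ _ => rfl
  · rcases m with _ | m
    · intro f hf hd
      obtain ⟨g, hg, e⟩ := c 0 f (hf.mono (l.stb hL)) hd
      exact ⟨0, co_zero, fun l hl => by
        obtain ⟨a, -, rfl⟩ := on_one.1 hl
        simpa [dd_one, hg.nil rfl] using e _ hl⟩
    refine (c _).sub (ih hL hA (s1.mix sys_zr (le_zr _) u1) (s1.mix sys_zr (le_zr _) u2) l
      (fun P hP => ?_) m) (fun _ _ => bot_le) (l.stb hL)
    by_cases e1 : Sy p (K ⊓ 𝐍(Y)) P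
    · exact .inl (by rw [mix_pos e1]; exact bot_le)
    by_cases e2 : #|Y| < #|P|
    · refine .inr ⟨by omega, AddSubgroup.index_ne_zero_of_finite, ⟨e, fun x _ => ht x ▸ zero_mem _⟩,
        _, n1, inf_le_left.trans n2, e1, fun k h _ => (hk k h).imp fun n hn x _ => ?_⟩
      rw [hn, sub_self]; exact zero_mem _
    · exact .inl (by rw [mix_neg e1, mix_neg (not_or.2 ⟨e1, e2⟩)])
  · by_cases e2 : #|Y| < #|P|
    · rw [mix_pos (.inr e2), mix_pos e2]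
    · exact (mix_neg (not_or.2 ⟨eq_of_le_of_card_le (hP.ge_loc hY) (not_lt.1 e2) ▸ hS, e2⟩)).trans
        (mix_neg e2).symm

end Y6

instance instACY [FW] : ACY where
  out := fun {G} _ _ _ _ _ _ _ _ _ _ _ _ _ _ hG hρ hU hW hle h =>
    Y6.main (Nat.card G) hG hρ hU hW hle fun P hP => (h P hP).imp_right fun e =>
      ⟨Nat.lt_add_of_pos_left Nat.card_pos, e⟩

end Cfsg.Agent.Ch
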