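import Cfsg.Agent.Ch.F

/-! The integral group ring as an ambient module for abelian sections. -/

set_option autoImplicit false

namespace Cfsg.Agent.Ch

open Subgroup Cfsg.Agent.H1 Cfsg.Agent.L Cfsg.Agent.FT
open scoped Pointwise commutatorElement

variable {G : Type} [Group G] {H K N : Subgroup G} {p : ℕ}

/-- basis vector -/
scoped notation "δ[" z "]" => Finsupp.single z (1 : ℤ)

@[simp] theorem cj_single (g z : G) : cj g δ[z] = δ[g * z * g⁻¹] := by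
  simp [cj, Finsupp.mapDomain_single]

theorem act_cj (Γ : Subgroup G) : Act Γ (cj : G → (G →₀ ℤ) →+ (G →₀ ℤ)) where
  one x := by
    simp only [cj, one_mul, inv_one, mul_one, Finsupp.mapDomain.addMonoidHom_apply]
    exact Finsupp.mapDomain_id
  mul g _ h _ x := by
    simp only [cj, Finsupp.mapDomain.addMonoidHom_apply]
    rw [← Finsupp.mapDomain_comp]
    congr 1; funext y; simp [mul_assoc]

theorem Act.comp {G' M : Type} [Group G'] [AddCommGroup M] {ρ : G' → M →+ M} {Γ' : Subgroup G'}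
    (h : Act Γ' ρ) (φ : G →* G') {Γ : Subgroup G} (hΓ : ∀ g ∈ Γ, φ g ∈ Γ') :
    Act Γ (fun g => ρ (φ g)) :=
  ⟨fun x => by rw [map_one, h.one], fun g hg k hk x => by
    rw [map_mul, h.mul _ (hΓ g hg) _ (hΓ k hk)]⟩

theorem single_mem_spn {z : G} (hz : z ∈ H) : δ[z] ∈ spn H :=
  AddSubgroup.subset_closure ⟨z, hz, rfl⟩

theorem mem_rel {a b : G} (ha : a ∈ H) (hb : b ∈ H) : δ[a * b] - δ[a] - δ[b] ∈ rel H :=
  AddSubgroup.subset_closure ⟨a, ha, b, hb, rfl⟩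

theorem spn_le_iff {V : AddSubgroup (G →₀ ℤ)} : spn H ≤ V ↔ ∀ z ∈ H, δ[z] ∈ V :=
  ⟨fun h _ hz => h (single_mem_spn hz), fun h => (AddSubgroup.closure_le _).2 (by
    rintro _ ⟨z, hz, rfl⟩; exact h z hz)⟩

theorem rel_le_iff {V : AddSubgroup (G →₀ ℤ)} :
    rel H ≤ V ↔ ∀ a ∈ H, ∀ b ∈ H, δ[a * b] - δ[a] - δ[b] ∈ V :=
  ⟨fun h _ ha _ hb => h (mem_rel ha hb), fun h => (AddSubgroup.closure_le _).2 (by
    rintro _ ⟨a, ha, b, hb, rfl⟩; exact h a ha b hb)⟩

theorem spn_mono (h : H ≤ K) : spn H ≤ spn K := spn_le_iff.2 fun _ hz => single_mem_spn (h hz)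

theorem rel_mono (h : H ≤ K) : rel H ≤ rel K := rel_le_iff.2 fun _ ha _ hb => mem_rel (h ha) (h hb)

theorem rel_le_spn : rel H ≤ spn H := rel_le_iff.2 fun _ ha _ hb =>
  sub_mem (sub_mem (single_mem_spn (mul_mem ha hb)) (single_mem_spn ha)) (single_mem_spn hb)

theorem sec_le_spn (h : N ≤ H) : rel H ⊔ spn N ≤ spn H := sup_le rel_le_spn (spn_mono h)

theorem single_one_mem_rel : δ[(1 : G)] ∈ rel H := by
  simpa using neg_mem (mem_rel (one_mem H) (one_mem H))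

theorem single_inv_mem_rel {a : G} (ha : a ∈ H) : δ[a] + δ[a⁻¹] ∈ rel H := by
  have := sub_mem (single_one_mem_rel (H := H)) (mem_rel ha (inv_mem ha))
  rwa [mul_inv_cancel, show δ[(1 : G)] - (δ[1] - δ[a] - δ[a⁻¹]) = δ[a] + δ[a⁻¹] by abel] at this

theorem single_pow_mem_rel {a : G} (ha : a ∈ H) (n : ℕ) : n • δ[a] - δ[a ^ n] ∈ rel H := by
  induction n with
  | zero => simpa using single_one_mem_rel
  | succ n ih =>
    have := sub_mem ih (mem_rel (pow_mem ha n) ha)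
    rwa [← pow_succ, show n • δ[a] - δ[a ^ n] - (δ[a ^ (n + 1)] - δ[a ^ n] - δ[a]) =
      (n + 1) • δ[a] - δ[a ^ (n + 1)] by rw [add_smul, one_smul]; abel] at this

/-- `(u, z)` with `u ≡ δ z`: closed under addition -/
theorem ev_mul {u v : G →₀ ℤ} {a b : G} (ha : a ∈ H) (hb : b ∈ H) (hu : u - δ[a] ∈ rel H)
    (hv : v - δ[b] ∈ rel H) : u + v - δ[a * b] ∈ rel H := by
  have := sub_mem (add_mem hu hv) (mem_rel ha hb)
  rwa [show u - δ[a] + (v - δ[b]) - (δ[a * b] - δ[a] - δ[b]) = u + v - δ[a * b] by abel] at this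

theorem ev_inv {u : G →₀ ℤ} {a : G} (ha : a ∈ H) (hu : u - δ[a] ∈ rel H) :
    -u - δ[a⁻¹] ∈ rel H := by
  have := sub_mem (neg_mem hu) (single_inv_mem_rel ha)
  rwa [show -(u - δ[a]) - (δ[a] + δ[a⁻¹]) = -u - δ[a⁻¹] by abel] at this

theorem exists_single {u : G →₀ ℤ} (hu : u ∈ spn H) : ∃ z ∈ H, u - δ[z] ∈ rel H := by
  induction hu using AddSubgroup.closure_induction with
  | mem x hx => obtain ⟨z, hz, rfl⟩ := hx; exact ⟨z, hz, by simp⟩
  | zero => exact ⟨1, one_mem _, by simpa using single_one_mem_rel⟩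
  | add x y _ _ hx hy =>
    obtain ⟨a, ha, h1⟩ := hx
    obtain ⟨b, hb, h2⟩ := hy
    exact ⟨a * b, mul_mem ha hb, ev_mul ha hb h1 h2⟩
  | neg x _ hx =>
    obtain ⟨a, ha, h1⟩ := hx
    exact ⟨a⁻¹, inv_mem ha, ev_inv ha h1⟩

theorem mem_spn_of_ev {u : G →₀ ℤ} {z : G} (hz : z ∈ H) (hu : u - δ[z] ∈ rel H) : u ∈ spn H := by
  simpa using add_mem (rel_le_spn hu) (single_mem_spn hz)

/-- evaluation of a function on the group ring -/
noncomputable def ev {B : Type} [AddCommGroup B] (ψ : G → B) : (G →₀ ℤ) →+ B :=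
  Finsupp.liftAddHom fun g => zmultiplesHom B (ψ g)

@[simp] theorem ev_single {B : Type} [AddCommGroup B] (ψ : G → B) (z : G) : ev ψ δ[z] = ψ z := by
  simp [ev]

theorem ev_rel {B : Type} [AddCommGroup B] {ψ : G → B}
    (h : ∀ a ∈ H, ∀ b ∈ H, ψ (a * b) = ψ a + ψ b) {u : G →₀ ℤ} (hu : u ∈ rel H) : ev ψ u = 0 :=
  (rel_le_iff (V := (ev ψ).ker)).2 (fun a ha b hb => by simp [h a ha b hb]) hu

theorem ev_eq {B : Type} [AddCommGroup B] {ψ : G → B}
    (h : ∀ a ∈ H, ∀ b ∈ H, ψ (a * b) = ψ a + ψ b) {u : G →₀ ℤ} {z : G} (hu : u - δ[z] ∈ rel H) :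
    ev ψ u = ψ z := by
  have := ev_rel h hu
  rwa [map_sub, ev_single, sub_eq_zero] at this

theorem comm_of_sub_mem_rel {a b : G} (ha : a ∈ H) (hb : b ∈ H) (h : δ[a] - δ[b] ∈ rel H) :
    a * b⁻¹ ∈ ⁅H, H⁆ := by
  classical
  let ψ : G → Additive (Abelianization H) := fun z =>
    if hz : z ∈ H then Additive.ofMul (Abelianization.of ⟨z, hz⟩) else 0
  have h1 := ev_eq (H := H) (ψ := ψ) (fun a ha b hb => by
    simp only [ψ, dif_pos ha, dif_pos hb, dif_pos (mul_mem ha hb)]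
    rw [← ofMul_mul, ← map_mul]; rfl) h
  simp only [ev_single, ψ, dif_pos ha, dif_pos hb] at h1
  have h2 : (⟨a, ha⟩ * (⟨b, hb⟩ : H)⁻¹ : H) ∈ (Abelianization.of (G := H)).ker := by
    rw [MonoidHom.mem_ker, map_mul, map_inv, Additive.ofMul.injective h1, mul_inv_cancel]
  rw [Abelianization.ker_of] at h2
  have h3 := Subgroup.mem_map_of_mem H.subtype h2
  rw [_root_.commutator, Subgroup.map_commutator, ← MonoidHom.range_eq_map,
    Subgroup.range_subtype] at h3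
  exact h3

theorem single_mem_sec_iff (hN : N ≤ H) (hc : ⁅H, H⁆ ≤ N) {z : G} (hz : z ∈ H) :
    δ[z] ∈ rel H ⊔ spn N ↔ z ∈ N := by
  refine ⟨fun h => ?_, fun h => AddSubgroup.mem_sup_right (single_mem_spn h)⟩
  obtain ⟨u, hu, v, hv, e⟩ := AddSubgroup.mem_sup.1 h
  obtain ⟨n, hn, h1⟩ := exists_single hv
  have h2 := add_mem hu (rel_mono hN h1)
  rw [← add_sub_assoc, e] at h2
  simpa using mul_mem (hc (comm_of_sub_mem_rel hz (hN hn) h2)) hn

theorem mem_sec_iff (hN : N ≤ H) (hc : ⁅H, H⁆ ≤ N) {z : G} (hz : z ∈ H) {u : G →₀ ℤ}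
    (hu : u - δ[z] ∈ rel H) : u ∈ rel H ⊔ spn N ↔ z ∈ N := by
  rw [← single_mem_sec_iff hN hc hz]
  have : u - δ[z] ∈ rel H ⊔ spn N := AddSubgroup.mem_sup_left hu
  exact ⟨fun h => by simpa using sub_mem h this, fun h => by simpa using add_mem this h⟩

theorem spn_bot_le : spn (⊥ : Subgroup G) ≤ rel H := spn_le_iff.2 fun z hz => by
  rw [Subgroup.mem_bot.1 hz]; exact single_one_mem_rel

theorem mem_rel_iff (hc : ⁅H, H⁆ = ⊥) {z : G} (hz : z ∈ H) {u : G →₀ ℤ}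
    (hu : u - δ[z] ∈ rel H) : u ∈ rel H ↔ z = 1 := by
  rw [← Subgroup.mem_bot, ← mem_sec_iff bot_le hc.le hz hu, sup_eq_left.2 spn_bot_le]

theorem ev_unique (hc : ⁅H, H⁆ = ⊥) {a b : G} (ha : a ∈ H) (hb : b ∈ H) {u : G →₀ ℤ}
    (h1 : u - δ[a] ∈ rel H) (h2 : u - δ[b] ∈ rel H) : a = b := by
  have := comm_of_sub_mem_rel ha hb (by simpa using sub_mem h2 h1)
  rwa [hc, Subgroup.mem_bot, mul_inv_eq_one] at this

section Map
variable {G' : Type} [Group G'] (φ : G →* G')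

/-- the map of group rings induced by a homomorphism -/
noncomputable def gm : (G →₀ ℤ) →+ (G' →₀ ℤ) := Finsupp.mapDomain.addMonoidHom φ

@[simp] theorem gm_single (z : G) : gm φ δ[z] = δ[φ z] := by
  simp [gm, Finsupp.mapDomain_single]

theorem gm_spn {u : G →₀ ℤ} (hu : u ∈ spn H) : gm φ u ∈ spn (H.map φ) :=
  (spn_le_iff (V := (spn (H.map φ)).comap (gm φ))).2 (fun z hz => by
    simpa using single_mem_spn (mem_map_of_mem φ hz)) hu

theorem gm_rel {u : G →₀ ℤ} (hu : u ∈ rel H) : gm φ u ∈ rel (H.map φ) :=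
  (rel_le_iff (V := (rel (H.map φ)).comap (gm φ))).2 (fun a ha b hb => by
    simpa using mem_rel (mem_map_of_mem φ ha) (mem_map_of_mem φ hb)) hu

theorem gm_cj (g : G) (u : G →₀ ℤ) : gm φ (cj g u) = cj (φ g) (gm φ u) := by
  simp only [cj, gm, Finsupp.mapDomain.addMonoidHom_apply]
  rw [← Finsupp.mapDomain_comp, ← Finsupp.mapDomain_comp]
  congr 1; funext y; simp

theorem exists_gm_eq {v : G' →₀ ℤ} (hv : v ∈ spn (H.map φ)) : ∃ u ∈ spn H, gm φ u = v :=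
  (spn_le_iff (V := (spn H).map (gm φ))).2 (by
    rintro _ ⟨z, hz, rfl⟩; exact ⟨_, single_mem_spn hz, gm_single φ z⟩) hv

end Map

theorem cj_eq_gm (g : G) : cj g = gm (MulAut.conj g).toMonoidHom := rfl

theorem cj_spn (g : G) {u : G →₀ ℤ} (hu : u ∈ spn H) : cj g u ∈ spn (g ⋆ H) := by
  rw [cj_eq_gm, conj_eq_map]; exact gm_spn _ hu

theorem cj_rel (g : G) {u : G →₀ ℤ} (hu : u ∈ rel H) : cj g u ∈ rel (g ⋆ H) := by
  rw [cj_eq_gm, conj_eq_map]; exact gm_rel _ hu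

theorem cj_sec (g : G) {u : G →₀ ℤ} (hu : u ∈ rel H ⊔ spn N) :
    cj g u ∈ rel (g ⋆ H) ⊔ spn (g ⋆ N) := by
  obtain ⟨a, ha, b, hb, rfl⟩ := AddSubgroup.mem_sup.1 hu
  rw [map_add]
  exact add_mem (AddSubgroup.mem_sup_left (cj_rel g ha)) (AddSubgroup.mem_sup_right (cj_spn g hb))

theorem cj_fix {g : G} (hg : g ∈ 𝐂(H)) {u : G →₀ ℤ} (hu : u ∈ spn H) : cj g u = u :=
  (spn_le_iff (V := (cj g).eqLocus (AddMonoidHom.id _))).2 (fun z hz => by
    show cj g δ[z] = δ[z]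
    rw [cj_single, ← (mem_centralizer_iff.1 hg z hz), mul_inv_cancel_right]) hu

/-- `spn H / (rel H ⊔ spn N)` is finite -/
theorem relIndex_spn_ne_zero [Finite H] {V : AddSubgroup (G →₀ ℤ)} (hV : rel H ≤ V) :
    V.relIndex (spn H) ≠ 0 := by
  have : Finite (spn H ⧸ V.addSubgroupOf (spn H)) := by
    refine Finite.of_surjective
      (fun z : H => (QuotientAddGroup.mk ⟨δ[z.1], single_mem_spn z.2⟩ : spn H ⧸ _)) fun q => ?_
    obtain ⟨u, rfl⟩ := QuotientAddGroup.mk_surjective q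
    obtain ⟨z, hz, h⟩ := exists_single u.2
    refine ⟨⟨z, hz⟩, QuotientAddGroup.eq.2 ?_⟩
    rw [AddSubgroup.mem_addSubgroupOf]
    simpa [neg_add_eq_sub] using hV h
  exact AddSubgroup.index_ne_zero_of_finite

theorem tor_spn [Finite H] [hp : Fact p.Prime] (hH : IsPGroup p H) :
    ∃ e : ℕ, ∀ u ∈ spn H, p ^ e • u ∈ rel H := by
  obtain ⟨e, he⟩ := hH.exists_card_eq
  refine ⟨e, fun u hu => ?_⟩
  obtain ⟨z, hz, h⟩ := exists_single hu
  have h1 := add_mem (nsmul_mem h (p ^ e)) (single_pow_mem_rel hz (p ^ e))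
  have h2 : z ^ p ^ e = 1 := by
    rw [← he]; exact congrArg Subtype.val (pow_card_eq_one' (x := (⟨z, hz⟩ : H)))
  rw [h2, smul_sub, sub_add_sub_cancel] at h1
  simpa using add_mem h1 single_one_mem_rel

/-! ### centric subgroups -/

theorem mem_zent' {x : G} : x ∈ zent H ↔ x ∈ H ∧ x ∈ 𝐂(H) := Iff.rfl

theorem conj_zent' (g : G) (H : Subgroup G) : g ⋆ zent H = zent (g ⋆ H) := by
  rw [zent, zent, conj_inf, conj_cent]

theorem up_cen (Γ : Subgroup G) : Up p Γ (Cen p) where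
  mono P Q h _ _ hP R hR hp := (hP R (hR.trans (centralizer_le h)) hp).trans h
  conj g _ P _ _ hP R hR hp := by
    rw [le_conj_iff]
    exact hP _ (by rwa [conj_le_iff, inv_inv, conj_cent]) (pgroup_conj hp _)

theorem Cen.zent_le {P Q : Subgroup G} (h : Cen p P) (hPQ : P ≤ Q) (hQ : IsPGroup p Q) :
    zent Q ≤ zent P :=
  le_inf (h _ (inf_le_right.trans (centralizer_le hPQ)) (IsPGroup.le' hQ inf_le_left))
    (inf_le_right.trans (centralizer_le hPQ))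

theorem mem_xg {A P : Subgroup G} [A.Normal] {y : G} : y ∈ xg A P ↔ ∀ x ∈ P, ⁅y, x⁆ ∈ A := by
  simp [xg, Subgroup.mem_iInf, B9.mem_commMod, normalizer_eq_top]

theorem xg_anti {A P Q : Subgroup G} [A.Normal] (h : P ≤ Q) : xg A Q ≤ xg A P :=
  fun _ hy => mem_xg.2 fun x hx => mem_xg.1 hy x (h hx)

theorem cent_le_xg {A P : Subgroup G} [A.Normal] : 𝐂(P) ≤ xg A P := fun y hy =>
  mem_xg.2 fun x hx => by
    rw [commutatorElement_eq_one_iff_mul_comm.2 (mem_centralizer_iff.1 hy x hx).symm]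
    exact one_mem _

theorem le_xg {A P : Subgroup G} [hA : A.Normal] : A ≤ xg A P := fun y hy =>
  mem_xg.2 fun x _ => by
    rw [commutatorElement_def, mul_assoc y, mul_assoc y]
    exact mul_mem hy (hA.conj_mem _ (inv_mem hy) x)

theorem conj_xg {A : Subgroup G} [hA : A.Normal] (g : G) (P : Subgroup G) :
    g ⋆ xg A P = xg A (g ⋆ P) := by
  ext y
  rw [mem_conj, mem_xg, mem_xg]
  constructor
  · intro h x hx
    have := hA.conj_mem _ (h _ (mem_conj.1 hx)) g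
    rwa [show g * ⁅g⁻¹ * y * g, g⁻¹ * x * g⁆ * g⁻¹ = ⁅y, x⁆ by
      simp only [commutatorElement_def]; group] at this
  · intro h x hx
    have := hA.conj_mem _ (h _ (conj_mem_conj g hx)) g⁻¹
    rwa [show g⁻¹ * ⁅y, g * x * g⁻¹⁆ * g⁻¹⁻¹ = ⁅g⁻¹ * y * g, x⁆ by
      simp only [commutatorElement_def]; group] at this

theorem norm_le_norm_xg {A : Subgroup G} [A.Normal] (P : Subgroup G) : 𝐍(P) ≤ 𝐍(xg A P) :=
  fun g hg => conj_eq_self_iff.1 (by rw [conj_xg, conj_of_mem_norm hg])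

theorem xg_eq_comap {A : Subgroup G} [A.Normal] (P : Subgroup G) :
    xg A P = 𝐂(P.map (QuotientGroup.mk' A)).comap (QuotientGroup.mk' A) := by
  ext y
  rw [mem_xg, mem_comap, mem_centralizer_iff]
  constructor
  · rintro h _ ⟨x, hx, rfl⟩
    have := (QuotientGroup.eq_one_iff _).2 (h x hx)
    rw [← QuotientGroup.mk'_apply, map_commutatorElement,
      commutatorElement_eq_one_iff_mul_comm] at this
    exact this.symm
  · intro h x hx
    rw [← QuotientGroup.eq_one_iff, ← QuotientGroup.mk'_apply, map_commutatorElement,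
      commutatorElement_eq_one_iff_mul_comm]
    exact (h _ (mem_map_of_mem _ hx)).symm

theorem up_cenB {A : Subgroup G} [A.Normal] (Γ : Subgroup G) : Up p Γ (CenB p A) where
  mono P Q h _ _ hP R hR hp := (hP R (hR.trans (xg_anti h)) hp).trans h
  conj g _ P _ _ hP R hR hp := by
    rw [le_conj_iff]
    exact hP _ (by rwa [conj_le_iff, inv_inv, conj_xg]) (pgroup_conj hp _)

theorem CenB.cen {A P : Subgroup G} [A.Normal] (h : CenB p A P) : Cen p P :=
  fun R hR => h R (hR.trans cent_le_xg)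

theorem CenB.le {A P : Subgroup G} [A.Normal] (h : CenB p A P) (hA : IsPGroup p A) : A ≤ P :=
  h A le_xg hA

theorem CenB.inf_le {A P Q : Subgroup G} [A.Normal] (h : CenB p A P) (hPQ : P ≤ Q)
    (hQ : IsPGroup p Q) : Q ⊓ xg A Q ≤ P ⊓ xg A P :=
  le_inf (h _ (inf_le_right.trans (xg_anti hPQ)) (IsPGroup.le' hQ inf_le_left))
    (inf_le_right.trans (xg_anti hPQ))

/-- off the centric family, `P ⊓ xg A P` is not a Sylow subgroup of `xg A P` -/
theorem not_sylow_xg [Finite G] [hp : Fact p.Prime] {A P : Subgroup G} [A.Normal] (hA : A ≤ P)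
    (h : ¬ CenB p A P) : ¬ IsSylowIn p (P ⊓ xg A P) (xg A P) := fun hS => h fun R hR hRp => by
  refine (sylow_le_of_norm hp.out hS hR hRp (Or.inr fun y hy => ?_)).trans inf_le_left
  have h1 : y ∈ 𝐍(P) := B9.mem_norm_of_comm fun x hx => hA (mem_xg.1 (hR hy) x hx)
  exact conj_eq_self_iff.1 (by rw [conj_inf, conj_of_mem_norm h1, conj_of_mem (hR hy)])

/-- a general section system: `V P` on an upward closed family, fixed points off it -/
theorem sys_mix_top {M : Type} [AddCommGroup M] {Γ : Subgroup G} {ρ : G → M →+ M} (hA : Act Γ ρ)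
    {𝒰 : Subgroup G → Prop} (hU : Up p Γ 𝒰) {V : Subgroup G → AddSubgroup M}
    (h1 : ∀ P Q : Subgroup G, 𝒰 P → P ≤ Q → Q ≤ Γ → IsPGroup p Q → V Q ≤ V P)
    (h2 : ∀ g ∈ Γ, ∀ P : Subgroup G, 𝒰 P → P ≤ Γ → IsPGroup p P → ∀ x ∈ V P, ρ g x ∈ V (g ⋆ P))
    (h3 : ∀ P : Subgroup G, 𝒰 P → P ≤ Γ → IsPGroup p P → ∀ x ∈ V P, ∀ g ∈ P, ρ g x = x) :
    Sys p Γ ρ (mix 𝒰 (fx ρ ⊤) V) where
  anti P Q a b c := by
    by_cases hP : 𝒰 P
    · rw [mix_pos hP, mix_pos (hU.mono P Q a b c hP)]; exact h1 P Q hP a b c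
    · rw [mix_neg hP]
      by_cases hQ : 𝒰 Q
      · rw [mix_pos hQ]; exact fun x hx => ⟨trivial, fun g hg => h3 Q hQ b c x hx g (a hg)⟩
      · rw [mix_neg hQ]; exact fx_anti _ a
  conj g hg P a b x hx := by
    by_cases hP : 𝒰 P
    · rw [mix_pos hP] at hx; rw [mix_pos ((hU.conj_iff hg a b).2 hP)]
      exact h2 g hg P hP a b x hx
    · rw [mix_neg hP] at hx; rw [mix_neg (mt (hU.conj_iff hg a b).1 hP)]
      exact fx_conj hA (D := ⊤) (fun _ _ _ _ => trivial) hg a hx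
  fix P a b x hx := by
    by_cases hP : 𝒰 P
    · rw [mix_pos hP] at hx; exact h3 P hP a b x hx
    · rw [mix_neg hP] at hx; exact hx.2

theorem le_mix_top {M : Type} [AddCommGroup M] {𝒰 : Subgroup G → Prop}
    {U V W : Subgroup G → AddSubgroup M} {P : Subgroup G} (h : 𝒰 P → W P ≤ V P) :
    mix 𝒰 U W P ≤ mix 𝒰 U V P := by
  by_cases hP : 𝒰 P
  · rw [mix_pos hP, mix_pos hP]; exact h hP
  · rw [mix_neg hP, mix_neg hP]

end Cfsg.Agent.Ch
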