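import Cfsg.Agent.Ch.H0
import Cfsg.Agent.Ch.F
import Cfsg.Agent.Ch.Y
import Cfsg.Agent.Ch.Z
import Cfsg.Agent.H5.PPart

/-! `HK` from `KZ2`: the systems `Hom(P/A, A)` and commutator maps. -/

set_option autoImplicit false
set_option linter.style.haveILetI false
set_option linter.unusedSectionVars false

namespace Cfsg.Agent.Ch.H4

open Subgroup Cfsg.Agent.H1 Cfsg.Agent.L Cfsg.Agent.FT
open scoped commutatorElement Pointwise

variable {G : Type} [Group G] {A P Q Y : Subgroup G} {p : ℕ}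

def Zc (G : Type) [Group G] := Additive (center G)

instance instZc : AddCommGroup (Zc G) := { (inferInstance : AddGroup (Additive (center G))) with
  add_comm := fun a b => Subtype.ext (mem_center_iff.1 (Additive.toMul b).2 (Additive.toMul a).1) }

instance finZc [Finite G] : Finite (Zc G) := (inferInstance : Finite (center G))

def vz (z : Zc G) : G := (Additive.toMul z : center G)

theorem vz_mem (z : Zc G) : vz z ∈ center G := (Additive.toMul z).2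

noncomputable def tz (c : G) : Zc G := Function.invFun vz c

@[simp] theorem vz_add (a b : Zc G) : vz (a + b) = vz a * vz b := rfl
@[simp] theorem vz_neg (a : Zc G) : vz (-a) = (vz a)⁻¹ := rfl
@[simp] theorem vz_zero : vz (0 : Zc G) = 1 := rfl
@[simp] theorem vz_sub (a b : Zc G) : vz (a - b) = vz a * (vz b)⁻¹ := by rw [sub_eq_add_neg]; rfl
theorem vz_nsmul (n : ℕ) (a : Zc G) : vz (n • a) = vz a ^ n := rfl
theorem vz_inj : Function.Injective (vz : Zc G → G) := fun _ _ h => Subtype.ext h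
theorem vz_comm (a : Zc G) (x : G) : x * vz a = vz a * x := mem_center_iff.1 (vz_mem a) x
theorem vz_cj (a : Zc G) (x : G) : x * vz a * x⁻¹ = vz a := by rw [vz_comm, mul_inv_cancel_right]
theorem vz_tz {c : G} (h : c ∈ center G) : vz (tz c) = c := Function.invFun_eq ⟨Additive.ofMul ⟨c, h⟩, rfl⟩
theorem tz_mul {c d : G} (h : c ∈ center G) (h' : d ∈ center G) : tz (c * d) = tz c + tz d :=
  vz_inj (by rw [vz_add, vz_tz h, vz_tz h', vz_tz (mul_mem h h')])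
theorem tz_one : tz (1 : G) = 0 := vz_inj (vz_tz (one_mem _))
theorem cj_cen {c : G} (h : c ∈ center G) (x : G) : x * c * x⁻¹ = c := by
  rw [mem_center_iff.1 h, mul_inv_cancel_right]

def ρ₁ (g : G) : (G → Zc G) →+ (G → Zc G) := ⟨⟨fun u x => u (g⁻¹ * x), rfl⟩, fun _ _ => rfl⟩
def ρ₂ (g : G) : (G → G → Zc G) →+ (G → G → Zc G) :=
  ⟨⟨fun m x y => m (g⁻¹ * x) (g⁻¹ * y), rfl⟩, fun _ _ => rfl⟩
@[simp] theorem ρ₁_apply (g : G) (u : G → Zc G) (x : G) : ρ₁ g u x = u (g⁻¹ * x) := rfl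
@[simp] theorem ρ₂_apply (g : G) (m : G → G → Zc G) (x y : G) : ρ₂ g m x y = m (g⁻¹ * x) (g⁻¹ * y) := rfl
theorem act₁ : Act (⊤ : Subgroup G) ρ₁ := ⟨fun u => by ext; simp, fun _ _ _ _ u => by ext; simp [mul_assoc]⟩
theorem act₂ : Act (⊤ : Subgroup G) ρ₂ := ⟨fun u => by ext; simp, fun _ _ _ _ u => by ext; simp [mul_assoc]⟩

/-- functions `G / A → A` -/
def D₁ (A : Subgroup G) : AddSubgroup (G → Zc G) where
  carrier := {u | (∀ x, vz (u x) ∈ A) ∧ ∀ x, ∀ a ∈ A, u (x * a) = u x}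
  zero_mem' := ⟨fun _ => one_mem _, fun _ _ _ => rfl⟩
  add_mem' hu hv := ⟨fun x => mul_mem (hu.1 x) (hv.1 x), fun x a ha => by simp [hu.2 x a ha, hv.2 x a ha]⟩
  neg_mem' hu := ⟨fun x => inv_mem (hu.1 x), fun x a ha => by simp [hu.2 x a ha]⟩

/-- constants -/
def D₀ (A : Subgroup G) : AddSubgroup (G → Zc G) where
  carrier := {u | (∀ x, vz (u x) ∈ A) ∧ ∀ x y, u x = u y}
  zero_mem' := ⟨fun _ => one_mem _, fun _ _ => rfl⟩
  add_mem' hu hv := ⟨fun x => mul_mem (hu.1 x) (hv.1 x), fun x y => by simp [hu.2 x y, hv.2 x y]⟩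
  neg_mem' hu := ⟨fun x => inv_mem (hu.1 x), fun x y => by simp [hu.2 x y]⟩

/-- functions modulo constants -/
def D₂ (A : Subgroup G) : AddSubgroup (G → G → Zc G) where
  carrier := {m | (∀ x y, vz (m x y) ∈ A) ∧ (∀ x y z, m x z = m x y + m y z) ∧ ∀ x, ∀ a ∈ A, m x (x * a) = 0}
  zero_mem' := ⟨fun _ _ => one_mem _, fun _ _ _ => by simp, fun _ _ _ => rfl⟩
  add_mem' hu hv := ⟨fun x y => mul_mem (hu.1 x y) (hv.1 x y), fun x y z => by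
    simp only [Pi.add_apply, hu.2.1 x y z, hv.2.1 x y z]; abel, fun x a ha => by simp [hu.2.2 x a ha, hv.2.2 x a ha]⟩
  neg_mem' hu := ⟨fun x y => inv_mem (hu.1 x y), fun x y z => by
    simp only [Pi.neg_apply, hu.2.1 x y z]; abel, fun x a ha => by simp [hu.2.2 x a ha]⟩

def dl : (G → Zc G) →+ (G → G → Zc G) :=
  ⟨⟨fun u x y => u y - u x, by ext; simp⟩, fun _ _ => by ext; simp only [Pi.add_apply]; abel⟩
@[simp] theorem dl_apply (u : G → Zc G) (x y : G) : dl u x y = u y - u x := rfl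

theorem dl_mem {u : G → Zc G} (h : u ∈ D₁ A) : dl u ∈ D₂ A :=
  ⟨fun x y => by simpa using mul_mem (h.1 y) (inv_mem (h.1 x)), fun x y z => by simp,
    fun x a ha => by simp [h.2 x a ha]⟩

theorem inv₀ : ∀ g ∈ (⊤ : Subgroup G), ∀ x ∈ D₀ A, ρ₁ g x ∈ D₀ A := fun _ _ _ h =>
  ⟨fun _ => h.1 _, fun _ _ => h.2 _ _⟩
theorem inv₁ : ∀ g ∈ (⊤ : Subgroup G), ∀ x ∈ D₁ A, ρ₁ g x ∈ D₁ A := fun _ _ _ h =>
  ⟨fun _ => h.1 _, fun _ a ha => by simp [← mul_assoc, h.2 _ a ha]⟩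
theorem inv₂ : ∀ g ∈ (⊤ : Subgroup G), ∀ x ∈ D₂ A, ρ₂ g x ∈ D₂ A := fun _ _ _ h =>
  ⟨fun _ _ => h.1 _ _, fun _ _ _ => h.2.1 _ _ _, fun _ a ha => by simp [← mul_assoc, h.2.2 _ a ha]⟩

variable {m : G → G → Zc G} {g x y : G}

theorem base (h : m ∈ fx ρ₂ (D₂ A) P) (hg : g ∈ P) (x : G) : m x (g * x) = m 1 g := by
  have e : m g (g * x) = m 1 x := by simpa using (congrFun₂ (h.2 g hg) g (g * x)).symm
  have e1 := h.1.2.1 1 x (g * x)
  rw [h.1.2.1 1 g (g * x), e, add_comm] at e1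
  exact (add_left_cancel e1).symm

theorem hom (h : m ∈ fx ρ₂ (D₂ A) P) (hg : g ∈ P) (x : G) : m 1 (g * x) = m 1 g + m 1 x := by
  rw [h.1.2.1 1 x, base h hg, add_comm]

theorem homA (h : m ∈ fx ρ₂ (D₂ A) P) : HomA A P fun g => vz (m 1 g) :=
  ⟨fun _ hx y _ => congrArg vz (hom h hx y), fun _ _ => h.1.1 _ _,
    fun x hx => by simpa using congrArg vz (h.1.2.2 1 x hx)⟩

theorem ρ_ev (h : m ∈ fx ρ₂ (D₂ A) P) {k : G} (hg : k⁻¹ * g * k ∈ P) : ρ₂ k m 1 g = m 1 (k⁻¹ * g * k) := by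
  simpa using base h hg k⁻¹

theorem exists_m (hA : A ≤ center G) (hP : A ≤ P) {k : G → G} (h : HomA A P k) :
    ∃ m ∈ fx ρ₂ (D₂ A) P, ∀ g ∈ P, vz (m 1 g) = k g := by
  have hr : ∀ x : G, x * ((x⁻¹ : G) : G ⧸ P).out ∈ P := fun x => by
    simpa using QuotientGroup.eq.1 (((x⁻¹ : G) : G ⧸ P).out_eq).symm
  let u : G → Zc G := fun x => tz (k (x * ((x⁻¹ : G) : G ⧸ P).out))
  have e : ∀ g ∈ P, ∀ x, u (g * x) = tz (k g) + u x := fun g hg x => by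
    have : (((g * x)⁻¹ : G) : G ⧸ P) = (x⁻¹ : G) := QuotientGroup.eq.2 (by simpa using hg)
    simp only [u, this]
    rw [mul_assoc, h.mul _ hg _ (hr x), tz_mul (hA (h.mem _ hg)) (hA (h.mem _ (hr x)))]
  refine ⟨dl u, ⟨dl_mem ⟨fun x => (vz_tz (hA (h.mem _ (hr x)))).symm ▸ h.mem _ (hr x), fun x a ha => ?_⟩,
    fun g hg => ?_⟩, fun g hg => ?_⟩
  · rw [mem_center_iff.1 (hA ha), e a (hP ha), h.triv a ha, tz_one, zero_add]
  · ext x y; simp [e _ (inv_mem hg)]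
  · rw [dl_apply, ← mul_one g, e g hg, add_sub_cancel_right, vz_tz (hA (h.mem _ hg)), mul_one]

theorem cm_mul (h : ⁅y, g⁆ ∈ center G) (x : G) : ⁅x * y, g⁆ = ⁅x, g⁆ * ⁅y, g⁆ := by
  rw [mem_center_iff.1 h, ← cj_cen h x]; simp only [commutatorElement_def]; group

theorem cm_inv (h : ⁅y, g⁆ ∈ center G) : ⁅y⁻¹, g⁆ = ⁅y, g⁆⁻¹ := by
  rw [eq_inv_iff_mul_eq_one, ← cm_mul h, inv_mul_cancel, commutatorElement_one_left]

theorem cm_cj {k : G} (h : ⁅y, k⁻¹ * g * k⁆ ∈ center G) : ⁅k * y * k⁻¹, g⁆ = ⁅y, k⁻¹ * g * k⁆ := by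
  rw [← cj_cen h k]; simp only [commutatorElement_def]; group

/-- classes restricting to a commutator map with an element of `Y` -/
def UK (A Y P : Subgroup G) : AddSubgroup (G → G → Zc G) where
  carrier := {m | m ∈ fx ρ₂ (D₂ A) P ∧ ∃ y ∈ Y, ∀ g ∈ P, vz (m 1 g) = ⁅y, g⁆}
  zero_mem' := ⟨zero_mem _, 1, one_mem _, by simp⟩
  add_mem' := fun {a b} ⟨h1, y, hy, e⟩ ⟨h2, z, hz, e'⟩ => ⟨add_mem h1 h2, y * z, mul_mem hy hz, fun g hg => by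
    rw [cm_mul (e' g hg ▸ vz_mem _), ← e g hg, ← e' g hg]; rfl⟩
  neg_mem' := fun {a} ⟨h1, y, hy, e⟩ => ⟨neg_mem h1, y⁻¹, inv_mem hy, fun g hg => by
    rw [cm_inv (e g hg ▸ vz_mem _), ← e g hg]; rfl⟩

theorem mem_UK_bot : m ∈ UK A ⊥ P ↔ m ∈ fx ρ₂ (D₂ A) P ∧ ∀ g ∈ P, m 1 g = 0 :=
  and_congr_right fun _ => ⟨fun ⟨y, hy, e⟩ g hg => vz_inj (by simpa [mem_bot.1 hy] using e g hg),
    fun e => ⟨1, one_mem _, fun g hg => by simp [e g hg]⟩⟩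

theorem UK_le : UK A Y P ≤ fx ρ₂ (D₂ A) P := fun _ h => h.1
theorem UK_bot_le : UK A ⊥ P ≤ UK A ⊤ P := fun _ ⟨h, y, _, e⟩ => ⟨h, y, trivial, e⟩
theorem UK_anti (h : P ≤ Q) : UK A Y Q ≤ UK A Y P := fun _ ⟨h1, y, hy, e⟩ =>
  ⟨fx_anti _ h h1, y, hy, fun g hg => e g (h hg)⟩

theorem sys_UK [hY : Y.Normal] : Sys p ⊤ ρ₂ (UK A Y) :=
  ⟨fun _ _ h _ _ => UK_anti h, fun k hk P hP _ m ⟨h1, y, hy, e⟩ => ⟨fx_conj act₂ inv₂ hk hP h1, _,
    hY.conj_mem y hy k, fun g hg => by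
      have := mem_conj.1 hg
      rw [ρ_ev h1 this, cm_cj (e _ this ▸ vz_mem _), e _ this]⟩, fun _ _ _ _ h => h.1.2⟩

variable [Finite G] [Fact p.Prime] {X : Type} [MulAction G X] [Finite X]

theorem tor (hp : IsPGroup p A) : ∃ e : ℕ, ∀ z : Zc G, vz z ∈ A → p ^ e • z = 0 := by
  obtain ⟨k, hk⟩ := hp.exists_card_eq
  exact ⟨k, fun z hz => vz_inj (by
    rw [vz_nsmul, ← hk]; exact congrArg Subtype.val (pow_card_eq_one' (x := (⟨_, hz⟩ : A))))⟩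

theorem ex_WH (hp : IsPGroup p A) (hG : Geo p (⊤ : Subgroup G) (Set.univ : Set X)) :
    Ex ⊤ (Set.univ : Set X) ρ₂ (UK A ⊥) zr 2 := by
  obtain ⟨e, he⟩ := tor hp
  refine FW.cm (Θ := fun P => (fx ρ₁ (D₁ A) P).map ((AddMonoidHom.id _).prod dl)) hG act₁ act₂ ⟨fun P Q _ _ h =>
    AddSubgroup.map_mono (fx_anti _ h), ?_, ?_, fun P _ u => ⟨fun h => ⟨_, u, h, rfl⟩, ?_⟩, fun P _ m => ⟨fun h => ?_, ?_⟩, ?_⟩
    ((FW.ac hG act₁ inv₁ ⟨e, fun u hu => funext fun x => he _ (hu.1 x)⟩ one_le_two).quot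
      (FW.ac (D := D₀ A) hG act₁ inv₀ ⟨e, fun u hu => funext fun x => he _ (hu.1 x)⟩ (by omega))
      (fun _ _ => zr_le _ _) fun P _ => fx_mono (fun u (h : u ∈ D₀ A) => (⟨h.1, fun _ _ _ => h.2 _ _⟩ : u ∈ D₁ A)) P)
  · rintro g hg P hP _ _ ⟨u, hu, ⟨⟩⟩
    exact ⟨_, fx_conj act₁ inv₁ hg hP.le hu, rfl⟩
  · rintro P _ _ _ ⟨u, hu, ⟨⟩⟩ g hg
    exact ⟨hu.2 g hg, congrArg dl (hu.2 g hg)⟩
  · rintro ⟨_, u, hu, ⟨⟩⟩; exact hu
  · obtain ⟨h1, h2⟩ := mem_UK_bot.1 h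
    refine ⟨m 1, m 1, ⟨⟨h1.1.1 1, fun x a ha => by rw [h1.1.2.1 1 x, h1.1.2.2 x a ha, add_zero]⟩,
      fun g hg => funext fun x => by rw [ρ₁_apply, hom h1 (inv_mem hg), h2 _ (inv_mem hg), zero_add]⟩,
      Prod.ext rfl ?_⟩
    ext x y; simp [h1.1.2.1 1 x y]
  · rintro ⟨_, u, hu, ⟨⟩⟩
    exact mem_UK_bot.2 ⟨⟨dl_mem hu.1, fun g hg => congrArg dl (hu.2 g hg)⟩, fun g hg =>
      sub_eq_zero.2 (by simpa using (congrFun (hu.2 g hg) g).symm)⟩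
  · rintro P _ _ _ ⟨u, hu, ⟨⟩⟩
    exact ⟨fun h => funext₂ fun x y => sub_eq_zero.2 (h.1.2 _ _), fun h => ⟨⟨hu.1.1, fun x y =>
      sub_eq_zero.1 (congrFun₂ (mem_zr.1 h) y x)⟩, hu.2⟩⟩

variable [hn : A.Normal]

theorem ex_off (hp : IsPGroup p A) (hG : Geo p (⊤ : Subgroup G) (Set.univ : Set X))
    (hX : ∀ P, Stb ⊤ (Set.univ : Set X) P → A ≤ P) :
    Ex ⊤ (Set.univ : Set X) ρ₂ (mix (CenB p A) (UK A ⊤) (UK A ⊥)) (UK A ⊥) 2 := by
  obtain ⟨e, he⟩ := tor hp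
  have le : Le p ⊤ (UK A ⊥) (UK A ⊤) := fun _ _ _ => UK_bot_le
  refine ACY.out hG act₂ (sys_UK.mix sys_UK le (up_cenB _)) sys_UK (le.mix_right _) (fun P hP => ?_) 2
  by_cases hc : CenB p A P
  · exact .inl (mix_pos hc).le
  refine .inr ⟨AddSubgroup.index_ne_zero_of_finite, ⟨e, fun m hm => ?_⟩, xg A P, le_top,
    inf_le_right.trans (norm_le_norm_xg P), not_sylow_xg (hX P hP) hc, fun k hk hkP => ⟨0, fun m hm => ?_⟩⟩
  all_goals rw [mix_neg hc] at hm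
  · exact (funext₂ fun x y => he _ (hm.1.1.1 x y) : p ^ e • m = 0) ▸ zero_mem _
  · have := fx_conj act₂ inv₂ (mem_top k) le_top hm.1
    rw [conj_of_mem_norm hkP] at this
    rw [pow_zero, pow_one]
    refine mem_UK_bot.2 ⟨sub_mem this hm.1, fun g hg => sub_eq_zero.2 ?_⟩
    have h1 := mem_xg.1 (inv_mem hk) g hg
    have e : k⁻¹ * g * k = 1 * ⁅k⁻¹, g⁆ * g := by simp [commutatorElement_def]
    rw [ρ_ev hm.1 (by rw [e, one_mul]; exact mul_mem (hX P hP h1) hg), e, mul_assoc, one_mul,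
      hom hm.1 (hX P hP h1), ← one_mul ⁅k⁻¹, g⁆, hm.1.1.2.2 1 _ h1, zero_add]

omit [Finite G] [Fact p.Prime] in
theorem cm_out (hA : A ≤ center G) (y g : G) : ⁅(y : G ⧸ A).out, g⁆ = ⁅y, g⁆ := by
  obtain ⟨⟨a, ha⟩, e⟩ := QuotientGroup.mk_out_eq_mul A y
  rw [e, commutatorElement_def, commutatorElement_def, mul_assoc y a, ← mem_center_iff.1 (hA ha)]; group

omit hn in
theorem pp (hA : A ≤ center G) (hp : IsPGroup p A) (hy : ∀ x ∈ P, ⁅y, x⁆ ∈ A) :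
    ∀ x ∈ P, ⁅H5.pPart p y, x⁆ = ⁅y, x⁆ := fun x hx => by
  have e : ∀ n : ℕ, ⁅y ^ n, x⁆ = ⁅y, x⁆ ^ n := fun n => by
    induction n with
    | zero => simp
    | succ n ih => rw [pow_succ, cm_mul (hA (hy x hx)), ih, pow_succ]
  exact (e _).trans (H5.pPart_of_pElt (H5.isPElt_of_mem hp (hy x hx)))

/-- the pairing of `ℤ[G/A]` with `g` -/
noncomputable def pr (A : Subgroup G) [A.Normal] (g : G) : (G ⧸ A →₀ ℤ) →+ Zc G := ev fun y => tz ⁅y.out, g⁆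

omit [Finite G] in
theorem pr_single (hA : A ≤ center G) (g y : G) : pr A g (Finsupp.single (y : G ⧸ A) 1) = tz ⁅y, g⁆ := by
  rw [pr, ev_single, cm_out hA]

omit [Finite G] in
theorem pr_ev (hA : A ≤ center G) (hg : g ∈ P) {u : G ⧸ A →₀ ℤ}
    (hu : u - Finsupp.single (y : G ⧸ A) 1 ∈ rel ((P ⊓ xg A P).map (QuotientGroup.mk' A))) :
    pr A g u = tz ⁅y, g⁆ := by
  rw [← cm_out hA]
  refine ev_eq ?_ hu
  rintro _ ⟨a, ha, rfl⟩ _ ⟨b, hb, rfl⟩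
  rw [← map_mul]
  simp only [QuotientGroup.mk'_apply, cm_out hA]
  rw [cm_mul (hA (mem_xg.1 hb.2 g hg)), tz_mul (hA (mem_xg.1 ha.2 g hg)) (hA (mem_xg.1 hb.2 g hg))]

/-- the correspondence on centric subgroups -/
def Th (A : Subgroup G) [A.Normal] (P : Subgroup G) : AddSubgroup ((G ⧸ A →₀ ℤ) × (G → G → Zc G)) where
  carrier := {w | w.1 ∈ spn ((P ⊓ xg A P).map (QuotientGroup.mk' A)) ∧ w.2 ∈ fx ρ₂ (D₂ A) P ∧
    ∀ g ∈ P, w.2 1 g = pr A g w.1}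
  zero_mem' := ⟨zero_mem _, zero_mem _, by simp⟩
  add_mem' h h' := ⟨add_mem h.1 h'.1, add_mem h.2.1 h'.2.1, fun g hg => by simp [h.2.2 g hg, h'.2.2 g hg]⟩
  neg_mem' h := ⟨neg_mem h.1, neg_mem h.2.1, fun g hg => by simp [h.2.2 g hg]⟩

omit [Finite G] in
theorem Th.ex (hA : A ≤ center G) {u : G ⧸ A →₀ ℤ} (h : (u, m) ∈ Th A P) : ∃ z ∈ P ⊓ xg A P,
    u - Finsupp.single (z : G ⧸ A) 1 ∈ rel ((P ⊓ xg A P).map (QuotientGroup.mk' A)) ∧
    ∀ g ∈ P, vz (m 1 g) = ⁅z, g⁆ := by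
  obtain ⟨_, ⟨z, hz, rfl⟩, e⟩ := exists_single h.1
  exact ⟨z, hz, e, fun g hg => by rw [show m 1 g = _ from h.2.2 g hg, pr_ev hA hg e, vz_tz (hA (mem_xg.1 hz.2 g hg))]⟩

omit [Finite G] in
theorem Th.mk (hA : A ≤ center G) {u : G ⧸ A →₀ ℤ} {z : G} (hz : z ∈ P ⊓ xg A P)
    (e : u - Finsupp.single (z : G ⧸ A) 1 ∈ rel ((P ⊓ xg A P).map (QuotientGroup.mk' A)))
    (hm : m ∈ fx ρ₂ (D₂ A) P) (h : ∀ g ∈ P, vz (m 1 g) = ⁅z, g⁆) : (u, m) ∈ Th A P :=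
  ⟨mem_spn_of_ev (mem_map_of_mem _ hz) e, hm, fun g hg => vz_inj (by
    rw [h g hg, pr_ev hA hg e, vz_tz (hA (mem_xg.1 hz.2 g hg))])⟩

omit [Finite G] in
theorem Th.uk (hA : A ≤ center G) {u : G ⧸ A →₀ ℤ} (h : (u, m) ∈ Th A P) : m ∈ UK A ⊤ P :=
  let ⟨z, _, _, e⟩ := Th.ex hA h
  ⟨h.2.1, z, trivial, e⟩

omit [Finite G] in
theorem Th.fix {u : G ⧸ A →₀ ℤ} (h : (u, m) ∈ Th A P) (hg : g ∈ P) : cj (g : G ⧸ A) u = u := by
  refine cj_fix ?_ h.1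
  rintro _ ⟨z, hz, rfl⟩
  exact commutatorElement_eq_one_iff_mul_comm.1 ((QuotientGroup.eq_one_iff _).2 (mem_xg.1 hz.2 g hg))

theorem ex_on [KZ2] (hA : A ≤ center G) (hp : IsPGroup p A) (hG : Geo p (⊤ : Subgroup G) (Set.univ : Set X))
    (hX : ∀ g ∈ A, ∀ a : X, g • a = a) :
    Ex ⊤ (Set.univ : Set X) ρ₂ (UK A ⊤) (mix (CenB p A) (UK A ⊤) (UK A ⊥)) 2 := by
  have ac : Act ⊤ fun g : G => cj (g : G ⧸ A) := (act_cj ⊤).comp (QuotientGroup.mk' A) fun _ _ => trivial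
  have up := up_cenB (p := p) (A := A) ⊤
  refine FW.cm (Θ := mix (CenB p A) (fun P => (fx (fun g : G => cj (g : G ⧸ A)) ⊤ P).prod (UK A ⊤ P)) (Th A))
    hG ac act₂ ⟨fun P Q _ hQ h ⟨u, m⟩ => ?_, fun k hk P hP u m => ?_, fun P _ u m => ?_, fun P hP u => ?_,
      fun P hP m => ?_, fun P hP u m => ?_⟩ (KZ2.out hA hp hG hX)
  · by_cases hc : CenB p A P
    · rw [mix_pos hc, mix_pos (up.mono P Q h le_top (hQ.pg hG) hc)]
      exact fun H => ⟨spn_mono (map_mono (hc.inf_le h (hQ.pg hG))) H.1, fx_anti _ h H.2.1,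
        fun g hg => H.2.2 g (h hg)⟩
    rw [mix_neg hc]
    by_cases hc : CenB p A Q
    · rw [mix_pos hc]
      exact fun H => ⟨⟨trivial, fun g hg => Th.fix H (h hg)⟩, UK_anti h (Th.uk hA H)⟩
    · rw [mix_neg hc]
      exact fun H => ⟨fx_anti _ h H.1, UK_anti h H.2⟩
  · by_cases hc : CenB p A P
    · rw [mix_pos hc, mix_pos (up.conj k hk P le_top (hP.pg hG) hc)]
      intro H
      obtain ⟨z, hz, e1, e2⟩ := Th.ex hA H
      have e : (k ⋆ P) ⊓ xg A (k ⋆ P) = k ⋆ (P ⊓ xg A P) := by rw [conj_inf, conj_xg]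
      refine Th.mk hA (z := k * z * k⁻¹) (e ▸ conj_mem_conj k hz) ?_ (fx_conj act₂ inv₂ hk le_top H.2.1)
        fun g hg => ?_
      · have := cj_rel (k : G ⧸ A) e1
        rw [map_sub, cj_single] at this
        refine rel_mono ?_ this
        rintro _ ⟨_, ⟨w, hw, rfl⟩, rfl⟩
        exact ⟨_, e ▸ conj_mem_conj k hw, rfl⟩
      · have := mem_conj.1 hg
        rw [ρ_ev H.2.1 this, cm_cj (hA (mem_xg.1 hz.2 _ this)), e2 _ this]
    · rw [mix_neg hc, mix_neg (mt (up.conj_iff hk le_top (hP.pg hG)).1 hc)]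
      exact fun H => ⟨fx_conj (D := ⊤) ac (fun _ _ _ _ => trivial) hk le_top H.1,
        (sys_UK (p := p)).conj k hk P le_top (hP.pg hG) _ H.2⟩
  · by_cases hc : CenB p A P
    · rw [mix_pos hc]; exact fun H g hg => ⟨Th.fix H hg, H.2.1.2 g hg⟩
    · rw [mix_neg hc]; exact fun H g hg => ⟨H.1.2 g hg, H.2.1.2 g hg⟩
  · by_cases hc : CenB p A P
    · simp only [mix_pos hc]
      refine ⟨fun h => ?_, fun ⟨_, H⟩ => H.1⟩
      obtain ⟨_, ⟨z, hz, rfl⟩, e⟩ := exists_single h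
      obtain ⟨m, h1, h2⟩ := exists_m hA (hc.le hp) (k := fun g => ⁅z, g⁆) ⟨fun x hx y hy => by
        rw [← cj_cen (hA (mem_xg.1 hz.2 y hy)) x]; simp only [commutatorElement_def]; group,
        mem_xg.1 hz.2, fun x hx => commutatorElement_eq_one_iff_mul_comm.2 (mem_center_iff.1 (hA hx) z)⟩
      exact ⟨m, Th.mk hA hz e h1 h2⟩
    · simp only [mix_neg hc]; exact ⟨fun h => ⟨0, h, zero_mem _⟩, fun ⟨_, H⟩ => H.1⟩
  · by_cases hc : CenB p A P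
    · simp only [mix_pos hc]
      refine ⟨fun ⟨h1, y, _, e⟩ => ?_, fun ⟨_, H⟩ => Th.uk hA H⟩
      have hy : ∀ x ∈ P, ⁅y, x⁆ ∈ A := fun x hx => e x hx ▸ h1.1.1 _ _
      have e1 := pp hA hp hy
      have h2 : H5.pPart p y ∈ xg A P := mem_xg.2 fun x hx => e1 x hx ▸ hy x hx
      exact ⟨_, Th.mk hA ⟨hc _ (zpowers_le.2 h2) (H5.isPGroup_zpowers (H5.pPart_pElt y)) (mem_zpowers _), h2⟩
        (by rw [sub_self]; exact zero_mem _) h1 fun g hg => e1 g hg ▸ e g hg⟩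
    · simp only [mix_neg hc]; exact ⟨fun h => ⟨0, zero_mem _, h⟩, fun ⟨_, H⟩ => H.2⟩
  · by_cases hc : CenB p A P
    · simp only [mix_pos hc]
      intro H
      obtain ⟨z, hz, e1, e2⟩ := Th.ex hA H
      refine ⟨fun h => mem_UK_bot.2 ⟨H.2.1, fun g hg => ?_⟩, fun h => ?_⟩
      · refine (H.2.2 g hg).trans ?_
        refine (sup_le (fun w hw => ?_) (spn_le_iff.2 ?_) : _ ≤ (pr A g).ker) h
        · rw [AddMonoidHom.mem_ker, pr_ev hA hg (y := 1) (sub_mem hw single_one_mem_rel),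
            commutatorElement_one_left, tz_one]
        · rintro _ ⟨w, hw, rfl⟩
          rw [AddMonoidHom.mem_ker, QuotientGroup.mk'_apply, pr_single hA,
            commutatorElement_eq_one_iff_mul_comm.2 (hw.2 g hg).symm, tz_one]
      · rw [← sub_add_cancel u (Finsupp.single (z : G ⧸ A) 1)]
        exact AddSubgroup.add_mem_sup e1 (single_mem_spn ⟨z, ⟨hz.1, fun g hg =>
          (commutatorElement_eq_one_iff_mul_comm.1 (by
            rw [← e2 g hg, (mem_UK_bot.1 h).2 g hg, vz_zero])).symm⟩, rfl⟩)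
    · simp only [mix_neg hc]; exact fun H => iff_of_true H.1 H.2

instance instHK [KZ2] : HK := ⟨fun {G} _ _ X _ _ p _ A hA hp hG hX h h1 h2 h3 => by
  haveI : A.Normal := ⟨fun a ha x => (cj_cen (hA ha) x).symm ▸ ha⟩
  obtain ⟨e, he⟩ := tor hp
  have hS : ∀ l : List X, A ≤ st ⊤ l := fun l a ha => mem_st.2 ⟨trivial, fun x _ => hX a ha x⟩
  have E := ((FW.ac hG act₂ inv₂ ⟨e, fun u hu => funext₂ fun x y => he _ (hu.1 x y)⟩ le_rfl).quot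
    (ex_WH hp hG) (fun _ _ => zr_le _ _) fun _ _ => UK_le).quot (((ex_on hA hp hG hX).trans
      (ex_off hp hG fun P ⟨l, _, _, e⟩ => e ▸ hS l) (fun _ _ => le_mix UK_bot_le) fun _ _ => mix_le UK_bot_le))
    (fun _ _ => UK_bot_le) fun _ _ => UK_le
  obtain ⟨f, f1, f2⟩ := exists_cochain hG act₂ 2 (fun l m => m ∈ fx ρ₂ (D₂ A) (st ⊤ l) ∧
    ∀ a b, l = [a, b] → ∀ x ∈ st ⊤ l, vz (m 1 x) = h a b x) (fun g hg l hl m ⟨k1, k2⟩ => by
      obtain ⟨a, -, b, -, rfl⟩ := on_two.1 hl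
      rw [st_map hg]
      refine ⟨fx_conj act₂ inv₂ hg le_top k1, fun _ _ e x hx => ?_⟩
      cases e
      have := mem_conj.1 hx
      rw [ρ_ev k1 this, k2 a b rfl _ this, ← h2 g a b _ this]; simp [mul_assoc]) fun l hl => by
      obtain ⟨a, -, b, -, rfl⟩ := on_two.1 hl
      obtain ⟨m, k1, k2⟩ := exists_m hA (hS _) (h1 a b)
      exact ⟨m, ⟨k1, fun _ _ e => by cases e; exact k2⟩, k1.2⟩
  have hf : Co ⊤ Set.univ ρ₂ (fx ρ₂ (D₂ A)) 2 f := co_succ f2 fun l hl => (f1 l hl).1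
  have o2 : ∀ a b : X, On Set.univ 2 [a, b] := fun a b => ⟨rfl, fun _ _ => trivial⟩
  have o1 : ∀ a : X, On Set.univ 1 [a] := fun a => ⟨rfl, fun _ _ => trivial⟩
  have f3 := fun a b => (f1 _ (o2 a b)).2 a b rfl
  obtain ⟨η, η1, η2⟩ := E f hf fun l hl => ⟨hf.dd_mem (fun _ _ _ _ => fx_anti _) hl, by
    obtain ⟨a, -, b, -, c, -, rfl⟩ := on_three.1 hl
    obtain ⟨y, hy⟩ := h3 a b c
    refine ⟨y, trivial, fun x hx => ?_⟩
    have := hy x hx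
    rw [← f3 b c x (st_anti (by simp) hx), ← f3 a b x (st_anti (by simp) hx),
      ← f3 a c x (st_anti (by simp) hx), ← inv_mul_eq_iff_eq_mul, ← vz_add, ← vz_neg, ← vz_add] at this
    rw [← this, dd_three]
    simp only [Pi.add_apply, Pi.sub_apply]; congr 1; abel⟩
  refine ⟨fun a x => vz (η [a] 1 x), fun a => homA (η1.mem' (o1 a)), fun g a x hx => ?_, fun a b => ?_⟩
  · have := η1.eqv g trivial _ (o1 a)
    simp only [List.map] at this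
    simp only [this]
    rw [ρ_ev (η1.mem' (o1 a)) (by simpa [mul_assoc] using hx)]; simp [mul_assoc]
  · obtain ⟨-, y, -, hy⟩ := η2 _ (o2 a b)
    refine ⟨y, fun x hx => ?_⟩
    rw [← hy x hx, ← f3 a b x hx, dd_two, ← vz_add, ← vz_add]
    simp only [Pi.sub_apply]; congr 1; abel⟩

end Cfsg.Agent.Ch.H4
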