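import Cfsg.Agent.FT.B9
import Cfsg.Agent.FT.Basic4
import Cfsg.Agent.H2.Subnormal

/-! Interface for S5242: a Cech cochain model of higher limits over the orbit category of
`p`-subgroups.  Paper proofs: `notes/ch.md`. -/

set_option autoImplicit false

namespace Cfsg.Agent.Ch

open Subgroup Cfsg.Agent.H1 Cfsg.Agent.L Cfsg.Agent.FT
open scoped Pointwise commutatorElement

section Defs
variable {G : Type} [Group G] {X : Type} [MulAction G X] {M : Type} [AddCommGroup M]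

/-- `Ω` is a `Γ`-set with `p`-groups as stabilisers on which each `p`-subgroup has a fixed point. -/
structure Geo (p : ℕ) (Γ : Subgroup G) (Ω : Set X) : Prop where
  inv : ∀ g ∈ Γ, ∀ a ∈ Ω, g • a ∈ Ω
  pg : ∀ a ∈ Ω, IsPGroup p ↥(Γ ⊓ MulAction.stabilizer G a)
  fix : ∀ P : Subgroup G, P ≤ Γ → IsPGroup p P → ∃ a ∈ Ω, ∀ g ∈ P, g • a = a

/-- `ρ` is an action of `Γ` on `M`. -/
structure Act (Γ : Subgroup G) (ρ : G → M →+ M) : Prop where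
  one : ∀ x, ρ 1 x = x
  mul : ∀ g ∈ Γ, ∀ h ∈ Γ, ∀ x, ρ (g * h) x = ρ g (ρ h x)

/-- pointwise stabiliser in `Γ` of a list of points -/
def st (Γ : Subgroup G) (l : List X) : Subgroup G := Γ ⊓ ⨅ a ∈ l, MulAction.stabilizer G a

/-- lists of length `n` with entries in `Ω` -/
def On (Ω : Set X) (n : ℕ) (l : List X) : Prop := l.length = n ∧ ∀ a ∈ l, a ∈ Ω

/-- `P` is the stabiliser of a nonempty list in `Ω`. -/
def Stb (Γ : Subgroup G) (Ω : Set X) (P : Subgroup G) : Prop :=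
  ∃ l : List X, l ≠ [] ∧ (∀ a ∈ l, a ∈ Ω) ∧ P = st Γ l

/-- points of `Ω` fixed by `Y` -/
def Fx (Ω : Set X) (Y : Subgroup G) : Set X := {a | a ∈ Ω ∧ ∀ g ∈ Y, g • a = a}

/-- the coboundary (alternating sum over the omitted entry) -/
def dd : (List X → M) → List X → M
  | _, [] => 0
  | f, a :: l => f l - dd (fun t => f (a :: t)) l

/-- equivariant cochains on lists of length `n` with values in the system `U` -/
structure Co (Γ : Subgroup G) (Ω : Set X) (ρ : G → M →+ M) (U : Subgroup G → AddSubgroup M)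
    (n : ℕ) (f : List X → M) : Prop where
  eqv : ∀ g ∈ Γ, ∀ l, On Ω n l → f (l.map (g • ·)) = ρ g (f l)
  mem : ∀ l, On Ω n l → l ≠ [] → f l ∈ U (st Γ l)
  nil : n = 0 → f [] = 0

/-- the cohomology of `U / W` vanishes in degree `m` -/
def Ex (Γ : Subgroup G) (Ω : Set X) (ρ : G → M →+ M) (U W : Subgroup G → AddSubgroup M)
    (m : ℕ) : Prop :=
  ∀ f, Co Γ Ω ρ U (m + 1) f → (∀ l, On Ω (m + 2) l → dd f l ∈ W (st Γ l)) →
    ∃ g, Co Γ Ω ρ U m g ∧ ∀ l, On Ω (m + 1) l → f l - dd g l ∈ W (st Γ l)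

/-- a coefficient system on the `p`-subgroups of `Γ` -/
structure Sys (p : ℕ) (Γ : Subgroup G) (ρ : G → M →+ M) (U : Subgroup G → AddSubgroup M) :
    Prop where
  anti : ∀ P Q : Subgroup G, P ≤ Q → Q ≤ Γ → IsPGroup p Q → U Q ≤ U P
  conj : ∀ g ∈ Γ, ∀ P : Subgroup G, P ≤ Γ → IsPGroup p P → ∀ x ∈ U P, ρ g x ∈ U (g ⋆ P)
  fix : ∀ P : Subgroup G, P ≤ Γ → IsPGroup p P → ∀ x ∈ U P, ∀ g ∈ P, ρ g x = x

/-- `W ≤ U` on the `p`-subgroups of `Γ` -/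
def Le (p : ℕ) (Γ : Subgroup G) (W U : Subgroup G → AddSubgroup M) : Prop :=
  ∀ P : Subgroup G, P ≤ Γ → IsPGroup p P → W P ≤ U P

open Classical in
/-- `W` on the family `𝒰`, `U` off it -/
noncomputable def mix (𝒰 : Subgroup G → Prop) (U W : Subgroup G → AddSubgroup M) :
    Subgroup G → AddSubgroup M := fun P => if 𝒰 P then W P else U P

/-- an upward closed invariant family of `p`-subgroups of `Γ` -/
structure Up (p : ℕ) (Γ : Subgroup G) (𝒰 : Subgroup G → Prop) : Prop where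
  mono : ∀ P Q : Subgroup G, P ≤ Q → Q ≤ Γ → IsPGroup p Q → 𝒰 P → 𝒰 Q
  conj : ∀ g ∈ Γ, ∀ P : Subgroup G, P ≤ Γ → IsPGroup p P → 𝒰 P → 𝒰 (g ⋆ P)

/-- fixed points `D^P` -/
def fx (ρ : G → M →+ M) (D : AddSubgroup M) (P : Subgroup G) : AddSubgroup M where
  carrier := {x | x ∈ D ∧ ∀ g ∈ P, ρ g x = x}
  zero_mem' := ⟨zero_mem _, fun g _ => map_zero _⟩
  add_mem' := fun ha hb => ⟨add_mem ha.1 hb.1, fun g hg => by
    rw [map_add, ha.2 g hg, hb.2 g hg]⟩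
  neg_mem' := fun ha => ⟨neg_mem ha.1, fun g hg => by rw [map_neg, ha.2 g hg]⟩

/-- the zero system -/
def zr : Subgroup G → AddSubgroup M := fun _ => ⊥

/-- `D` is a finite `Γ`-invariant `p`-subgroup of `M`. -/
structure Mod (p : ℕ) (Γ : Subgroup G) (ρ : G → M →+ M) (D : AddSubgroup M) : Prop where
  inv : ∀ g ∈ Γ, ∀ x ∈ D, ρ g x ∈ D
  fin : Finite D
  tor : ∃ e : ℕ, ∀ x ∈ D, p ^ e • x = 0

/-- best offenders on `D` -/
structure Off (ρ : G → M →+ M) (D : AddSubgroup M) (A : Subgroup G) : Prop where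
  ab : ∀ a ∈ A, ∀ b ∈ A, ∀ x ∈ D, ρ (a * b) x = ρ (b * a) x
  best : ∀ B : Subgroup G, B ≤ A → #|B| * Nat.card (fx ρ D B) ≤ #|A| * Nat.card (fx ρ D A)

/-- the subgroup generated by the members of `𝒜` inside `P` -/
def JJ (𝒜 : Subgroup G → Prop) (P : Subgroup G) : Subgroup G := sSup {A | 𝒜 A ∧ A ≤ P}

/-- a norm-good family -/
structure NG (p : ℕ) (Γ : Subgroup G) (ρ : G → M →+ M) (D : AddSubgroup M)
    (𝒜 : Subgroup G → Prop) : Prop where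
  conj : ∀ g ∈ Γ, ∀ A : Subgroup G, A ≤ Γ → 𝒜 A → 𝒜 (g ⋆ A)
  norm : ∀ A : Subgroup G, A ≤ Γ → IsPGroup p A → 𝒜 A → ∀ A₀ : Subgroup G, A₀ ≤ A →
    A₀.relIndex A = p → ∀ a ∈ A, a ∉ A₀ → ∀ w ∈ fx ρ D A₀, p • w = 0 →
      ∑ i ∈ Finset.range p, ρ (a ^ i) w = 0

/-- rank function `r` and localising subgroup `j` -/
structure RJ (p : ℕ) (Γ : Subgroup G) (r : Subgroup G → ℕ) (j : Subgroup G → Subgroup G) :
    Prop where
  mono : ∀ P Q : Subgroup G, P ≤ Q → Q ≤ Γ → IsPGroup p Q → r P ≤ r Q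
  rconj : ∀ g ∈ Γ, ∀ P : Subgroup G, P ≤ Γ → IsPGroup p P → r (g ⋆ P) = r P
  jconj : ∀ g ∈ Γ, ∀ P : Subgroup G, P ≤ Γ → IsPGroup p P → j (g ⋆ P) = g ⋆ j P
  jle : ∀ P : Subgroup G, P ≤ Γ → IsPGroup p P → j P ≤ P
  rj : ∀ P : Subgroup G, P ≤ Γ → IsPGroup p P → r (j P) = r P
  jeq : ∀ P Q : Subgroup G, P ≤ Q → Q ≤ Γ → IsPGroup p Q → r P = r Q → j P = j Q

/-- the condition that makes the atomic piece `U P / W P` acyclic -/
structure Van (p : ℕ) (Γ : Subgroup G) (ρ : G → M →+ M) (U W : Subgroup G → AddSubgroup M)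
    (P : Subgroup G) : Prop where
  fin : (W P).relIndex (U P) ≠ 0
  tor : ∃ e : ℕ, ∀ x ∈ U P, p ^ e • x ∈ W P
  ex : ∃ K : Subgroup G, K ≤ Γ ∧ Γ ⊓ 𝐍(P) ≤ 𝐍(K) ∧ ¬ IsSylowIn p (P ⊓ K) K ∧
    ∀ k ∈ K, k ∈ 𝐍(P) → ∃ n : ℕ, ∀ x ∈ U P, ρ (k ^ p ^ n) x - x ∈ W P

/-- `Θ` identifies `U / W` with `U' / W'` on stabilisers. -/
structure Corr {M' : Type} [AddCommGroup M'] (Γ : Subgroup G) (Ω : Set X) (ρ : G → M →+ M)
    (ρ' : G → M' →+ M') (U W : Subgroup G → AddSubgroup M) (U' W' : Subgroup G → AddSubgroup M')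
    (Θ : Subgroup G → AddSubgroup (M × M')) : Prop where
  anti : ∀ P Q, Stb Γ Ω P → Stb Γ Ω Q → P ≤ Q → Θ Q ≤ Θ P
  conj : ∀ g ∈ Γ, ∀ P, Stb Γ Ω P → ∀ x x', (x, x') ∈ Θ P → (ρ g x, ρ' g x') ∈ Θ (g ⋆ P)
  fix : ∀ P, Stb Γ Ω P → ∀ x x', (x, x') ∈ Θ P → ∀ g ∈ P, ρ g x = x ∧ ρ' g x' = x'
  left : ∀ P, Stb Γ Ω P → ∀ x, x ∈ U P ↔ ∃ x', (x, x') ∈ Θ P
  right : ∀ P, Stb Γ Ω P → ∀ x', x' ∈ U' P ↔ ∃ x, (x, x') ∈ Θ P
  ker : ∀ P, Stb Γ Ω P → ∀ x x', (x, x') ∈ Θ P → (x ∈ W P ↔ x' ∈ W' P)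

/-- conjugation action on the integral group ring -/
noncomputable def cj (g : G) : (G →₀ ℤ) →+ (G →₀ ℤ) :=
  Finsupp.mapDomain.addMonoidHom (fun x => g * x * g⁻¹)

/-- span of the elements of `H` -/
noncomputable def spn (H : Subgroup G) : AddSubgroup (G →₀ ℤ) :=
  AddSubgroup.closure {u | ∃ z ∈ H, u = Finsupp.single z 1}

/-- relations: `spn H / rel H` is the abelianisation of `H` -/
noncomputable def rel (H : Subgroup G) : AddSubgroup (G →₀ ℤ) :=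
  AddSubgroup.closure {u | ∃ a ∈ H, ∃ b ∈ H,
    u = Finsupp.single (a * b) 1 - Finsupp.single a 1 - Finsupp.single b 1}

/-- `P` is `p`-centric. -/
def Cen (p : ℕ) (P : Subgroup G) : Prop := ∀ R : Subgroup G, R ≤ 𝐂(P) → IsPGroup p R → R ≤ P

/-- the elements centralising `P` modulo `A` -/
def xg (A P : Subgroup G) : Subgroup G := 𝐍(A) ⊓ ⨅ x ∈ P, B9.commMod A x

/-- `P / A` is `p`-centric in `G / A`. -/
def CenB (p : ℕ) (A P : Subgroup G) : Prop :=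
  ∀ R : Subgroup G, R ≤ xg A P → IsPGroup p R → R ≤ P

/-- `h` restricts to a homomorphism `P / A → A`. -/
structure HomA (A P : Subgroup G) (h : G → G) : Prop where
  mul : ∀ x ∈ P, ∀ y ∈ P, h (x * y) = h x * h y
  mem : ∀ x ∈ P, h x ∈ A
  triv : ∀ x ∈ A, h x = 1

/-- a bundled action as a family of additive maps -/
def ac (G D : Type) [Group G] [AddCommGroup D] [DistribMulAction G D] (g : G) : D →+ D :=
  DistribSMul.toAddMonoidHom D g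

variable (D : Type) [AddCommGroup D] [DistribMulAction G D]

/-- weak offender (faithful case) -/
structure WOff (B : Subgroup G) : Prop where
  ne : B ≠ ⊥
  ab : ∀ a ∈ B, ∀ b ∈ B, a * b = b * a
  val : Nat.card D ≤ #|B| * Nat.card (fx (ac G D) ⊤ B)

/-- member of the norm-good family for `p = 2` -/
structure Mem (A : Subgroup G) : Prop extends WOff D A where
  pg : IsPGroup 2 A
  idx : ∀ A₀ : Subgroup G, A₀ ≤ A → A₀.relIndex A = 2 → fx (ac G D) ⊤ A₀ ≤ fx (ac G D) ⊤ A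

variable {D}

/-- `t` is the transvection with centre `v` and axis `ker φ`. -/
structure Tv (t : G) (v : D) (φ : D →+ ZMod 2) : Prop where
  ne : v ≠ 0
  two : v + v = 0
  nz : φ ≠ 0
  self : φ v = 0
  smul : ∀ x, t • x = x + (φ x).val • v

variable (G D) in
/-- `D` is a faithful finite `2`-group module of `G` with `O_2(G) = 1`. -/
structure Fa : Prop where
  tor : ∃ e : ℕ, ∀ x : D, 2 ^ e • x = 0
  faith : ∀ g : G, (∀ x : D, g • x = x) → g = 1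
  core : ∀ K : Subgroup G, K.Normal → IsPGroup 2 K → K = ⊥

end Defs

/-- framework (helper7, Ch/A*.lean; the easy rules are theorems in Ch/A.lean) -/
class FW : Prop where
  cm : ∀ {G : Type} [Group G] {X : Type} [MulAction G X] {M M' : Type} [AddCommGroup M]
    [AddCommGroup M'] {p : ℕ} {Γ : Subgroup G} {Ω : Set X} {ρ : G → M →+ M} {ρ' : G → M' →+ M'}
    {U W : Subgroup G → AddSubgroup M} {U' W' : Subgroup G → AddSubgroup M'}
    {Θ : Subgroup G → AddSubgroup (M × M')} {m : ℕ}, Geo p Γ Ω → Act Γ ρ → Act Γ ρ' →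
    Corr Γ Ω ρ ρ' U W U' W' Θ → Ex Γ Ω ρ U W m → Ex Γ Ω ρ' U' W' m
  ac : ∀ {G : Type} [Group G] [Finite G] {X : Type} [MulAction G X] [Finite X] {M : Type}
    [AddCommGroup M] {p : ℕ} [Fact p.Prime] {Γ : Subgroup G} {Ω : Set X} {ρ : G → M →+ M}
    {D : AddSubgroup M} {m : ℕ}, Geo p Γ Ω → Act Γ ρ → (∀ g ∈ Γ, ∀ x ∈ D, ρ g x ∈ D) →
    (∃ e : ℕ, ∀ x ∈ D, p ^ e • x = 0) → 1 ≤ m → Ex Γ Ω ρ (fx ρ D) zr m
  floc : ∀ {G : Type} [Group G] [Finite G] {X : Type} [MulAction G X] {M : Type}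
    [AddCommGroup M] {p : ℕ} [Fact p.Prime] {Γ : Subgroup G} {Ω : Set X} {ρ : G → M →+ M}
    {U W : Subgroup G → AddSubgroup M} {r : Subgroup G → ℕ} {j : Subgroup G → Subgroup G}
    {m : ℕ}, Geo p Γ Ω → Act Γ ρ → Sys p Γ ρ U → Sys p Γ ρ W → Le p Γ W U → RJ p Γ r j →
    (∀ Y : Subgroup G, Y ≤ Γ → IsPGroup p Y → j Y = Y →
      (∃ Q, Stb Γ Ω Q ∧ j Q = Y ∧ ¬ U Q ≤ W Q) →
      Ex (Γ ⊓ 𝐍(Y)) (Fx Ω Y) ρ (mix (fun P => r Y < r P) U W) W m) → Ex Γ Ω ρ U W m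

/-- vanishing of atomic pieces -/
class ACY : Prop where
  out : ∀ {G : Type} [Group G] [Finite G] {X : Type} [MulAction G X] [Finite X] {M : Type}
    [AddCommGroup M] {p : ℕ} [Fact p.Prime] {Γ : Subgroup G} {Ω : Set X} {ρ : G → M →+ M}
    {U W : Subgroup G → AddSubgroup M}, Geo p Γ Ω → Act Γ ρ → Sys p Γ ρ U → Sys p Γ ρ W →
    Le p Γ W U → (∀ P, Stb Γ Ω P → U P ≤ W P ∨ Van p Γ ρ U W P) → ∀ m, Ex Γ Ω ρ U W m

/-- the norm argument -/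
class NRM : Prop where
  n0 : ∀ {G : Type} [Group G] [Finite G] {X : Type} [MulAction G X] [Finite X] {M : Type}
    [AddCommGroup M] {p : ℕ} [Fact p.Prime] {Γ : Subgroup G} {Ω : Set X} {ρ : G → M →+ M}
    {D : AddSubgroup M} {𝒜 𝒰 : Subgroup G → Prop}, Geo p Γ Ω → Act Γ ρ → Mod p Γ ρ D →
    NG p Γ ρ D 𝒜 → Up p Γ 𝒰 → (∀ S, IsSylowIn p S Γ → 𝒰 S → 𝒰 (JJ 𝒜 S)) →
    Ex Γ Ω ρ (mix 𝒰 (fx ρ D) zr) zr 1
  n1 : ∀ {G : Type} [Group G] [Finite G] {X : Type} [MulAction G X] [Finite X] {M : Type}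
    [AddCommGroup M] {p : ℕ} [Fact p.Prime] {Γ : Subgroup G} {Ω : Set X} {ρ : G → M →+ M}
    {D : AddSubgroup M} {𝒜 𝒰 : Subgroup G → Prop}, Geo p Γ Ω → Act Γ ρ → Mod p Γ ρ D →
    NG p Γ ρ D 𝒜 → Up p Γ 𝒰 → (∀ P, P ≤ Γ → IsPGroup p P → 𝒰 P → 𝒰 (JJ 𝒜 P)) →
    Ex Γ Ω ρ (fx ρ D) (mix 𝒰 (fx ρ D) zr) 1
  odd : ∀ {G : Type} [Group G] [Finite G] {M : Type} [AddCommGroup M] {p : ℕ} [Fact p.Prime]
    {Γ : Subgroup G} {ρ : G → M →+ M} {D : AddSubgroup M}, p ≠ 2 → Act Γ ρ → Mod p Γ ρ D →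
    NG p Γ ρ D (Off ρ D)

/-- facts on transvections -/
class TVC : Prop where
  woff : ∀ {G D : Type} [Group G] [Finite G] [AddCommGroup D] [Finite D] [DistribMulAction G D]
    {B : Subgroup G}, Fa G D → IsPGroup 2 B → WOff D B →
    (∃ A ≤ B, Mem D A) ∨ ∃ t ∈ B, ∃ (v : D) (φ : D →+ ZMod 2), Tv t v φ
  ovr : ∀ {G D : Type} [Group G] [Finite G] [AddCommGroup D] [Finite D] [DistribMulAction G D]
    {B : Subgroup G}, Fa G D → IsPGroup 2 B → (∀ a ∈ B, ∀ b ∈ B, a * b = b * a) →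
    Nat.card D < #|B| * Nat.card (fx (ac G D) ⊤ B) → ∃ A ≤ B, Mem D A
  mate : ∀ {G D : Type} [Group G] [Finite G] [AddCommGroup D] [Finite D] [DistribMulAction G D]
    {s r : G} {v w : D} {φ : D →+ ZMod 2}, Fa G D → Tv s v φ → Tv r w φ → s ≠ r →
    Mem D (closure {s, r})
  part : ∀ {G D : Type} [Group G] [Finite G] [AddCommGroup D] [Finite D] [DistribMulAction G D]
    {s : G} {v : D} {φ : D →+ ZMod 2}, Fa G D → Tv s v φ →
    ∃ (r : G) (w : D) (ψ : D →+ ZMod 2), Tv r w ψ ∧ φ w = 1 ∧ ψ v = 1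
  share : ∀ {G D : Type} [Group G] [Finite G] [AddCommGroup D] [Finite D] [DistribMulAction G D]
    {s u : G} {v : D} {φ ψ : D →+ ZMod 2}, Fa G D → Tv s v φ → Tv u v ψ → s ≠ u →
    ∃ (u' r : G) (w : D) (χ : D →+ ZMod 2), (u' = u ∧ χ = ψ ∨ u' = s * u ∧ χ = φ + ψ) ∧
      Tv u' v χ ∧ Tv r w χ ∧ r ≠ u' ∧ r * s * r⁻¹ = s * u'

/-- base case for `p = 2`, faithful module, members exist -/
class B2A : Prop where
  out : ∀ {G D X : Type} [Group G] [Finite G] [AddCommGroup D] [Finite D] [DistribMulAction G D]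
    [MulAction G X] [Finite X], Fa G D → Geo 2 (⊤ : Subgroup G) (Set.univ : Set X) →
    (∃ A : Subgroup G, Mem D A) →
    Ex ⊤ (Set.univ : Set X) (ac G D) (fx (ac G D) ⊤)
      (mix (fun P => ∃ B ≤ P, WOff D B) (fx (ac G D) ⊤) zr) 1

/-- base case for `p = 2`, faithful module, no members -/
class B2B : Prop where
  out : ∀ {G D X : Type} [Group G] [Finite G] [AddCommGroup D] [Finite D] [DistribMulAction G D]
    [MulAction G X] [Finite X], Fa G D → Geo 2 (⊤ : Subgroup G) (Set.univ : Set X) →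
    (∀ A : Subgroup G, ¬ Mem D A) →
    Ex ⊤ (Set.univ : Set X) (ac G D) (fx (ac G D) ⊤)
      (mix (fun P => ∃ B ≤ P, WOff D B) (fx (ac G D) ⊤) zr) 1

/-- base case for `p = 2`, general module -/
class RB2 : Prop where
  out : ∀ {G : Type} [Group G] [Finite G] {X : Type} [MulAction G X] [Finite X] {M : Type}
    [AddCommGroup M] {Γ : Subgroup G} {Ω : Set X} {ρ : G → M →+ M} {D : AddSubgroup M},
    Geo 2 Γ Ω → Act Γ ρ → Mod 2 Γ ρ D →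
    (∀ c ∈ Γ, (∀ x ∈ D, ρ c x = x) → (∃ n : ℕ, c ^ 2 ^ n = 1) → ∀ a ∈ Ω, c • a = a) →
    (∀ K : Subgroup G, K ≤ Γ → Γ ≤ 𝐍(K) → (∀ k ∈ K, ∃ n : ℕ, ∀ x ∈ D, ρ (k ^ 2 ^ n) x = x) →
      ∀ k ∈ K, ∀ x ∈ D, ρ k x = x) →
    Ex Γ Ω ρ (fx ρ D)
      (mix (fun P => ∃ A ≤ P, Off ρ D A ∧ ∃ a ∈ A, ∃ x ∈ D, ρ a x ≠ x) (fx ρ D) zr) 1

/-- vanishing for families closed under the offender subgroup -/
class PD : Prop where
  out : ∀ {G : Type} [Group G] [Finite G] {X : Type} [MulAction G X] [Finite X] {M : Type}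
    [AddCommGroup M] {p : ℕ} [Fact p.Prime] {Γ : Subgroup G} {Ω : Set X} {ρ : G → M →+ M}
    {D : AddSubgroup M} {𝒰 : Subgroup G → Prop}, Geo p Γ Ω → Act Γ ρ → Mod p Γ ρ D →
    Up p Γ 𝒰 → (∀ P, Stb Γ Ω P → 𝒰 P → 𝒰 (JJ (Off ρ D) P)) →
    ∀ k, 2 ≤ k → Ex Γ Ω ρ (mix 𝒰 (fx ρ D) zr) zr k

/-- the higher limits of the centre functor vanish -/
class MT : Prop where
  out : ∀ {G : Type} [Group G] [Finite G] {X : Type} [MulAction G X] [Finite X] {p : ℕ}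
    [Fact p.Prime], Geo p (⊤ : Subgroup G) (Set.univ : Set X) → ∀ k, 2 ≤ k →
    Ex (⊤ : Subgroup G) (Set.univ : Set X) cj (mix (Cen p) (fx cj ⊤) (fun P => spn (zent P)))
      (mix (Cen p) (fx cj ⊤) (fun P => rel (zent P))) k

/-- degree two for `P ↦ (P ∩ X(P)) / Z(P)` on the subgroups that are centric modulo `A` -/
class KZ : Prop where
  out : ∀ {G : Type} [Group G] [Finite G] {X : Type} [MulAction G X] [Finite X] {p : ℕ}
    [Fact p.Prime] {A : Subgroup G}, A ≤ center G → IsPGroup p A →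
    Geo p (⊤ : Subgroup G) (Set.univ : Set X) → (∀ g ∈ A, ∀ a : X, g • a = a) →
    Ex (⊤ : Subgroup G) (Set.univ : Set X) cj
      (mix (CenB p A) (fx cj ⊤) (fun P => spn (P ⊓ xg A P)))
      (mix (CenB p A) (fx cj ⊤) (fun P => rel (P ⊓ xg A P) ⊔ spn (zent P))) 2

/-- the cohomological input of S5242 -/
class HK : Prop where
  out : ∀ {G : Type} [Group G] [Finite G] {X : Type} [MulAction G X] [Finite X] {p : ℕ}
    [Fact p.Prime] {A : Subgroup G}, A ≤ center G → IsPGroup p A →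
    Geo p (⊤ : Subgroup G) (Set.univ : Set X) → (∀ g ∈ A, ∀ a : X, g • a = a) →
    ∀ h : X → X → G → G, (∀ a b, HomA A (st ⊤ [a, b]) (h a b)) →
    (∀ (g : G) (a b : X), ∀ x ∈ st (⊤ : Subgroup G) [a, b],
      h (g • a) (g • b) (g * x * g⁻¹) = h a b x) →
    (∀ a b c : X, ∃ y : G, ∀ x ∈ st (⊤ : Subgroup G) [a, b, c],
      h b c x * h a b x = h a c x * ⁅y, x⁆) →
    ∃ η : X → G → G, (∀ a, HomA A (st ⊤ [a]) (η a)) ∧
      (∀ (g : G) (a : X), ∀ x ∈ st (⊤ : Subgroup G) [a], η (g • a) (g * x * g⁻¹) = η a x) ∧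
      ∀ a b : X, ∃ y : G, ∀ x ∈ st (⊤ : Subgroup G) [a, b], h a b x * η a x = η b x * ⁅y, x⁆

end Cfsg.Agent.Ch
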