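import Cfsg.Agent.Ch.M1
import Cfsg.Agent.Ch.H0

/-! Degree two for `Z(P/A) / (Z(P)/A)`. -/

set_option autoImplicit false

namespace Cfsg.Agent.Ch

open Subgroup Cfsg.Agent.H1 Cfsg.Agent.L Cfsg.Agent.FT
open scoped Pointwise commutatorElement IsMulCommutative

variable {G : Type} [Group G] {X : Type} [MulAction G X] {p : ℕ} {Γ : Subgroup G} {Ω : Set X}

section
variable {M : Type} [AddCommGroup M] {ρ : G → M →+ M} {M' : Type} [AddCommGroup M']
  {ρ' : G → M' →+ M'} {𝒰 : Subgroup G → Prop}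

theorem corr_mix_top (hG : Geo p Γ Ω) (hA : Act Γ ρ) (hA' : Act Γ ρ') (hU : Up p Γ 𝒰)
    {V W : Subgroup G → AddSubgroup M} {V' W' : Subgroup G → AddSubgroup M'}
    {T : Subgroup G → AddSubgroup (M × M')}
    (h1 : ∀ P Q : Subgroup G, 𝒰 P → P ≤ Q → Q ≤ Γ → IsPGroup p Q → T Q ≤ T P)
    (h2 : ∀ g ∈ Γ, ∀ P : Subgroup G, 𝒰 P → ∀ x x', (x, x') ∈ T P → (ρ g x, ρ' g x') ∈ T (g ⋆ P))
    (h3 : ∀ P : Subgroup G, 𝒰 P → ∀ x x', (x, x') ∈ T P → ∀ g ∈ P, ρ g x = x ∧ ρ' g x' = x')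
    (h4 : ∀ P, 𝒰 P → ∀ x, x ∈ V P ↔ ∃ x', (x, x') ∈ T P)
    (h5 : ∀ P, 𝒰 P → ∀ x', x' ∈ V' P ↔ ∃ x, (x, x') ∈ T P)
    (h6 : ∀ P, 𝒰 P → ∀ x x', (x, x') ∈ T P → (x ∈ W P ↔ x' ∈ W' P)) :
    Corr Γ Ω ρ ρ' (mix 𝒰 (fx ρ ⊤) V) (mix 𝒰 (fx ρ ⊤) W) (mix 𝒰 (fx ρ' ⊤) V') (mix 𝒰 (fx ρ' ⊤) W')
      (mix 𝒰 (fx (fun g => (ρ g).prodMap (ρ' g)) ⊤) T) := by
  have hA2 : Act Γ (fun g => (ρ g).prodMap (ρ' g)) :=
    ⟨fun x => Prod.ext (hA.one _) (hA'.one _),
      fun g hg h hh x => Prod.ext (hA.mul g hg h hh _) (hA'.mul g hg h hh _)⟩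
  have hS := sys_mix_top hA2 hU h1 (fun g hg P hP _ _ x hx => h2 g hg P hP x.1 x.2 hx)
    fun P hP _ _ x hx g hg => Prod.ext (h3 P hP x.1 x.2 hx g hg).1 (h3 P hP x.1 x.2 hx g hg).2
  have hfx : ∀ (P : Subgroup G) x x', (x, x') ∈ fx (fun g => (ρ g).prodMap (ρ' g)) ⊤ P ↔
      x ∈ fx ρ ⊤ P ∧ x' ∈ fx ρ' ⊤ P := fun P x x' =>
    ⟨fun h => ⟨⟨trivial, fun g hg => congrArg Prod.fst (h.2 g hg)⟩,
      ⟨trivial, fun g hg => congrArg Prod.snd (h.2 g hg)⟩⟩,
      fun h => ⟨trivial, fun g hg => Prod.ext (h.1.2 g hg) (h.2.2 g hg)⟩⟩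
  refine ⟨hS.anti_stb hG, fun g hg P hP x x' hx => hS.conj g hg P hP.le (hP.pg hG) _ hx,
    fun P hP x x' hx g hg => Prod.ext_iff.1 (hS.fix P hP.le (hP.pg hG) _ hx g hg),
    fun P _ x => ?_, fun P _ x => ?_, fun P _ x x' hx => ?_⟩
  all_goals by_cases h : 𝒰 P
  · simp only [mix_pos h]; exact h4 P h x
  · simp only [mix_neg h, hfx]; exact ⟨fun hx => ⟨0, hx, zero_mem _⟩, fun ⟨_, hx⟩ => hx.1⟩
  · simp only [mix_pos h]; exact h5 P h x
  · simp only [mix_neg h, hfx]; exact ⟨fun hx => ⟨0, zero_mem _, hx⟩, fun ⟨_, hx⟩ => hx.2⟩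
  · simp only [mix_pos h] at hx ⊢; exact h6 P h x x' hx
  · simp only [mix_neg h, hfx] at hx ⊢; exact iff_of_true hx.1 hx.2

/-- only the values on the support matter -/
theorem Ex.chg (hG : Geo p Γ Ω) (hA : Act Γ ρ) (hup : Up p Γ 𝒰)
    {U W U' W' : Subgroup G → AddSubgroup M} (hU : Sys p Γ ρ U) (hU' : Sys p Γ ρ U')
    (h1 : ∀ P, 𝒰 P → U P = U' P ∧ W P = W' P) (h2 : ∀ P, ¬ 𝒰 P → U P = W P ∧ U' P = W' P) {m : ℕ}
    (h : Ex Γ Ω ρ U W m) : Ex Γ Ω ρ U' W' m := by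
  let D : AddSubgroup (M × M) := (AddMonoidHom.fst M M).eqLocus (AddMonoidHom.snd M M)
  let T : Subgroup G → AddSubgroup (M × M) := fun P => (U P).prod (U' P)
  have hT : ∀ P x x', (x, x') ∈ mix 𝒰 T (fun P => T P ⊓ D) P ↔
      x ∈ U P ∧ x' ∈ U' P ∧ (𝒰 P → x = x') := fun P x x' => by
    by_cases hP : 𝒰 P
    · rw [mix_pos hP]; exact ⟨fun h => ⟨h.1.1, h.1.2, fun _ => h.2⟩, fun h => ⟨⟨h.1, h.2.1⟩, h.2.2 hP⟩⟩
    · rw [mix_neg hP]; exact ⟨fun h => ⟨h.1, h.2, fun h' => absurd h' hP⟩, fun h => ⟨h.1, h.2.1⟩⟩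
  refine Corr.ex (Θ := mix 𝒰 T (fun P => T P ⊓ D)) ⟨fun P Q a b c x hx => ?_,
    fun g hg P hP x x' hx => ?_, fun P hP x x' hx g hg => ?_, fun P _ x => ?_, fun P _ x => ?_,
    fun P _ x x' hx => ?_⟩ hG hA hA h
  · obtain ⟨a1, a2, a3⟩ := (hT Q x.1 x.2).1 hx
    exact (hT P x.1 x.2).2 ⟨hU.anti_stb hG P Q a b c a1, hU'.anti_stb hG P Q a b c a2,
      fun h' => a3 (hup.mono P Q c b.le (b.pg hG) h')⟩
  · obtain ⟨a1, a2, a3⟩ := (hT P x x').1 hx
    exact (hT _ _ _).2 ⟨hU.conj g hg P hP.le (hP.pg hG) _ a1, hU'.conj g hg P hP.le (hP.pg hG) _ a2,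
      fun h' => by rw [a3 ((hup.conj_iff hg hP.le (hP.pg hG)).1 h')]⟩
  · obtain ⟨a1, a2, -⟩ := (hT P x x').1 hx
    exact ⟨hU.fix P hP.le (hP.pg hG) _ a1 g hg, hU'.fix P hP.le (hP.pg hG) _ a2 g hg⟩
  · simp only [hT]
    refine ⟨fun hx => ?_, fun ⟨_, hx⟩ => hx.1⟩
    by_cases hP : 𝒰 P
    · exact ⟨x, hx, (h1 P hP).1 ▸ hx, fun _ => rfl⟩
    · exact ⟨0, hx, zero_mem _, fun h' => absurd h' hP⟩
  · simp only [hT]
    refine ⟨fun hx => ?_, fun ⟨_, hx⟩ => hx.2.1⟩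
    by_cases hP : 𝒰 P
    · exact ⟨x, (h1 P hP).1 ▸ hx, hx, fun _ => rfl⟩
    · exact ⟨0, zero_mem _, hx, fun h' => absurd h' hP⟩
  · obtain ⟨a1, a2, a3⟩ := (hT P x x').1 hx
    by_cases hP : 𝒰 P
    · rw [a3 hP, (h1 P hP).2]
    · exact iff_of_true ((h2 P hP).1 ▸ a1) ((h2 P hP).2 ▸ a2)

end

variable {A : Subgroup G} [hAn : A.Normal]

theorem pow_mem_cent_of_xg (hA : A ≤ center G) {P : Subgroup G} {k : G} (hk : k ∈ xg A P) :
    k ^ #|A| ∈ 𝐂(P) := mem_centralizer_iff.2 fun x hx => by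
  have ha := mem_xg.1 hk x hx
  have h : ∀ m : ℕ, k ^ m * x = ⁅k, x⁆ ^ m * (x * k ^ m) := fun m => by
    induction m with
    | zero => simp
    | succ m ih =>
      have hc := mem_center_iff.1 (pow_mem (hA ha) m) k
      rw [pow_succ', mul_assoc, ih, ← mul_assoc, hc, pow_succ, commutatorElement_def]
      group
  have h2 : ⁅k, x⁆ ^ #|A| = 1 := congrArg Subtype.val (pow_card_eq_one' (x := (⟨_, ha⟩ : A)))
  rw [h, h2, one_mul]

theorem zent_map_mk (P : Subgroup G) :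
    zent (P.map (QuotientGroup.mk' A)) = (P ⊓ xg A P).map (QuotientGroup.mk' A) := by
  rw [xg_eq_comap]
  ext y
  constructor
  · rintro ⟨⟨x, hx, rfl⟩, h⟩; exact ⟨x, ⟨hx, h⟩, rfl⟩
  · rintro ⟨x, ⟨hx, h⟩, rfl⟩; exact ⟨⟨x, hx, rfl⟩, h⟩

theorem pgroup_comap_mk (hAp : IsPGroup p A) {R : Subgroup (G ⧸ A)} (hR : IsPGroup p R) :
    IsPGroup p (R.comap (QuotientGroup.mk' A)) :=
  hR.comap_of_ker_isPGroup _ (by rwa [QuotientGroup.ker_mk'])

theorem cen_map_iff (hAp : IsPGroup p A) {P : Subgroup G} (hP : A ≤ P) :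
    Cen p (P.map (QuotientGroup.mk' A)) ↔ CenB p A P := by
  constructor
  · intro h R hR hRp
    rw [xg_eq_comap, ← map_le_iff_le_comap] at hR
    have := h _ hR (hRp.map _)
    rwa [Subgroup.map_le_map_iff, QuotientGroup.ker_mk', sup_eq_left.2 hP] at this
  · intro h R hR hRp
    have := h _ (by rw [xg_eq_comap]; exact comap_mono hR) (pgroup_comap_mk hAp hRp)
    rw [← map_comap_eq_self_of_surjective (QuotientGroup.mk'_surjective A) R]
    exact map_mono this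

variable [Finite G] [Finite X] [hp : Fact p.Prime]

theorem kz_a [MT] (hAp : IsPGroup p A) (hG : Geo p (⊤ : Subgroup G) (Set.univ : Set X))
    (hf : ∀ g ∈ A, ∀ a : X, g • a = a) :
    Ex (⊤ : Subgroup G) (Set.univ : Set X) (fun g : G => cj (g : G ⧸ A))
      (mix (CenB p A) (fx (fun g : G => cj (g : G ⧸ A)) ⊤)
        (fun P => spn ((P ⊓ xg A P).map (QuotientGroup.mk' A))))
      (mix (CenB p A) (fx (fun g : G => cj (g : G ⧸ A)) ⊤)
        (fun P => rel ((P ⊓ xg A P).map (QuotientGroup.mk' A)))) 2 := by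
  let φ : G ⧸ A →* Equiv.Perm X := QuotientGroup.lift A (MulAction.toPermHom G X) fun g hg =>
    Equiv.ext (hf g hg)
  let _ : MulAction (G ⧸ A) X := MulAction.compHom X φ
  have hφ : ∀ (g : G) (a : X), QuotientGroup.mk' A g • a = g • a := fun _ _ => rfl
  have hG' : Geo p (⊤ : Subgroup (G ⧸ A)) (Set.univ : Set X) := by
    refine ⟨fun _ _ _ _ => trivial, fun a _ => ?_, fun P _ hP => ?_⟩
    · refine IsPGroup.le' ((hG.pg a trivial).map (QuotientGroup.mk' A)) fun y hy => ?_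
      obtain ⟨x, rfl⟩ := QuotientGroup.mk'_surjective A y
      exact mem_map_of_mem _ ⟨trivial, hy.2⟩
    · obtain ⟨a, -, h⟩ := hG.fix _ le_top (pgroup_comap_mk hAp hP)
      refine ⟨a, trivial, fun y hy => ?_⟩
      obtain ⟨x, rfl⟩ := QuotientGroup.mk'_surjective A y
      exact h x hy
  have h1 := MT.out hG' 2 le_rfl
  rw [← map_top_of_surjective _ (QuotientGroup.mk'_surjective A), ex_map_iff _ hφ] at h1
  have hAP : ∀ P, Stb (⊤ : Subgroup G) (Set.univ : Set X) P → A ≤ P := by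
    rintro _ ⟨l, -, -, rfl⟩ g hg
    exact mem_st.2 ⟨trivial, fun a _ => hf g hg a⟩
  have hfx : ∀ P : Subgroup G, fx cj ⊤ (P.map (QuotientGroup.mk' A)) =
      fx (fun g : G => cj (g : G ⧸ A)) ⊤ P := fun P => by
    ext u
    exact ⟨fun h => ⟨trivial, fun g hg => h.2 _ (mem_map_of_mem _ hg)⟩,
      fun h => ⟨trivial, by rintro _ ⟨g, hg, rfl⟩; exact h.2 g hg⟩⟩
  refine h1.congr (fun P hP => ?_) fun P hP => ?_
  all_goals
    by_cases h : CenB p A P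
    · rw [mix_pos h, mix_pos ((cen_map_iff hAp (hAP P hP)).2 h), zent_map_mk]
    · rw [mix_neg h, mix_neg (mt (cen_map_iff hAp (hAP P hP)).1 h), hfx]

theorem kz_b1 [ACY] [MT] (hA : A ≤ center G) (hAp : IsPGroup p A)
    (hG : Geo p (⊤ : Subgroup G) (Set.univ : Set X)) (hf : ∀ g ∈ A, ∀ a : X, g • a = a) :
    Ex (⊤ : Subgroup G) (Set.univ : Set X) cj (mix (CenB p A) (fx cj ⊤) (fun P => spn (zent P)))
      (mix (CenB p A) (fx cj ⊤) (fun P => rel (zent P))) 3 := by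
  have hU := sys_spn_zent (up_cen (p := p) (⊤ : Subgroup G)) fun _ h => h
  have hW := sys_rel_zent (up_cen (p := p) (⊤ : Subgroup G)) fun _ h => h
  have hle : Le p (⊤ : Subgroup G) (mix (Cen p) (fx cj ⊤) (fun P => rel (zent P)))
      (mix (Cen p) (fx cj ⊤) (fun P => spn (zent P))) := fun P _ _ => le_mix_top fun _ => rel_le_spn
  have hup := up_cenB (p := p) (A := A) ⊤
  obtain ⟨n, hn⟩ := hAp.exists_card_eq
  have h1 := ACY.out hG (act_cj _) (hU.mix hW hle hup) hW (hle.mix_right _) (fun P hP => by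
    by_cases h1 : CenB p A P
    · exact Or.inl (mix_pos h1).le
    by_cases h2 : Cen p P
    swap
    · left; rw [mix_neg h1, mix_neg h2, mix_neg h2]
    have e1 := mix_neg (U := mix (Cen p) (fx cj ⊤) (fun P => spn (zent P)))
      (W := mix (Cen p) (fx cj ⊤) (fun P => rel (zent P))) (𝒰 := CenB p A) h1
    rw [mix_pos h2] at e1
    have e2 := mix_pos (U := fx cj ⊤) (W := fun P => rel (zent P)) h2
    refine Or.inr ⟨?_, ?_, xg A P, le_top, inf_le_right.trans (norm_le_norm_xg P),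
      not_sylow_xg ?_ h1, fun x hx _ => ⟨n, fun u hu => ?_⟩⟩
    · rw [e1, e2]; exact relIndex_spn_ne_zero le_rfl
    · rw [e1, e2]
      exact tor_spn (IsPGroup.le' (hP.pg hG) (zent_le P))
    · obtain ⟨l, -, -, rfl⟩ := hP
      exact fun g hg => mem_st.2 ⟨trivial, fun a _ => hf g hg a⟩
    · rw [e1] at hu
      rw [← hn, cj_fix (centralizer_le (zent_le P) (pow_mem_cent_of_xg hA hx)) hu, sub_self]
      exact zero_mem _) 4
  refine Ex.chg hG (act_cj _) hup hU (sys_spn_zent hup fun _ h => h.cen) (fun P h => ?_)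
    (fun P h => ?_) ((MT.out hG 3 (by omega)).quot h1 ((hle.mix_right _).stb hG)
      ((hle.mix_left _).stb hG))
  · simp only [mix_pos h, mix_pos h.cen, and_self]
  · simp only [mix_neg h, and_self]

theorem kz_b2 [ACY] (hA : A ≤ center G) (hAp : IsPGroup p A)
    (hG : Geo p (⊤ : Subgroup G) (Set.univ : Set X)) (hf : ∀ g ∈ A, ∀ a : X, g • a = a) :
    Ex (⊤ : Subgroup G) (Set.univ : Set X) cj
      (mix (CenB p A) (fx cj ⊤) (fun P => rel (zent P) ⊔ spn A))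
      (mix (CenB p A) (fx cj ⊤) (fun P => rel (zent P))) 4 := by
  have hc : ∀ P : Subgroup G, A ≤ 𝐂(P) := fun P a ha =>
    mem_centralizer_iff.2 fun x _ => mem_center_iff.1 (hA ha) x
  have : IsMulCommutative A := comm_iff_le_cent.2 (hc A)
  have hΓ : (⊤ : Subgroup G) ≤ 𝐍(A) := by rw [normalizer_eq_top]
  have hAc := act_cz hΓ
  have htr : ∀ (g : G) (x : Additive A), cz A g x = x := fun g x =>
    (cz_eq_iff (hΓ trivial)).2 (mem_center_iff.1 (hA x.toMul.2) g)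
  have hF : Sys p ⊤ (cz A) (fx (cz A) ⊤) := sys_fx hAc fun _ _ _ _ => trivial
  have hup := up_cenB (p := p) (A := A) ⊤
  have hM := mod_cz (Γ := ⊤) hAp
  have h1 := ACY.out hG hAc (hF.mix sys_zr (le_zr _) hup) sys_zr (le_zr _) (fun P hP => by
    by_cases h1 : CenB p A P
    · exact Or.inl (mix_pos h1).le
    refine Or.inr ⟨AddSubgroup.index_ne_zero_of_finite, ?_, xg A P, le_top,
      inf_le_right.trans (norm_le_norm_xg P), not_sylow_xg ?_ h1, fun x _ _ => ⟨0, fun u _ => ?_⟩⟩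
    · obtain ⟨e, he⟩ := hM.tor
      exact ⟨e, fun x _ => mem_zr.2 (he x trivial)⟩
    · obtain ⟨l, -, -, rfl⟩ := hP
      exact fun g hg => mem_st.2 ⟨trivial, fun a _ => hf g hg a⟩
    · rw [htr, sub_self]; exact zero_mem _) 5
  have h2 := (ex_fx (ρ := cz A) hG hM.tor (by omega : 1 ≤ 4)).quot h1 (fun _ _ => bot_le)
    fun P _ => mix_le bot_le
  have hZ : ∀ P, CenB p A P → A ≤ zent P := fun P h => le_inf (h.le hAp) (hc P)
  refine (corr_mix_top (V' := fx (cz A) ⊤) (W' := zr) (T := fun P => th A (zent P)) hG (act_cj _)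
    hAc hup (fun P Q a b _ d u hu => ⟨hZ P a u.2.toMul.2, rel_mono (a.cen.zent_le b d) hu.2⟩)
    (fun g _ P _ x x' hx => ?_) (fun P _ x x' hx g hg => ?_) (fun P hP x => ?_)
    (fun P hP x' => ?_) fun P _ x x' hx => ?_).symm.ex hG hAc (act_cj _)
    (h2.congr (fun P _ => ?_) fun _ _ => rfl)
  · refine ⟨?_, ?_⟩
    · show ((cz A g x').toMul : G) ∈ _
      rw [coe_cz (hΓ trivial), ← conj_zent]; exact conj_mem_conj g hx.1
    · show cj g x - δ[((cz A g x').toMul : G)] ∈ _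
      rw [coe_cz (hΓ trivial), ← conj_zent, ← cj_single, ← map_sub]; exact cj_rel g hx.2
  · exact ⟨cj_fix (le_cent_zent P hg) (mem_spn_of_ev hx.1 hx.2), htr _ _⟩
  · constructor
    · intro hx
      obtain ⟨z, hz, h⟩ := exists_single (sec_le_spn (hZ P hP) hx)
      have := (mem_sec_iff (hZ P hP)
        ((comm_self_eq_bot_iff.2 (zent_comm P)).le.trans bot_le) hz h).1 hx
      exact ⟨Additive.ofMul ⟨z, this⟩, hz, h⟩
    · rintro ⟨x', hx⟩
      exact (mem_sec_iff (hZ P hP)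
        ((comm_self_eq_bot_iff.2 (zent_comm P)).le.trans bot_le) hx.1 hx.2).2 x'.toMul.2
  · exact iff_of_true ⟨trivial, fun g _ => htr g x'⟩ ⟨δ[(x'.toMul : G)], hZ P hP x'.toMul.2, by simp⟩
  · rw [mem_rel_iff (comm_self_eq_bot_iff.2 (zent_comm P)) hx.1 hx.2, mem_zr]
    exact ⟨fun h => add_ext h, fun h => by rw [h]; rfl⟩
  · simp only [mix, ite_self]

/-- graph of the map of group rings modulo relations -/
noncomputable def tq {G G' : Type} [Group G] [Group G'] (π : G →* G') (H : Subgroup G)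
    (K : Subgroup G') : AddSubgroup ((G →₀ ℤ) × (G' →₀ ℤ)) :=
  (spn H).comap (AddMonoidHom.fst _ _) ⊓
    (rel K).comap (AddMonoidHom.snd _ _ - (gm π).comp (AddMonoidHom.fst _ _))

theorem mem_tq {G G' : Type} [Group G] [Group G'] {π : G →* G'} {H : Subgroup G}
    {K : Subgroup G'} {x : G →₀ ℤ} {x' : G' →₀ ℤ} :
    (x, x') ∈ tq π H K ↔ x ∈ spn H ∧ x' - gm π x ∈ rel K := Iff.rfl

instance instKZ2 [ACY] [MT] : KZ2 where
  out {G _ _ X _ _ p _ A _} hA hAp hG hf := by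
    refine (kz_a hAp hG hf).quot ?_ (fun P _ => le_mix_top fun _ => le_sup_left)
      fun P _ => le_mix_top fun _ => sec_le_spn (map_mono (inf_le_inf_left _ cent_le_xg))
    have hc : ∀ P : Subgroup G, A ≤ 𝐂(P) := fun P a ha =>
      mem_centralizer_iff.2 fun x _ => mem_center_iff.1 (hA ha) x
    have hZ : ∀ P, CenB p A P → A ≤ zent P := fun P h => le_inf (h.le hAp) (hc P)
    have h1 := (kz_b1 hA hAp hG hf).quot (kz_b2 hA hAp hG hf)
      (fun P _ => le_mix_top fun _ => le_sup_left) fun P _ => le_mix_top fun h => sec_le_spn (hZ P h)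
    have hAq : Act ⊤ (fun g : G => cj (g : G ⧸ A)) :=
      (act_cj ⊤).comp (QuotientGroup.mk' A) fun _ _ => trivial
    let π := QuotientGroup.mk' A
    have hzz : ∀ P : Subgroup G, (zent P).map π ≤ (P ⊓ xg A P).map π := fun P =>
      map_mono (inf_le_inf_left _ cent_le_xg)
    refine (corr_mix_top (T := fun P => tq π (zent P) ((P ⊓ xg A P).map π)) hG (act_cj _) hAq
      (up_cenB ⊤) (fun P Q a b _ d u hu => ⟨spn_mono (a.cen.zent_le b d) hu.1,
        rel_mono (map_mono (a.inf_le b d)) hu.2⟩)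
      (fun g _ P _ x x' hx => ?_) (fun P _ x x' hx g hg => ?_) (fun P hP x => ?_)
      (fun P hP x' => ?_) fun P hP x x' hx => ?_).ex hG (act_cj _) hAq h1
    all_goals simp only [mem_tq] at *
    · refine ⟨by rw [← conj_zent]; exact cj_spn g hx.1, ?_⟩
      have := cj_rel (π g) hx.2
      rw [gm_cj, ← conj_xg, ← conj_inf]
      rwa [show π g ⋆ (P ⊓ xg A P).map π = (g ⋆ (P ⊓ xg A P)).map π from
        (map_conj_smul π g _).symm, map_sub] at this
    · refine ⟨cj_fix (le_cent_zent P hg) hx.1, ?_⟩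
      have h2 : x' ∈ spn ((P ⊓ xg A P).map π) := by
        have := add_mem (rel_le_spn hx.2) (spn_mono (hzz P) (gm_spn π hx.1))
        simpa using this
      rw [← zent_map_mk] at h2
      exact cj_fix (le_cent_zent _ (mem_map_of_mem π hg)) h2
    · exact ⟨fun hx => ⟨gm π x, hx, by simp⟩, fun ⟨_, hx⟩ => hx.1⟩
    · constructor
      · intro hx
        obtain ⟨a, ha, b, hb, rfl⟩ := AddSubgroup.mem_sup.1 hx
        obtain ⟨u, hu, rfl⟩ := exists_gm_eq π hb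
        exact ⟨u, hu, by simpa using ha⟩
      · rintro ⟨u, hu⟩
        exact AddSubgroup.mem_sup.2 ⟨_, hu.2, _, gm_spn π hu.1, sub_add_cancel _ _⟩
    · obtain ⟨z, hz, h⟩ := exists_single hx.1
      have h2 := add_mem hx.2 (rel_mono (hzz P) (gm_rel π h))
      have h3 : x' - δ[π z] ∈ rel ((P ⊓ xg A P).map π) := by simpa using h2
      rw [mem_sec_iff (hZ P hP) ((comm_self_eq_bot_iff.2 (zent_comm P)).le.trans bot_le) hz h,
        mem_rel_iff (by rw [← zent_map_mk]; exact comm_self_eq_bot_iff.2 (zent_comm _))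
          (hzz P (mem_map_of_mem π hz)) h3]
      exact (QuotientGroup.eq_one_iff z).symm

end Cfsg.Agent.Ch
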