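import Cfsg.Agent.Ch.Z

/-! Correspondences between group ring systems and modules. -/

set_option autoImplicit false

namespace Cfsg.Agent.Ch

open Subgroup Cfsg.Agent.H1 Cfsg.Agent.L Cfsg.Agent.FT
open scoped Pointwise commutatorElement IsMulCommutative

variable {G : Type} [Group G] {X : Type} [MulAction G X] {p : ℕ} {Γ : Subgroup G} {Ω : Set X}

section
variable {M : Type} [AddCommGroup M] {ρ : G → M →+ M} {M' : Type} [AddCommGroup M']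
  {ρ' : G → M' →+ M'} {U W : Subgroup G → AddSubgroup M} {U' W' : Subgroup G → AddSubgroup M'}
  {Θ : Subgroup G → AddSubgroup (M × M')}

theorem Corr.restrict (h : Corr Γ Ω ρ ρ' U W U' W' Θ) {V : Subgroup G → AddSubgroup M}
    {V' : Subgroup G → AddSubgroup M'} (h1 : ∀ P, Stb Γ Ω P → V P ≤ U P)
    (h2 : ∀ P, Stb Γ Ω P → V' P ≤ U' P)
    (h3 : ∀ P, Stb Γ Ω P → ∀ x x', (x, x') ∈ Θ P → (x ∈ V P ↔ x' ∈ V' P))
    (h4 : ∀ P Q, Stb Γ Ω P → Stb Γ Ω Q → P ≤ Q → V Q ≤ V P)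
    (h5 : ∀ g ∈ Γ, ∀ P, Stb Γ Ω P → ∀ x ∈ V P, ρ g x ∈ V (g ⋆ P)) :
    Corr Γ Ω ρ ρ' V W V' W' (fun P => Θ P ⊓ (V P).prod ⊤) where
  anti P Q a b c := inf_le_inf (h.anti P Q a b c) (AddSubgroup.prod_mono (h4 P Q a b c) le_rfl)
  conj g hg P hP x x' hx := ⟨h.conj g hg P hP x x' hx.1, h5 g hg P hP x hx.2.1, trivial⟩
  fix P hP x x' hx := h.fix P hP x x' hx.1
  left P hP x := ⟨fun hx => let ⟨x', h'⟩ := (h.left P hP x).1 (h1 P hP hx); ⟨x', h', hx, trivial⟩,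
    fun ⟨_, h'⟩ => h'.2.1⟩
  right P hP x' := ⟨fun hx => let ⟨x, h'⟩ := (h.right P hP x').1 (h2 P hP hx)
    ⟨x, h', (h3 P hP x x' h').2 hx, trivial⟩, fun ⟨x, h'⟩ => (h3 P hP x x' h'.1).1 h'.2.1⟩
  ker P hP x x' hx := h.ker P hP x x' hx.1

theorem Corr.mix (h : Corr Γ Ω ρ ρ' U W U' W' Θ) (hG : Geo p Γ Ω) (hU : Sys p Γ ρ U)
    (hW : Sys p Γ ρ W) (hle : Le p Γ W U) (hle' : ∀ P, Stb Γ Ω P → W' P ≤ U' P)
    {𝒰 : Subgroup G → Prop} (hup : Up p Γ 𝒰) :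
    Corr Γ Ω ρ ρ' (mix 𝒰 U W) W (mix 𝒰 U' W') W' (fun P => Θ P ⊓ (mix 𝒰 U W P).prod ⊤) :=
  h.restrict ((hle.mix_left 𝒰).stb hG) (fun P hP => mix_le (hle' P hP))
    (fun P hP x x' hx => by
      by_cases hP' : 𝒰 P
      · rw [mix_pos hP', mix_pos hP']; exact h.ker P hP x x' hx
      · rw [mix_neg hP', mix_neg hP']
        exact iff_of_true ((h.left P hP x).2 ⟨_, hx⟩) ((h.right P hP x').2 ⟨_, hx⟩))
    ((hU.mix hW hle hup).anti_stb hG)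
    fun g hg P hP => (hU.mix hW hle hup).conj g hg P hP.le (hP.pg hG)

theorem Corr.congr (h : Corr Γ Ω ρ ρ' U W U' W' Θ) {V T : Subgroup G → AddSubgroup M}
    {V' T' : Subgroup G → AddSubgroup M'} (h1 : ∀ P, Stb Γ Ω P → U P = V P)
    (h2 : ∀ P, Stb Γ Ω P → U' P = V' P)
    (h3 : ∀ P, Stb Γ Ω P → ∀ x x', (x, x') ∈ Θ P → (x ∈ T P ↔ x' ∈ T' P)) :
    Corr Γ Ω ρ ρ' V T V' T' Θ :=
  ⟨h.anti, h.conj, h.fix, fun P hP x => h1 P hP ▸ h.left P hP x,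
    fun P hP x => h2 P hP ▸ h.right P hP x, h3⟩

end

section Ab
variable (Z : Subgroup G) [IsMulCommutative Z]

open Classical in
/-- conjugation on an abelian subgroup, written additively -/
noncomputable def cz (g : G) : Additive Z →+ Additive Z :=
  if h : g ∈ 𝐍(Z) then MonoidHom.toAdditive (Z.normalizerMonoidHom ⟨g, h⟩).toMonoidHom else 0

variable {Z}

theorem coe_cz {g : G} (hg : g ∈ 𝐍(Z)) (x : Additive Z) :
    ((cz Z g x).toMul : G) = g * (x.toMul : G) * g⁻¹ := by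
  simp only [cz, dif_pos hg]; rfl

theorem add_ext {x y : Additive Z} (h : (x.toMul : G) = y.toMul) : x = y :=
  Additive.toMul.injective (Subtype.ext h)

theorem act_cz (hΓ : Γ ≤ 𝐍(Z)) : Act Γ (cz Z) where
  one x := add_ext (by rw [coe_cz (one_mem _)]; simp)
  mul g hg h hh x := add_ext (by
    rw [coe_cz (hΓ (mul_mem hg hh)), coe_cz (hΓ hg), coe_cz (hΓ hh)]; group)

theorem cz_eq_iff {g : G} (hg : g ∈ 𝐍(Z)) {x : Additive Z} :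
    cz Z g x = x ↔ g * (x.toMul : G) = x.toMul * g :=
  ⟨fun h => by rw [← mul_inv_eq_iff_eq_mul, ← coe_cz hg, h],
    fun h => add_ext (by rw [coe_cz hg, h, mul_inv_cancel_right])⟩

theorem mem_fx_cz {B : Subgroup G} (hB : B ≤ 𝐍(Z)) {x : Additive Z} :
    x ∈ fx (cz Z) ⊤ B ↔ (x.toMul : G) ∈ 𝐂(B) :=
  ⟨fun h => mem_centralizer_iff.2 fun g hg => (cz_eq_iff (hB hg)).1 (h.2 g hg),
    fun h => ⟨trivial, fun g hg => (cz_eq_iff (hB hg)).2 (mem_centralizer_iff.1 h g hg)⟩⟩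

theorem card_fx_cz {B : Subgroup G} (hB : B ≤ 𝐍(Z)) :
    Nat.card (fx (cz Z) ⊤ B) = #|Z ⊓ 𝐂(B)| :=
  Nat.card_congr ⟨fun x => ⟨x.1.toMul, x.1.toMul.2, (mem_fx_cz hB).1 x.2⟩,
    fun x => ⟨Additive.ofMul ⟨x.1, x.2.1⟩, (mem_fx_cz hB).2 x.2.2⟩, fun _ => rfl, fun _ => rfl⟩

theorem mod_cz [Finite G] [Fact p.Prime] (hZ : IsPGroup p Z) : Mod p Γ (cz Z) ⊤ where
  inv _ _ _ _ := trivial
  fin := inferInstance
  tor := by
    obtain ⟨e, he⟩ := hZ.exists_card_eq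
    exact ⟨e, fun x _ => by
      rw [← he]; exact Additive.toMul.injective (by simp)⟩

variable (Z) in
/-- the graph of the evaluation `spn H → Z` -/
noncomputable def th (H : Subgroup G) : AddSubgroup ((G →₀ ℤ) × Additive Z) where
  carrier := {u | (u.2.toMul : G) ∈ H ∧ u.1 - δ[(u.2.toMul : G)] ∈ rel H}
  zero_mem' := ⟨one_mem _, by simpa using single_one_mem_rel⟩
  add_mem' ha hb := ⟨mul_mem ha.1 hb.1, ev_mul ha.1 hb.1 ha.2 hb.2⟩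
  neg_mem' ha := ⟨inv_mem ha.1, ev_inv ha.1 ha.2⟩

theorem corr_ab (hΓ : Γ ≤ 𝐍(Z)) {H : Subgroup G → Subgroup G} (h1 : ∀ P, Stb Γ Ω P → H P = Z ⊓ 𝐂(P)) :
    Corr Γ Ω cj (cz Z) (fun P => spn (H P)) (fun P => rel (H P)) (fx (cz Z) ⊤) zr
      (fun P => th Z (Z ⊓ 𝐂(P))) where
  anti P Q _ _ c u hu :=
    have := inf_le_inf_left Z (centralizer_le (G := G) c)
    ⟨this hu.1, rel_mono this hu.2⟩
  conj g hg P _ x x' hx := by
    have e : g ⋆ (Z ⊓ 𝐂(P)) = Z ⊓ 𝐂(g ⋆ P) := by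
      rw [conj_inf, conj_of_mem_norm (hΓ hg), conj_cent]
    refine ⟨?_, ?_⟩
    · show ((cz Z g x').toMul : G) ∈ _
      rw [coe_cz (hΓ hg), ← e]; exact conj_mem_conj g hx.1
    · show cj g x - δ[((cz Z g x').toMul : G)] ∈ _
      rw [coe_cz (hΓ hg), ← e, ← cj_single, ← map_sub]; exact cj_rel g hx.2
  fix P hP x x' hx g hg :=
    ⟨cj_fix (H := Z ⊓ 𝐂(P)) (mem_centralizer_iff.2 fun z hz => (mem_centralizer_iff.1 hz.2 g hg).symm)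
      (mem_spn_of_ev hx.1 hx.2), ((mem_fx_cz (hP.le.trans hΓ)).2 hx.1.2).2 g hg⟩
  left P hP x := by
    rw [h1 P hP]
    exact ⟨fun hx => let ⟨z, hz, h⟩ := exists_single hx; ⟨Additive.ofMul ⟨z, hz.1⟩, hz, h⟩,
      fun ⟨_, hx⟩ => mem_spn_of_ev hx.1 hx.2⟩
  right P hP x' := by
    rw [mem_fx_cz (hP.le.trans hΓ)]
    exact ⟨fun hx => ⟨δ[(x'.toMul : G)], ⟨x'.toMul.2, hx⟩, by simp⟩, fun ⟨_, hx⟩ => hx.1.2⟩
  ker P hP x x' hx := by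
    rw [h1 P hP, mem_rel_iff (comm_self_eq_bot_iff.2 (comm_of_le ‹_› inf_le_left)) hx.1 hx.2,
      mem_zr]
    exact ⟨fun h => add_ext h, fun h => by rw [h]; rfl⟩

end Ab

/-- the centre system -/
theorem sys_spn_zent {𝒰 : Subgroup G → Prop} (hU : Up p Γ 𝒰) (hc : ∀ P, 𝒰 P → Cen p P) :
    Sys p Γ cj (mix 𝒰 (fx cj ⊤) (fun P => spn (zent P))) :=
  sys_mix_top (act_cj Γ) hU (fun P _ a b _ d => spn_mono ((hc P a).zent_le b d))
    (fun g _ P _ _ _ _ hx => conj_zent g P ▸ cj_spn g hx)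
    fun P _ _ _ _ hx _ hg => cj_fix (le_cent_zent P hg) hx

theorem sys_rel_zent {𝒰 : Subgroup G → Prop} (hU : Up p Γ 𝒰) (hc : ∀ P, 𝒰 P → Cen p P) :
    Sys p Γ cj (mix 𝒰 (fx cj ⊤) (fun P => rel (zent P))) :=
  sys_mix_top (act_cj Γ) hU (fun P _ a b _ d => rel_mono ((hc P a).zent_le b d))
    (fun g _ P _ _ _ _ hx => conj_zent g P ▸ cj_rel g hx)
    fun P _ _ _ _ hx _ hg => cj_fix (le_cent_zent P hg) (rel_le_spn hx)

end Cfsg.Agent.Ch
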