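import Cfsg.Agent.Ch.M1
import Cfsg.Agent.H2.Replace

/-! The higher limits of the centre functor vanish. -/

set_option autoImplicit false

namespace Cfsg.Agent.Ch

open Subgroup Cfsg.Agent.H1 Cfsg.Agent.L Cfsg.Agent.FT Cfsg.Agent.H2
open scoped Pointwise commutatorElement IsMulCommutative

variable {G : Type} [Group G] [Finite G] {X : Type} [MulAction G X] {p : ℕ} {Γ : Subgroup G}
  {Ω : Set X}

/-- largest order of an abelian subgroup -/
noncomputable def dm (P : Subgroup G) : ℕ := Nat.card (exists_maxAb P).choose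

theorem dm_eq {P A : Subgroup G} (h : MaxAb P A) : dm P = #|A| :=
  (exists_maxAb P).choose_spec.card_eq h

theorem dm_mono {P Q : Subgroup G} (h : P ≤ Q) : dm P ≤ dm Q :=
  have h1 := (exists_maxAb P).choose_spec
  (exists_maxAb Q).choose_spec.card_le (h1.le.trans h) h1.comm

theorem thompson_le_of_dm {P Q : Subgroup G} (h : P ≤ Q) (e : dm P = dm Q) :
    thompsonSubgroupAOf P ≤ thompsonSubgroupAOf Q := thompsonA_le_iff.2 fun A hA =>
  ((exists_maxAb Q).choose_spec.of_card_le (hA.le.trans h) hA.comm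
    (by rw [← dm_eq hA, e]; exact le_rfl)).le_thompson

/-- the rank function -/
noncomputable def rk (P : Subgroup G) : ℕ :=
  dm P * (Nat.card G + 1) + #|thompsonSubgroupAOf P|

theorem rk_lt_of_dm {P Q : Subgroup G} (h : dm P < dm Q) : rk P < rk Q := by
  have h1 := Subgroup.card_le_card_group (thompsonSubgroupAOf P)
  have h2 := Nat.mul_le_mul_right (Nat.card G + 1) (Nat.succ_le_of_lt h)
  simp only [rk]
  rw [Nat.succ_mul] at h2
  omega

theorem rk_mono {P Q : Subgroup G} (h : P ≤ Q) : rk P ≤ rk Q := by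
  rcases (dm_mono h).lt_or_eq with h1 | h1
  · exact (rk_lt_of_dm h1).le
  · have := Subgroup.card_le_of_le (thompson_le_of_dm h h1)
    simp only [rk, h1]; omega

theorem rk_thompson (P : Subgroup G) : rk (thompsonSubgroupAOf P) = rk P := by
  obtain ⟨A, hA⟩ := exists_maxAb P
  simp only [rk]
  rw [thompsonA_eq_of_le (thompsonA_le P) le_rfl, dm_eq hA,
    dm_eq (hA.of_le (thompsonA_le P) hA.le_thompson)]

theorem rj_thompson : RJ p Γ rk (thompsonSubgroupAOf : Subgroup G → Subgroup G) where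
  mono _ _ h _ _ := rk_mono h
  rconj g _ P _ _ := by
    obtain ⟨A, hA⟩ := exists_maxAb P
    have := hA.map (conj_inj g)
    rw [← conj_eq_map, ← conj_eq_map] at this
    simp only [rk]
    rw [← conj_smul_thompsonA, card_conj, dm_eq hA, dm_eq this, card_conj]
  jconj g _ P _ _ := (conj_smul_thompsonA g P).symm
  jle P _ _ := thompsonA_le P
  rj P _ _ := rk_thompson P
  jeq P Q h _ _ e := by
    rcases (dm_mono h).lt_or_eq with h1 | h1
    · exact absurd e (rk_lt_of_dm h1).ne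
    · refine Subgroup.eq_of_le_of_card_ge (thompson_le_of_dm h h1) ?_
      simp only [rk, h1] at e; omega

theorem off_of_maxAb {Z P A : Subgroup G} [IsMulCommutative Z] (hZ : Z ≤ P) (hn : P ≤ 𝐍(Z))
    (hA : MaxAb P A) : Off (cz Z) ⊤ A where
  ab a ha b hb x _ := by rw [mul_comm_of_comm hA.comm ha hb]
  best B hB := by
    rw [card_fx_cz ((hB.trans hA.le).trans hn), card_fx_cz (hA.le.trans hn)]
    have h1 : Z ⊓ 𝐂(B) ≤ 𝐂(B) := inf_le_right
    have h2 := hA.card_le (sup_le (inf_le_left.trans hZ) (hB.trans hA.le))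
      (comm_sup (comm_of_le ‹_› inf_le_left) (comm_of_le hA.comm hB) (le_centralizer_iff.1 h1))
    have h3 := card_sup_mul_card_inf (h1.trans (centralizer_le_normalizer _))
    have h4 : (Z ⊓ 𝐂(B)) ⊓ B ≤ Z ⊓ 𝐂(A) :=
      le_inf (inf_le_left.trans inf_le_left) ((inf_le_right.trans hB).trans (le_cent_self hA.comm))
    rw [mul_comm, ← h3]
    exact Nat.mul_le_mul h2 (Subgroup.card_le_of_le h4)

theorem mt_top [Finite X] [hp : Fact p.Prime] [ACY] [PD] (hG : Geo p (⊤ : Subgroup G) Ω) {k : ℕ}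
    (hk : 2 ≤ k) : Ex (⊤ : Subgroup G) Ω cj (mix (Cen p) (fx cj ⊤) (fun P => spn (zent P)))
      (mix (Cen p) (fx cj ⊤) (fun P => rel (zent P))) k := by
  have hU := sys_spn_zent (up_cen (p := p) (⊤ : Subgroup G)) fun _ h => h
  have hW := sys_rel_zent (up_cen (p := p) (⊤ : Subgroup G)) fun _ h => h
  have hle : Le p (⊤ : Subgroup G) (mix (Cen p) (fx cj ⊤) (fun P => rel (zent P)))
      (mix (Cen p) (fx cj ⊤) (fun P => spn (zent P))) := fun P _ _ => le_mix_top fun _ => rel_le_spn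
  refine floc hG (act_cj _) hU hW hle rj_thompson fun Y hY hYp hj _ => ?_
  have hG' := hG.loc hY hYp
  have hup := (rj_thompson (p := p) (Γ := ⊤ ⊓ 𝐍(Y))).up (rk Y)
  have hU' := hU.sub (inf_le_left : ⊤ ⊓ 𝐍(Y) ≤ ⊤)
  have hW' := hW.sub (inf_le_left : ⊤ ⊓ 𝐍(Y) ≤ ⊤)
  have hle' := hle.sub (inf_le_left : ⊤ ⊓ 𝐍(Y) ≤ ⊤)
  by_cases hc : Cen p Y
  · have := zent_comm Y
    have hΓ : ⊤ ⊓ 𝐍(Y) ≤ 𝐍(zent Y) := inf_le_right.trans (norm_le_norm_zent Y)
    have hcen : ∀ P, Stb (⊤ ⊓ 𝐍(Y)) (Fx Ω Y) P → Cen p P := fun P hP =>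
      (up_cen ⊤).mono _ _ (hP.ge_loc hY) le_top (hP.pg hG') hc
    have h0 := corr_ab (Ω := Fx Ω Y) (H := zent) hΓ fun P hP => le_antisymm
      (le_inf (hc.zent_le (hP.ge_loc hY) (hP.pg hG')) (zent_le_cent P))
      (inf_le_inf_right _ ((zent_le Y).trans (hP.ge_loc hY)))
    have h1 := h0.congr
      (V := mix (Cen p) (fx cj ⊤) (fun P => spn (zent P)))
      (T := mix (Cen p) (fx cj ⊤) (fun P => rel (zent P))) (T' := zr)
      (fun P hP => by rw [mix_pos (hcen P hP)]) (fun _ _ => rfl) fun P hP x x' hx => by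
        rw [mix_pos (hcen P hP)]
        exact h0.ker P hP x x' hx
    refine (h1.mix hG' hU' hW' hle' (fun _ _ => bot_le) hup).symm.ex hG' (act_cz hΓ) (act_cj _)
      (PD.out hG' (act_cz hΓ) (mod_cz (IsPGroup.le' hYp (zent_le Y))) hup (fun P hP h => ?_) k hk)
    refine h.trans_le ?_
    rw [← rk_thompson P]
    exact rk_mono (thompsonA_le_iff.2 fun A hA => le_JJ
      (off_of_maxAb ((zent_le Y).trans (hP.ge_loc hY)) (hP.le.trans hΓ) hA) hA.le)
  · refine ACY.out hG' (act_cj _) (hU'.mix hW' hle' hup) hW' (hle'.mix_right _) (fun P hP => ?_) k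
    by_cases h1 : rk Y < rk P
    · exact Or.inl (mix_pos h1).le
    by_cases h2 : Cen p P
    swap
    · left; rw [mix_neg h1, mix_neg h2, mix_neg h2]
    have hJ : thompsonSubgroupAOf P = Y := by
      rw [← hj]
      exact ((rj_thompson (p := p) (Γ := ⊤)).jeq _ _ (hP.ge_loc hY) le_top (hP.pg hG')
        (le_antisymm (rk_mono (hP.ge_loc hY)) (not_lt.1 h1))).symm
    have hZ : zent P ≤ Y := hJ ▸ center_le_thompsonA P
    have h4 : P ⊓ 𝐂(Y) ≤ Y := hJ ▸ inf_centralizer_thompsonA_le P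
    have e1 := mix_neg (U := mix (Cen p) (fx cj ⊤) (fun P => spn (zent P)))
      (W := mix (Cen p) (fx cj ⊤) (fun P => rel (zent P))) (𝒰 := fun P => rk Y < rk P) h1
    rw [mix_pos h2] at e1
    have e2 := mix_pos (U := fx cj ⊤) (W := fun P => rel (zent P)) h2
    refine Or.inr ⟨?_, ?_, 𝐂(Y), le_inf le_top (centralizer_le_normalizer _),
      ?_, fun h3 => hc fun R hR hRp => ?_, fun x hx _ => ⟨0, fun u hu => ?_⟩⟩
    · rw [e1, e2]; exact relIndex_spn_ne_zero le_rfl
    · rw [e1, e2]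
      exact tor_spn (IsPGroup.le' (hP.pg hG') (zent_le P))
    · exact fun g hg => conj_eq_self_iff.1 (by rw [conj_cent, conj_of_mem_norm hg.1.2])
    · exact (sylow_le_of_norm hp.out h3 hR hRp (Or.inr
        ((hR.trans (centralizer_le h4)).trans (centralizer_le_normalizer _)))).trans h4
    · rw [e1] at hu
      rw [pow_zero, pow_one, cj_fix (centralizer_le hZ hx) hu, sub_self]
      exact zero_mem _

instance instMT [ACY] [PD] : MT := ⟨fun hG _ hk => mt_top hG hk⟩

end Cfsg.Agent.Ch
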