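import Cfsg.Agent.Ch.A

/-! The norm lemma and best offenders for odd `p`. -/

set_option autoImplicit false
set_option linter.unusedSectionVars false

namespace Cfsg.Agent.Ch.N5

open Subgroup Cfsg.Agent.H1 Cfsg.Agent.L Cfsg.Agent.FT
open scoped Pointwise

variable {G : Type} [Group G] {M : Type} [AddCommGroup M] {p : ℕ} {Γ : Subgroup G}
  {ρ : G → M →+ M} {D : AddSubgroup M} {𝒜 ℬ : Subgroup G → Prop} {P Q A B S : Subgroup G} {g : G}
  {x : M}

variable (hρ : Act Γ ρ)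
include hρ

/-- the stabiliser of a vector -/
def sb (x : M) : Subgroup G where
  carrier := {g | g ∈ Γ ∧ ρ g x = x}
  one_mem' := ⟨one_mem _, hρ.one x⟩
  mul_mem' := fun ha hb => ⟨mul_mem ha.1 hb.1, by rw [hρ.mul _ ha.1 _ hb.1, hb.2, ha.2]⟩
  inv_mem' := fun {a} ha => ⟨inv_mem ha.1, by conv_lhs => rw [← ha.2, hρ.inv_apply ha.1]⟩

theorem card_fx_conj (hD : ∀ g ∈ Γ, ∀ x ∈ D, ρ g x ∈ D) (hg : g ∈ Γ) (hP : P ≤ Γ) :
    Nat.card (fx ρ D (g ⋆ P)) = Nat.card (fx ρ D P) :=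
  Nat.card_congr ⟨fun x => ⟨ρ g⁻¹ x, by
      simpa using fx_conj hρ hD (inv_mem hg) (conj_le_of_mem hg hP) x.2⟩,
    fun x => ⟨ρ g x, fx_conj hρ hD hg hP x.2⟩, fun x => Subtype.ext (hρ.apply_inv hg _),
    fun x => Subtype.ext (hρ.inv_apply hg _)⟩

theorem off_conj (hD : ∀ g ∈ Γ, ∀ x ∈ D, ρ g x ∈ D) (hg : g ∈ Γ) (hA : A ≤ Γ) (h : Off ρ D A) :
    Off ρ D (g ⋆ A) where
  ab a ha b hb x hx := by
    replace ha := mem_conj'.1 ha
    replace hb := mem_conj'.1 hb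
    obtain ⟨a, ha, rfl⟩ := ha
    obtain ⟨b, hb, rfl⟩ := hb
    have e : ∀ a ∈ A, ∀ b ∈ A, ρ (g * a * g⁻¹ * (g * b * g⁻¹)) x = ρ g (ρ (a * b) (ρ g⁻¹ x)) :=
      fun a ha b hb => by
      have := hA (mul_mem ha hb)
      rw [← hρ.mul _ this _ (inv_mem hg), ← hρ.mul _ hg _ (mul_mem this (inv_mem hg))]
      congr 2
      group
    rw [e a ha b hb, e b hb a ha, h.ab a ha b hb _ (hD _ (inv_mem hg) x hx)]
  best B hB := by
    have h1 : g⁻¹ ⋆ B ≤ A := le_conj_iff.1 hB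
    have := h.best _ h1
    rwa [card_conj, card_fx_conj hρ hD (inv_mem hg) (hB.trans (conj_le_of_mem hg hA)),
      ← card_conj g A, ← card_fx_conj hρ hD hg hA] at this

variable [Finite G] [hp : Fact p.Prime]

theorem ng_odd (h2 : p ≠ 2) (hD : Mod p Γ ρ D) : NG p Γ ρ D (Off ρ D) where
  conj _ hg _ hA h := off_conj hρ hD.inv hg hA h
  norm A hA pA h A₀ h0 hi a ha ha0 w hw pw := by
    have := hD.fin
    have fin : ∀ P, Finite (fx ρ D P) := fun P =>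
      Finite.of_injective _ (AddSubgroup.inclusion_injective (show fx ρ D P ≤ D from fun _ h => h.1))
    have aΓ := hA ha
    have inv : ∀ x ∈ fx ρ D A₀, ρ a x ∈ fx ρ D A₀ := fun x hx => ⟨hD.inv a aΓ x hx.1, fun b hb => by
      have := hA (h0 hb)
      rw [← hρ.mul _ this _ aΓ, h.ab b (h0 hb) a ha x hx.1, hρ.mul _ aΓ _ this, hx.2 b hb]⟩
    let δ : fx ρ D A₀ →+ M := (ρ a - AddMonoidHom.id M).comp (AddSubgroup.subtype _)
    have hk : Nat.card (fx ρ D A) ≤ Nat.card δ.ker := Nat.card_le_card_of_injective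
      (fun x => ⟨⟨x.1, x.2.1, fun b hb => x.2.2 b (h0 hb)⟩, sub_eq_zero.2 (x.2.2 a ha)⟩)
      fun x y e => Subtype.ext (congrArg (fun z => z.1.1) e)
    have hr : Nat.card δ.range ≤ p := by
      have h1 := h.best A₀ h0
      rw [← card_mul_relIndex_of_le h0, hi, ← AddSubgroup.card_mul_index δ.ker, AddSubgroup.index_ker,
        mul_assoc, mul_comm p] at h1
      exact Nat.le_of_mul_le_mul_left ((Nat.le_of_mul_le_mul_left h1 Nat.card_pos).trans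
        (Nat.mul_le_mul_right _ hk)) Nat.card_pos
    obtain ⟨u, hu⟩ : ∃ u, u = ρ a w - w := ⟨_, rfl⟩
    have pu : p • u = 0 := by rw [hu, smul_sub, ← map_nsmul, pw, map_zero, sub_zero]
    have fu : ρ a u = u := by
      by_cases u0 : u = 0
      · rw [u0, map_zero]
      have : Finite δ.range := Finite.of_surjective _ δ.rangeRestrict_surjective
      have e : AddSubgroup.zmultiples u = δ.range :=
        AddSubgroup.eq_of_le_of_card_ge (AddSubgroup.zmultiples_le.2 ⟨⟨w, hw⟩, hu.symm⟩)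
          (by rwa [Nat.card_zmultiples, addOrderOf_eq_prime pu u0])
      obtain ⟨k, hk⟩ := AddSubgroup.mem_zmultiples_iff.1 (show ρ a u ∈ AddSubgroup.zmultiples u from
        e ▸ ⟨⟨_, inv w hw⟩, by rw [hu, map_sub]; rfl⟩)
      have h1 : ∀ n : ℕ, ρ (a ^ n) u = k ^ n • u := fun n => by
        induction n with
        | zero => simp [hρ.one]
        | succ n ih =>
          rw [pow_succ', hρ.mul _ aΓ _ (pow_mem aΓ n), ih, map_zsmul, ← hk, smul_smul, pow_succ]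
      obtain ⟨n, hn⟩ := pA ⟨a, ha⟩
      have h3 := h1 (p ^ n)
      rw [show a ^ p ^ n = 1 from congrArg Subtype.val hn, hρ.one] at h3
      obtain ⟨c, hc⟩ : (p : ℤ) ∣ k ^ p ^ n - k := by
        rw [← ZMod.intCast_zmod_eq_zero_iff_dvd]
        simp [ZMod.pow_card_pow]
      rw [sub_eq_iff_eq_add.1 hc, add_smul, mul_comm, mul_smul, natCast_zsmul, pu, smul_zero,
        zero_add] at h3
      rw [← hk, ← h3]
    have h1 : ∀ i : ℕ, ρ (a ^ i) w = w + i • u := fun i => by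
      induction i with
      | zero => simp [hρ.one]
      | succ i ih =>
        rw [pow_succ', hρ.mul _ aΓ _ (pow_mem aΓ i), ih, map_add, map_nsmul, fu, succ_nsmul, hu]
        abel
    obtain ⟨k, hk⟩ := hp.out.odd_of_ne_two h2
    have h3 : ∑ i ∈ Finset.range p, i = k * p := by
      have := Finset.sum_range_id_mul_two p
      rw [show p - 1 = k * 2 by omega, ← mul_assoc] at this
      rw [Nat.eq_of_mul_eq_mul_right two_pos this, mul_comm]
    simp only [h1, Finset.sum_add_distrib, ← Finset.sum_smul, Finset.sum_const, Finset.card_range, pw,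
      h3, mul_smul, pu, smul_zero, add_zero]

theorem orb_sum {Y : Type} [MulAction G Y] (hN : NG p Γ ρ D 𝒜) (hS : S ≤ Γ) (pS : IsPGroup p S)
    {s : Finset Y} {F : Y → M} (h1 : ∀ g ∈ JJ 𝒜 S, ∀ q ∈ s, g • q ∈ s ∧ F (g • q) = ρ g (F q))
    (h2 : ∀ q ∈ s, F q ∈ D ∧ p • F q = 0) (h3 : ∀ q ∈ s, ∃ g ∈ JJ 𝒜 S, g • q ≠ q) :
    ∑ q ∈ s, F q = 0 := by
  classical
  have JS := JJ_le 𝒜 S
  refine Finset.sum_cancels_of_partition_cancels (MulAction.orbitRel (JJ 𝒜 S) Y) fun x hx => ?_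
  obtain ⟨J₁, a1, a2, a3⟩ := B9.exists_maximal_ge hp.out (pS.to_le JS)
    (show JJ 𝒜 S ⊓ MulAction.stabilizer G x < JJ 𝒜 S from inf_lt_left.2 fun h =>
      let ⟨g, g1, g2⟩ := h3 x hx; g2 (h g1))
  obtain ⟨A, hA, AS, a, ha, ha1⟩ : ∃ A, 𝒜 A ∧ A ≤ S ∧ ∃ a ∈ A, a ∉ J₁ := by
    by_contra! h
    exact hp.out.one_lt.ne' (a3.symm.trans (relIndex_eq_one.2 (JJ_le_iff.2 h)))
  have AJ := le_JJ hA AS
  have aJ := AJ ha
  have ap : a ^ p ∈ J₁ := a3 ▸ B9.pow_relIndex_mem a2.norm aJ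
  let O := s.filter (· ∈ MulAction.orbit J₁ x)
  have hO : ∀ q, q ∈ O ↔ ∃ g ∈ J₁, g • x = q := fun q => by
    simp only [O, Finset.mem_filter]
    exact ⟨fun ⟨_, g, h⟩ => ⟨g, g.2, h⟩, fun ⟨g, h, e⟩ => ⟨e ▸ (h1 g (a2.le h) x hx).1, ⟨g, h⟩, e⟩⟩
  have hOs : ∀ q ∈ O, q ∈ s := fun q h => (Finset.mem_filter.1 h).1
  have e := hN.norm A (AS.trans hS) (pS.to_le AS) hA (J₁ ⊓ A) inf_le_right
    (by
      rw [inf_relIndex_right]
      exact ((Nat.dvd_prime hp.out).1 (a3 ▸ a2.relIndex_dvd AJ)).resolve_left fun h =>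
        ha1 (relIndex_eq_one.1 h ha))
    a ha (fun h => ha1 h.1) (∑ q ∈ O, F q)
    ⟨sum_mem fun q h => (h2 q (hOs q h)).1, fun g hg => by
      rw [map_sum]
      refine Finset.sum_bij (fun q _ => g • q) (fun q h => ?_) (fun _ _ _ _ h => smul_left_cancel g h)
        (fun q h => ?_) fun q h => (h1 g (AJ hg.2) q (hOs q h)).2.symm
      · obtain ⟨u, hu, rfl⟩ := (hO q).1 h
        exact (hO _).2 ⟨g * u, mul_mem hg.1 hu, mul_smul _ _ _⟩
      · obtain ⟨u, hu, rfl⟩ := (hO q).1 h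
        exact ⟨_, (hO _).2 ⟨g⁻¹ * u, mul_mem (inv_mem hg.1) hu, rfl⟩, by simp [mul_smul]⟩⟩
    (by rw [Finset.smul_sum]; exact Finset.sum_eq_zero fun q h => (h2 q (hOs q h)).2)
  rw [← e]
  simp only [map_sum]
  rw [← Finset.sum_product']
  symm
  refine Finset.sum_bij (fun z _ => a ^ z.1 • z.2) (fun z h => ?_) (fun z h z' h' e => ?_)
    (fun q h => ?_) fun z h => (h1 _ (pow_mem aJ _) _ (hOs _ (Finset.mem_product.1 h).2)).2.symm
  · obtain ⟨u, hu, e⟩ := (hO _).1 (Finset.mem_product.1 h).2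
    exact Finset.mem_filter.2 ⟨(h1 _ (pow_mem aJ _) _ (hOs _ (Finset.mem_product.1 h).2)).1,
      ⟨⟨_, mul_mem (pow_mem aJ z.1) (a2.le hu)⟩, by rw [← e, ← mul_smul]; rfl⟩⟩
  · obtain ⟨i, q⟩ := z
    obtain ⟨j, q'⟩ := z'
    obtain ⟨hi, hq⟩ := Finset.mem_product.1 h
    obtain ⟨hj, hq'⟩ := Finset.mem_product.1 h'
    obtain ⟨u, hu, rfl⟩ := (hO _).1 hq
    obtain ⟨v, hv, rfl⟩ := (hO _).1 hq'
    rw [Finset.mem_range] at hi hj
    have h4 : v⁻¹ * (a ^ ((i : ℤ) - j) * u) ∈ J₁ := a1 ⟨(JJ 𝒜 S).mul_mem (inv_mem (a2.le hv))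
      (mul_mem (zpow_mem aJ _) (a2.le hu)), by
        change _ • x = x
        rw [mul_smul, inv_smul_eq_iff, sub_eq_neg_add, zpow_add, zpow_neg, zpow_natCast, zpow_natCast,
          mul_assoc, mul_smul, inv_smul_eq_iff, mul_smul]
        exact e⟩
    rw [mul_mem_cancel_left (inv_mem hv), mul_mem_cancel_right hu] at h4
    obtain rfl : i = j := by
      by_contra hn
      refine ha1 (mem_of_pow_mem_of_coprime ((Nat.prime_iff_prime_int.1 hp.out).coprime_iff_not_dvd.2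
        fun e => hn ?_) (by rwa [zpow_natCast]) h4)
      have := Int.eq_zero_of_abs_lt_dvd e (by rw [abs_lt]; omega)
      omega
    exact Prod.ext rfl (smul_left_cancel _ e)
  · obtain ⟨⟨u, hu⟩, rfl⟩ := (Finset.mem_filter.1 h).2
    have hu' := inv_mem hu
    rw [← B9.sup_zpowers_eq hp.out a2.le a3 aJ ha1, B9.mem_sup_zpowers (a2.norm aJ)] at hu'
    obtain ⟨v, hv, k, e⟩ := hu'
    have hp0 : (0 : ℤ) < p := by exact_mod_cast hp.out.pos
    have h5 := Int.emod_lt_of_pos (-k) hp0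
    have h6 := Int.emod_nonneg (-k) hp0.ne'
    refine ⟨((-k % p).toNat, ((a ^ p) ^ (-k / p) * v⁻¹) • x), Finset.mem_product.2
      ⟨Finset.mem_range.2 (by omega), (hO _).2 ⟨_, mul_mem (zpow_mem ap _) (inv_mem hv), rfl⟩⟩, ?_⟩
    change _ = u • x
    rw [← mul_smul, ← mul_assoc, ← zpow_natCast a, Int.toNat_of_nonneg h6, ← zpow_natCast, ← zpow_mul,
      ← zpow_add, Int.emod_add_mul_ediv, zpow_neg, ← mul_inv_rev, ← e, inv_inv]

/-- the norm lemma -/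
theorem nl (hD : Mod p Γ ρ D) (hN : NG p Γ ρ D 𝒜) (hS : IsSylowIn p S Γ)
    (hx : x ∈ fx ρ D (Γ ⊓ 𝐍(JJ 𝒜 S))) : x ∈ fx ρ D Γ := by
  classical
  obtain ⟨H, hH⟩ : ∃ H, H = Γ ⊓ 𝐍(JJ 𝒜 S) := ⟨_, rfl⟩
  rw [← hH] at hx
  have HΓ : H ≤ Γ := hH ▸ inf_le_left
  have JΓ := (JJ_le 𝒜 S).trans hS.le
  have SH : S ≤ H := hH ▸ le_inf hS.le fun g hg => conj_eq_self_iff.1 (by
    rw [← JJ_conj hN.conj (hS.le hg) hS.le, conj_of_mem hg])
  have := Fintype.ofFinite (G ⧸ H)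
  have := hD.fin
  have fin : Finite (fx ρ D H) :=
    Finite.of_injective _ (AddSubgroup.inclusion_injective (show fx ρ D H ≤ D from fun _ h => h.1))
  let s : Finset (G ⧸ H) := Finset.univ.filter fun q => q.out ∈ Γ
  have hs : ∀ g : G, (g : G ⧸ H) ∈ s ↔ g ∈ Γ := fun g => by
    obtain ⟨h, e⟩ := QuotientGroup.mk_out_eq_mul H g
    simp [s, e, mul_mem_cancel_right (HΓ h.2)]
  have hF : ∀ w ∈ fx ρ D H, ∀ g ∈ Γ, ρ (g : G ⧸ H).out w = ρ g w := fun w hw g hg => by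
    obtain ⟨h, e⟩ := QuotientGroup.mk_out_eq_mul H g
    rw [e, hρ.mul _ hg _ (HΓ h.2), hw.2 _ h.2]
  have h1 : ∀ w ∈ fx ρ D H, ∀ g ∈ Γ, ∀ q ∈ s, g • q ∈ s ∧ ρ (g • q).out w = ρ g (ρ q.out w) :=
    fun w hw g hg q hq => by
    obtain ⟨y, rfl⟩ := QuotientGroup.mk_surjective q
    have hy := (hs y).1 hq
    exact ⟨(hs (g * y)).2 (mul_mem hg hy), (hF w hw _ (mul_mem hg hy)).trans
      (by rw [hF w hw y hy, hρ.mul _ hg _ hy])⟩
  have h2 : ∀ w ∈ fx ρ D H, ∑ q ∈ s, ρ q.out w ∈ fx ρ D Γ := fun w hw =>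
    ⟨sum_mem fun q h => hD.inv _ (Finset.mem_filter.1 h).2 w hw.1, fun g hg => by
      rw [map_sum]
      exact Finset.sum_bij (fun q _ => g • q) (fun q h => (h1 w hw g hg q h).1)
        (fun _ _ _ _ h => smul_left_cancel g h)
        (fun q h => ⟨_, (h1 w hw _ (inv_mem hg) q h).1, smul_inv_smul _ _⟩)
        fun q h => (h1 w hw g hg q h).2.symm⟩
  have h3 : ∀ g ∈ Γ, (∀ j ∈ JJ 𝒜 S, j • (g : G ⧸ H) = g) → g ∈ H := fun g hg h => by
    have e := JJ_conj hN.conj (inv_mem hg) hS.le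
    have a1 : g⁻¹ ⋆ JJ 𝒜 S ≤ H := conj_le_iff.2 fun j hj => mem_conj.2 (by
      simpa [mul_assoc] using inv_mem (QuotientGroup.eq.1 (h j hj)))
    obtain ⟨u, hu, a2⟩ := (hS.of_le SH HΓ).exists_conj_mem
      (pgroup_conj (hS.isPGroup.to_le (JJ_le 𝒜 S)) _) a1
    have a3 : (u * g⁻¹) ⋆ JJ 𝒜 S ≤ S := by
      rw [mul_conj]
      intro y hy
      obtain ⟨z, hz, rfl⟩ := mem_conj'.1 hy
      exact a2 z hz
    have uΓ := mul_mem (HΓ hu) (inv_mem hg)
    have a4 : u * g⁻¹ ∈ H := hH ▸ ⟨uΓ, mem_norm_of_conj_le (by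
      rw [← JJ_JJ 𝒜 S, ← JJ_conj hN.conj uΓ JΓ, JJ_JJ]
      exact JJ_mono _ a3)⟩
    exact inv_mem_iff.1 ((mul_mem_cancel_left hu).1 a4)
  have h4 : ∀ w ∈ fx ρ D H, p • w = 0 → ∑ q ∈ s, ρ q.out w = w := fun w hw pw => by
    rw [← Finset.add_sum_erase _ _ ((hs 1).2 (one_mem _)), hF w hw 1 (one_mem _), hρ.one,
      orb_sum hρ hN hS.le hS.isPGroup (fun g hg q hq => ?_) (fun q hq => ?_) fun q hq => ?_, add_zero]
    · obtain ⟨q1, q2⟩ := Finset.mem_erase.1 hq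
      refine ⟨Finset.mem_erase.2 ⟨fun e => q1 ?_, (h1 w hw g (JΓ hg) q q2).1⟩,
        (h1 w hw g (JΓ hg) q q2).2⟩
      rw [← inv_smul_smul g q, e]
      exact QuotientGroup.eq.2 (by simpa using SH (JJ_le 𝒜 S hg))
    · exact ⟨hD.inv _ (Finset.mem_filter.1 (Finset.mem_erase.1 hq).2).2 w hw.1,
        by rw [← map_nsmul, pw, map_zero]⟩
    · obtain ⟨q1, q2⟩ := Finset.mem_erase.1 hq
      obtain ⟨y, rfl⟩ := QuotientGroup.mk_surjective q
      by_contra! h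
      exact q1 (QuotientGroup.eq.2 (by simpa using h3 y ((hs y).1 q2) h))
  let n : fx ρ D H → fx ρ D H := fun w => ⟨_, (h2 w w.2).1, fun g hg => (h2 w w.2).2 g (HΓ hg)⟩
  have h5 : ∀ e : ℕ, ∀ w ∈ fx ρ D H, p ^ e • w = 0 → ∑ q ∈ s, ρ q.out w = 0 → w = 0 := fun e => by
    induction e with
    | zero => exact fun w _ h _ => by simpa using h
    | succ e ih =>
      intro w hw h h'
      have := ih (p • w) (nsmul_mem hw p) (by rwa [smul_smul, ← pow_succ])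
        (by simp only [map_nsmul, ← Finset.smul_sum, h', smul_zero])
      rw [← h4 w hw this, h']
  obtain ⟨e, he⟩ := hD.tor
  obtain ⟨w, hw⟩ := Finite.injective_iff_surjective.1 (show Function.Injective n from fun a b h =>
    Subtype.ext (sub_eq_zero.1 (h5 e _ (sub_mem a.2 b.2) (he _ (sub_mem a.2.1 b.2.1)) (by
      simp only [map_sub, Finset.sum_sub_distrib]
      exact sub_eq_zero.2 (congrArg Subtype.val h))))) ⟨x, hx⟩
  exact (show ∑ q ∈ s, ρ q.out w = x from congrArg Subtype.val hw) ▸ h2 w w.2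

end Cfsg.Agent.Ch.N5
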