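import Cfsg.Agent.Ch.N1

/-! The norm argument. -/

set_option autoImplicit false
set_option linter.unusedSectionVars false

namespace Cfsg.Agent.Ch.N5

open Subgroup Cfsg.Agent.H1 Cfsg.Agent.L Cfsg.Agent.FT
open scoped Pointwise

variable {G : Type} [Group G] [Finite G] {X : Type} [MulAction G X] [Finite X] {M : Type}
  [AddCommGroup M] {p : ℕ} [hp : Fact p.Prime] {Γ : Subgroup G} {Ω : Set X} {ρ : G → M →+ M}
  {D : AddSubgroup M} {𝒜 𝒰 : Subgroup G → Prop} [FW]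

theorem n0 (hG : Geo p Γ Ω) (hρ : Act Γ ρ) (hD : Mod p Γ ρ D) (hN : NG p Γ ρ D 𝒜) (hU : Up p Γ 𝒰)
    (h : ∀ S, IsSylowIn p S Γ → 𝒰 S → 𝒰 (JJ 𝒜 S)) : Ex Γ Ω ρ (mix 𝒰 (fx ρ D) zr) zr 1 := by
  intro f hf hd
  obtain ⟨g, hg, e⟩ := FW.ac hG hρ hD.inv hD.tor le_rfl f (hf.mono fun P _ => mix_le (zr_le _ _)) hd
  have e1 : ∀ a ∈ Ω, ∀ b ∈ Ω, ∀ P, 𝒰 P → P ≤ st Γ [a, b] → g [b] = g [a] := fun a ha b hb P hP h => by
    have o := on_two.2 ⟨a, ha, b, hb, rfl⟩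
    have h1 := hf.mem' o
    have h2 := e _ o
    rw [mix_pos (hU.mono _ _ h (st_le _) (o.stb.pg hG) hP), mem_zr] at h1
    rwa [h1, dd_two, mem_zr, zero_sub, neg_eq_zero, sub_eq_zero] at h2
  have e2 : ∀ x ∈ Γ, ∀ a ∈ Ω, g [x • a] = ρ x (g [a]) := fun x hx a ha =>
    hg.eqv x hx [a] (on_one.2 ⟨a, ha, rfl⟩)
  obtain ⟨z, z1, z2⟩ : ∃ z ∈ fx ρ D Γ, ∀ a ∈ Ω, 𝒰 (st Γ [a]) → g [a] = z := by
    obtain ⟨S, hS⟩ := exists_isSylowIn p Γ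
    obtain ⟨a₀, ha₀, rfl⟩ := hG.exists_st hS
    have cj : ∀ a ∈ Ω, ∃ x ∈ Γ, x ⋆ st Γ [a] ≤ st Γ [a₀] := fun a ha => by
      obtain ⟨x, hx, h⟩ := hS.exists_conj_mem ((stb_single ha).pg hG) (st_le _)
      exact ⟨x, hx, conj_le_iff.2 fun y hy => mem_conj.2 (by simpa using h y hy)⟩
    by_cases hS' : 𝒰 (st Γ [a₀])
    · have hz : g [a₀] ∈ fx ρ D Γ := nl hρ hD hN hS ⟨(hg.mem' (on_one.2 ⟨_, ha₀, rfl⟩)).1, fun x hx => by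
        rw [← e2 x hx.1 _ ha₀]
        refine e1 _ ha₀ _ (hG.inv x hx.1 _ ha₀) _ (h _ hS hS') fun y hy => ?_
        have h1 := mem_st.1 (JJ_le _ _ hy)
        have h2 := mem_st.1 (JJ_le _ _ (mem_conj.1 ((conj_of_mem_norm hx.2).ge hy)))
        refine mem_st.2 ⟨h1.1, by simpa [mul_smul, inv_smul_eq_iff] using And.intro h1.2 h2.2⟩⟩
      refine ⟨_, hz, fun a ha hu => ?_⟩
      obtain ⟨x, hx, h⟩ := cj a ha
      rw [← hz.2 _ (inv_mem hx), ← e2 _ (inv_mem hx) _ ha₀]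
      refine (e1 _ ha _ (hG.inv _ (inv_mem hx) _ ha₀) _ hu fun y hy => ?_).symm
      have h1 := mem_st.1 hy
      have h2 := mem_st.1 (h (conj_mem_conj x hy))
      exact mem_st.2 ⟨h1.1, by simpa [mul_smul, smul_eq_iff_eq_inv_smul x] using And.intro h1.2 h2.2⟩
    · refine ⟨0, zero_mem _, fun a ha hu => (hS' ?_).elim⟩
      obtain ⟨x, hx, h⟩ := cj a ha
      exact hU.mono _ _ h hS.le hS.isPGroup (hU.conj x hx _ (st_le _) ((stb_single ha).pg hG) hu)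
  refine ⟨fun l => g l - z, co_succ (fun x hx l hl => by rw [hg.eqv x hx l hl, map_sub, z1.2 x hx])
    fun l hl => ?_, fun l hl => ?_⟩
  · obtain ⟨a, ha, rfl⟩ := on_one.1 hl
    by_cases hu : 𝒰 (st Γ [a])
    · rw [mix_pos hu, z2 a ha hu, sub_self]
      exact zero_mem _
    · rw [mix_neg hu]
      exact sub_mem (hg.mem' hl) (fx_anti _ (st_le _) z1)
  · obtain ⟨a, -, b, -, rfl⟩ := on_two.1 hl
    simpa [dd_two] using e _ hl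

/-- localisation at the subgroups `JJ 𝒜 P` -/
theorem pi_loc {k : ℕ} (hG : Geo p Γ Ω) (hρ : Act Γ ρ) (hD : ∀ g ∈ Γ, ∀ x ∈ D, ρ g x ∈ D)
    (hA : ∀ g ∈ Γ, ∀ A : Subgroup G, A ≤ Γ → 𝒜 A → 𝒜 (g ⋆ A)) (hU : Up p Γ 𝒰)
    (h : ∀ P, Stb Γ Ω P → 𝒰 P → 𝒰 (JJ 𝒜 P))
    (hl : ∀ Y ≤ Γ, IsPGroup p Y → Ex (Γ ⊓ 𝐍(Y)) (Fx Ω Y) ρ
      (mix (fun P => #|JJ 𝒜 Y| < #|JJ 𝒜 P|) (fx ρ D) zr) zr k) :
    Ex Γ Ω ρ (fx ρ D) (mix 𝒰 (fx ρ D) zr) k := by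
  refine FW.floc hG hρ (sys_fx hρ hD) ((sys_fx hρ hD).mix sys_zr (le_zr _) hU) ((le_zr _).mix_left _)
    (rj_JJ hA) fun Y hY pY _ ⟨Q, hQ, e, hn⟩ => ?_
  have hu : 𝒰 Y := e ▸ h Q hQ (by_contra fun h => hn (mix_neg h).ge)
  have h1 : ∀ P, Stb (Γ ⊓ 𝐍(Y)) (Fx Ω Y) P → zr P = mix 𝒰 (fx ρ D) zr P := fun P hP =>
    (mix_pos (hU.mono _ _ (hP.ge_loc hY) (hP.le.trans inf_le_left) (hP.pg (hG.loc hY pY)) hu)).symm
  refine (hl Y hY pY).congr (fun P hP => ?_) h1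
  simp only [mix] at h1 ⊢
  rw [← h1 P hP]

instance instNRM : NRM where
  n0 := n0
  n1 hG hρ hD hN hU h := pi_loc hG hρ hD.inv hN.conj hU (fun P hP => h P hP.le (hP.pg hG))
    fun _ hY pY => n0 (hG.loc hY pY) (hρ.sub inf_le_left) (hD.sub inf_le_left) (hN.sub inf_le_left)
      (((rj_JJ hN.conj).up _).sub inf_le_left) fun _ _ h => by rwa [JJ_JJ]
  odd h2 hρ hD := ng_odd hρ h2 hD

end Cfsg.Agent.Ch.N5
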