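import Cfsg.Agent.Ch.N2
import Cfsg.Agent.Ch.Y

/-! Vanishing for families closed under the offender subgroup. -/

set_option autoImplicit false
set_option linter.unusedSectionVars false

namespace Cfsg.Agent.Ch.P5

open Subgroup Cfsg.Agent.H1 Cfsg.Agent.L Cfsg.Agent.FT Cfsg.Agent.Ch.N5
open scoped Pointwise

variable {G : Type} [Group G] [Finite G] {X : Type} [MulAction G X] [Finite X] {M : Type}
  [AddCommGroup M] {p : ℕ} {Γ A C Y : Subgroup G} {Ω : Set X} {ρ : G → M →+ M}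
  {D D' : AddSubgroup M} {𝒰 : Subgroup G → Prop}

theorem fin_fx [Finite D] (P : Subgroup G) : Finite (fx ρ D P) :=
  Finite.of_injective _ (AddSubgroup.inclusion_injective (fx_le D P))

theorem card_rel {U V : AddSubgroup M} (h : U ≤ V) : Nat.card U * U.relIndex V = Nat.card V := by
  rw [← AddSubgroup.card_mul_index (U.addSubgroupOf V), AddSubgroup.relIndex,
    Nat.card_congr (AddSubgroup.addSubgroupOfEquivOfLe h).toEquiv]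

theorem off_mono [Finite D] (h : D' ≤ D) (hA : Off ρ D A) : Off ρ D' A where
  ab a ha b hb x hx := hA.ab a ha b hb x (h hx)
  best B hB := by
    have := fin_fx (ρ := ρ) (D := D) A
    have := fin_fx (ρ := ρ) (D := D) B
    have h1 := hA.best B hB
    rw [← card_rel (fx_anti D hB), mul_left_comm, mul_comm #|A|] at h1
    have h2 : (fx ρ D' A).relIndex (fx ρ D' B) ≤ (fx ρ D A).relIndex (fx ρ D B) := by
      rw [show fx ρ D' A = fx ρ D A ⊓ fx ρ D' B from le_antisymm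
        (le_inf (fx_mono h A) (fx_anti _ hB)) fun x hx => ⟨hx.2.1, hx.1.2⟩,
        AddSubgroup.inf_relIndex_right]
      exact AddSubgroup.relIndex_le_of_le_right (fx_mono h B) AddSubgroup.index_ne_zero_of_finite
    rw [← card_rel (fx_anti D' hB), mul_left_comm, mul_comm #|A|]
    exact Nat.mul_le_mul_left _ ((Nat.mul_le_mul_left _ h2).trans
      (Nat.le_of_mul_le_mul_left h1 Nat.card_pos))

theorem jj_le [Finite D] (h : D' ≤ D) (P : Subgroup G) : JJ (Off ρ D) P ≤ JJ (Off ρ D') P :=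
  JJ_le_iff.2 fun _ h1 h2 => le_JJ (off_mono h h1) h2

theorem off_triv [Finite D] (h : ∀ a ∈ A, ∀ x ∈ D, ρ a x = x) : Off ρ D A where
  ab a ha b hb x hx := by rw [h _ (mul_mem ha hb) x hx, h _ (mul_mem hb ha) x hx]
  best B hB := by
    have := fin_fx (ρ := ρ) (D := D) A
    exact Nat.mul_le_mul (card_le_of_le' hB)
      (AddSubgroup.card_le_of_le fun x hx => ⟨hx.1, fun a ha => h a ha x hx.1⟩)

/-- the kernel of the action on `D` -/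
def kr (hρ : Act Γ ρ) (D : AddSubgroup M) : Subgroup G := Γ ⊓ ⨅ x ∈ D, sb hρ x

theorem mem_kr {hρ : Act Γ ρ} {g : G} : g ∈ kr hρ D ↔ g ∈ Γ ∧ ∀ x ∈ D, ρ g x = x := by
  simp only [kr, mem_inf, mem_iInf]
  exact and_congr_right fun h => forall₂_congr fun x _ => ⟨fun h => h.2, fun h' => ⟨h, h'⟩⟩

theorem kr_normal (hρ : Act Γ ρ) (hD : ∀ g ∈ Γ, ∀ x ∈ D, ρ g x ∈ D) : kr hρ D ⊴ Γ :=
  ⟨inf_le_left, le_norm_iff.2 fun g hg c hc => by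
    obtain ⟨h1, h2⟩ := mem_kr.1 hc
    refine mem_kr.2 ⟨mul_mem (mul_mem hg h1) (inv_mem hg), fun x hx => ?_⟩
    rw [hρ.mul _ (mul_mem hg h1) _ (inv_mem hg), hρ.mul _ hg _ h1, h2 _ (hD _ (inv_mem hg) x hx),
      hρ.apply_inv hg]⟩

theorem exists_kt (p : ℕ) (hC : C ⊴ Γ) : ∃ K, K ⊴ Γ ∧ (∀ k ∈ K, ∃ n, k ^ p ^ n ∈ C) ∧
    ∀ K', K' ⊴ Γ → (∀ k ∈ K', ∃ n, k ^ p ^ n ∈ C) → K' ≤ K := by
  have := hC.normal_subgroupOf
  let π := QuotientGroup.mk' (C.subgroupOf Γ)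
  have e : ∀ x : Γ, π x = 1 ↔ x.1 ∈ C := fun x => QuotientGroup.eq_one_iff x
  refine ⟨((pCore p _).comap π).map Γ.subtype, NormalIn.map_subtype _, ?_, fun K' h1 h2 k hk => ?_⟩
  · rintro _ ⟨k, hk, rfl⟩
    obtain ⟨n, hn⟩ := pCore_isPGroup p _ ⟨π k, hk⟩
    exact ⟨n, (e (k ^ p ^ n)).1 (by rw [map_pow]; exact congrArg Subtype.val hn)⟩
  · refine ⟨⟨k, h1.le hk⟩, le_pCore (N := (K'.subgroupOf Γ).map π)
      (h1.normal_subgroupOf.map π (QuotientGroup.mk'_surjective _)) ?_ ⟨_, hk, rfl⟩, rfl⟩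
    rintro ⟨_, x, hx, rfl⟩
    obtain ⟨n, hn⟩ := h2 x hx
    exact ⟨n, Subtype.ext (by simpa using (e (x ^ p ^ n)).2 hn)⟩

variable (p Γ Ω ρ D) in
/-- the statement in degree `k` -/
def PDk (k : ℕ) : Prop := ∀ 𝒰, Geo p Γ Ω → Act Γ ρ → Mod p Γ ρ D → Up p Γ 𝒰 →
  (∀ P, Stb Γ Ω P → 𝒰 P → 𝒰 (JJ (Off ρ D) P)) → Ex Γ Ω ρ (mix 𝒰 (fx ρ D) zr) zr k

variable [FW]

theorem of_pi [Fact p.Prime] {k : ℕ} (hG : Geo p Γ Ω) (hρ : Act Γ ρ) (hD : Mod p Γ ρ D)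
    (h : Ex Γ Ω ρ (fx ρ D) (mix 𝒰 (fx ρ D) zr) k) : Ex Γ Ω ρ (mix 𝒰 (fx ρ D) zr) zr (k + 1) :=
  (FW.ac hG hρ hD.inv hD.tor (by omega)).sub h (fun _ _ => zr_le _ _) fun _ _ => mix_le (zr_le _ _)

theorem pd_succ [Fact p.Prime] {k : ℕ} (h : ∀ (Γ : Subgroup G) (Ω : Set X), PDk p Γ Ω ρ D k) :
    PDk p Γ Ω ρ D (k + 1) := fun _ hG hρ hD hU hc =>
  have hA := fun _ hg _ hA => off_conj hρ hD.inv hg hA
  of_pi hG hρ hD (pi_loc hG hρ hD.inv hA hU hc fun _ hY pY => h _ _ _ (hG.loc hY pY)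
    (hρ.sub inf_le_left) (hD.sub inf_le_left) (((rj_JJ hA).up _).sub inf_le_left)
    fun _ _ h => by rwa [JJ_JJ])

theorem pd_odd [NRM] [Fact p.Prime] (h2 : p ≠ 2) : PDk p Γ Ω ρ D 2 := fun _ hG hρ hD hU hc =>
  have hN := NRM.odd h2 hρ hD
  of_pi hG hρ hD (pi_loc hG hρ hD.inv hN.conj hU hc fun _ hY pY => NRM.n0 (hG.loc hY pY)
    (hρ.sub inf_le_left) (hD.sub inf_le_left) (hN.sub inf_le_left)
    (((rj_JJ hN.conj).up _).sub inf_le_left) fun _ _ h => by rwa [JJ_JJ])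

section Two
variable (ih : ∀ (Γ' : Subgroup G) (Ω' : Set X) (D' : AddSubgroup M),
  #|Γ'| + Nat.card D' < #|Γ| + Nat.card D → PDk 2 Γ' Ω' ρ D' 2)
  (hG : Geo 2 Γ Ω) (hρ : Act Γ ρ) (hD : Mod 2 Γ ρ D)
include ih hG hρ hD

theorem loc (hY : Y ≤ Γ) (pY : IsPGroup 2 Y) (hU : Up 2 Γ 𝒰)
    (hc : ∀ P, Stb (Γ ⊓ 𝐍(Y)) (Fx Ω Y) P → 𝒰 P → 𝒰 (JJ (Off ρ D) P)) :
    Ex (Γ ⊓ 𝐍(Y)) (Fx Ω Y) ρ (mix 𝒰 (fx ρ D) zr) zr 2 ∨ (Γ ⊓ 𝐍(Y) = Γ ∧ Y ≤ kr hρ D) := by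
  have := hD.fin
  have h1 := card_le_of_le' (inf_le_left : Γ ⊓ 𝐍(Y) ≤ Γ)
  have h2 := AddSubgroup.card_le_of_le (fx_le (ρ := ρ) D Y)
  by_cases h : #|Γ ⊓ 𝐍(Y)| + Nat.card (fx ρ D Y) < #|Γ| + Nat.card D
  · refine Or.inl ((ih _ _ _ h 𝒰 (hG.loc hY pY) (hρ.sub inf_le_left)
      (hD.fx hρ hY inf_le_left inf_le_right) (hU.sub inf_le_left) fun P hP hu =>
        hU.mono _ _ (jj_le (fx_le _ _) P) ((JJ_le _ _).trans (hP.le.trans inf_le_left))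
          ((hP.pg (hG.loc hY pY)).to_le (JJ_le _ _)) (hc P hP hu)).congr (fun P hP => ?_) fun _ _ => rfl)
    simp only [mix, fx_fx D (hP.ge_loc hY)]
  · refine Or.inr ⟨eq_of_le_of_card_le inf_le_left (by omega), fun y hy => mem_kr.2 ⟨hY hy, fun x hx => ?_⟩⟩
    exact ((AddSubgroup.eq_of_le_of_card_ge (fx_le (ρ := ρ) D Y) (by omega)).ge hx).2 y hy

theorem step2 [RB2] (hU : Up 2 Γ 𝒰) (hc : ∀ P, Stb Γ Ω P → 𝒰 P → 𝒰 (JJ (Off ρ D) P)) {Y₁ : Subgroup G}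
    (h1 : IsSylowIn 2 Y₁ (kr hρ D)) (h2 : Γ ≤ 𝐍(Y₁)) (h3 : ∀ P, Stb Γ Ω P → Y₁ ≤ P)
    (h4 : ∀ K, K ⊴ Γ → (∀ k ∈ K, ∃ n, k ^ 2 ^ n ∈ kr hρ D) → K ≤ kr hρ D) :
    Ex Γ Ω ρ (mix 𝒰 (fx ρ D) zr) zr 2 := by
  classical
  have := hD.fin
  have R := rj_JJ (p := 2) (𝒜 := Off ρ D) fun _ hg _ hA => off_conj hρ hD.inv hg hA
  have o1 : Off ρ D Y₁ := off_triv fun a ha => (mem_kr.1 (h1.le ha)).2
  refine FW.floc hG hρ ((sys_fx hρ hD.inv).mix sys_zr (le_zr _) hU) sys_zr (le_zr _) R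
    fun Y hY pY e ⟨Q, hQ, e', hn⟩ => ?_
  have hu : ¬ 𝒰 Y := fun h => hn (mix_pos (hU.mono _ _ (e' ▸ JJ_le _ _) hQ.le (hQ.pg hG) h)).le
  refine Ex.congr (U := mix (fun P => #|JJ (Off ρ D) Y| < #|JJ (Off ρ D) P|) (fx ρ D) zr) ?_
    (fun P hP => ?_) fun _ _ => rfl
  · refine (loc ih hG hρ hD hY pY (R.up _) fun _ _ h => by rwa [JJ_JJ]).elim id fun ⟨a1, a2⟩ => ?_
    obtain rfl : Y₁ = Y := (h1.maximal _ pY (e' ▸ le_JJ o1 (h3 Q hQ)) a2).symm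
    rw [a1]
    have hG' : Geo 2 Γ (Fx Ω Y₁) := a1 ▸ hG.loc hY pY
    refine of_pi hG' hρ hD ((RB2.out hG' hρ hD (fun c hc hc' ⟨n, hn⟩ a ha => ha.2 c ?_)
      fun K hK hK' hk k hk' => (mem_kr.1 (h4 K ⟨hK, hK'⟩ (fun k h => (hk k h).imp fun n h' =>
        mem_kr.2 ⟨pow_mem (hK h) _, h'⟩) hk')).2).congr (fun _ _ => rfl) fun P hP => ?_)
    · obtain ⟨S, s1, s2⟩ := exists_isSylowIn_ge (Q := zpowers c) (H := kr hρ D)
        (fun ⟨_, k, rfl⟩ => ⟨n, Subtype.ext (by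
          simp only [SubgroupClass.coe_pow, OneMemClass.coe_one]
          rw [← zpow_natCast, ← zpow_mul, mul_comm, zpow_mul, zpow_natCast, hn, one_zpow])⟩)
        (zpowers_le.2 (mem_kr.2 ⟨hc, hc'⟩))
      exact (h1.maximal _ s1.isPGroup (s1.le_of_normalized pY h1.le (inf_le_left.trans h2)) s1.le).le
        (s2 (mem_zpowers c))
    · have b1 := hP.ge_of_fx hY
      have b2 : Y₁ ≤ JJ (Off ρ D) P := le_JJ o1 b1
      have b3 : (∃ A ≤ P, Off ρ D A ∧ ∃ a ∈ A, ∃ x ∈ D, ρ a x ≠ x) ↔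
          #|JJ (Off ρ D) Y₁| < #|JJ (Off ρ D) P| := by
        rw [e]
        refine ⟨fun ⟨A, c1, c2, a, c3, x, c4, c5⟩ => lt_of_not_ge fun h => c5 ((mem_kr.1
          (a2 ((eq_of_le_of_card_le b2 h).ge (le_JJ c2 c1 c3)))).2 x c4), fun h => ?_⟩
        by_contra! h'
        rw [h1.maximal _ ((hP.pg hG').to_le (JJ_le _ _)) b2 (JJ_le_iff.2 fun A c1 c2 a c3 =>
          mem_kr.2 ⟨hP.le (c2 c3), h' A c2 c1 a c3⟩)] at h
        exact lt_irrefl _ h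
      simp only [mix, b3]
      congr
  · by_cases h : #|JJ (Off ρ D) Y| < #|JJ (Off ρ D) P|
    · rw [mix_pos (𝒰 := fun P => _ < #|JJ (Off ρ D) P|) h,
        mix_pos (𝒰 := fun P => _ < #|JJ (Off ρ D) P|) h]
    · rw [mix_neg (𝒰 := fun P => _ < #|JJ (Off ρ D) P|) h,
        mix_neg (𝒰 := fun P => _ < #|JJ (Off ρ D) P|) h]
      obtain ⟨Q', q1, q2, rfl⟩ := hP.exists_glob hY
      obtain ⟨q3, q4⟩ := R.le_norm e q2 q1.le (q1.pg hG) (not_lt.1 h)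
      rw [inf_of_le_left q3, mix_neg fun h => hu (q4 ▸ hc Q' q1 h)]

theorem step1 [ACY] [RB2] : PDk 2 Γ Ω ρ D 2 := fun 𝒰 _ _ _ hU hc => by
  have := hD.fin
  obtain ⟨K, k1, k2, k3⟩ := exists_kt 2 (kr_normal hρ hD.inv)
  have sR := (sys_fx (p := 2) hρ hD.inv).mix sys_zr (le_zr _) hU
  have sW := sR.mix sys_zr (le_zr _) (Y6.up_sy k1.norm)
  have le : ∀ P, mix (Y6.Sy 2 K) (mix 𝒰 (fx ρ D) zr) zr P ≤ D := fun P =>
    (mix_le (zr_le _ _)).trans ((mix_le (zr_le _ _)).trans (fx_le _ _))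
  refine Ex.trans (U' := mix (Y6.Sy 2 K) (mix 𝒰 (fx ρ D) zr) zr) ?_
    (ACY.out hG hρ sW sys_zr (le_zr _) (fun P _ => ?_) 2) (fun _ _ => zr_le _ _)
    fun _ _ => mix_le (zr_le _ _)
  · refine FW.floc hG hρ sR sW ((le_zr _).mix_left _) (rj_inf k1.norm) fun Y hY pY e ⟨Q, hQ, e', hn⟩ => ?_
    have hs : IsSylowIn 2 Y K := e' ▸ by_contra fun h => hn (mix_neg (𝒰 := Y6.Sy 2 K) h).ge
    have a1 : ∀ P, Stb (Γ ⊓ 𝐍(Y)) (Fx Ω Y) P → P ⊓ K = Y := fun P hP =>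
      Y6.sy_of_le hs (hP.ge_loc hY) (hP.pg (hG.loc hY pY))
    have a2 : ∀ P, Stb (Γ ⊓ 𝐍(Y)) (Fx Ω Y) P → 𝒰 P → 𝒰 (JJ (Off ρ D) P) := fun P hP => by
      obtain ⟨Q', q1, q2, rfl⟩ := hP.exists_glob hY
      rw [inf_of_le_left (Y6.sy_of_le hs q2 (q1.pg hG) ▸ (NormalIn.inf_of_norm (q1.le.trans k1.norm)).norm)]
      exact hc Q' q1
    refine Ex.congr (U := mix 𝒰 (fx ρ D) zr) (W := zr) ?_
      (fun P hP => (mix_neg (𝒰 := fun P => _ < #|P ⊓ K|) (by rw [a1 P hP, e]; exact lt_irrefl _)).symm)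
      fun P hP => (mix_pos (𝒰 := Y6.Sy 2 K) (show IsSylowIn 2 _ K by rwa [a1 P hP])).symm
    refine (loc ih hG hρ hD hY pY hU a2).elim id fun ⟨b1, b2⟩ => ?_
    have b3 : K = kr hρ D := (Y6.le_of_pow hs b2 k2).antisymm
      (k3 _ (kr_normal hρ hD.inv) fun k hk => ⟨0, by simpa using hk⟩)
    rw [b1] at a2 ⊢
    exact step2 ih (b1 ▸ hG.loc hY pY) hρ hD hU a2 (b3 ▸ hs) (inf_eq_left.1 b1)
      (fun P hP => hP.ge_of_fx hY) (b3 ▸ k3)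
  · by_cases h : Y6.Sy 2 K P
    · exact Or.inl (mix_pos h).le
    · have := Finite.of_injective _ (AddSubgroup.inclusion_injective (le P))
      refine Or.inr ⟨AddSubgroup.index_ne_zero_of_finite, hD.tor.imp fun e he x hx => he x (le P hx),
        K, k1.le, inf_le_left.trans k1.norm, h, fun k hk _ => (k2 k hk).imp fun n hn x hx => ?_⟩
      rw [(mem_kr.1 hn).2 x (le P hx), sub_self]
      exact zero_mem _

end Two

theorem pd_two [ACY] [RB2] (n : ℕ) : ∀ (Γ : Subgroup G) (Ω : Set X) (D : AddSubgroup M),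
    #|Γ| + Nat.card D < n → PDk 2 Γ Ω ρ D 2 := by
  induction n with
  | zero => exact fun _ _ _ h => absurd h (Nat.not_lt_zero _)
  | succ n ih =>
    exact fun Γ Ω D h 𝒰 hG hρ hD => step1 (fun Γ' Ω' D' h' => ih Γ' Ω' D' (by omega)) hG hρ hD 𝒰 hG hρ hD

instance instPD [ACY] [NRM] [RB2] : PD where
  out := fun {G _ _ X _ _ M _ p _ Γ Ω ρ D 𝒰} hG hρ hD hU hc k hk => by
    have key : ∀ (Γ : Subgroup G) (Ω : Set X), PDk p Γ Ω ρ D k := by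
      induction k, hk using Nat.le_induction with
      | base =>
        intro Γ Ω
        by_cases h : p = 2
        · subst h
          exact pd_two _ Γ Ω D (Nat.lt_succ_self _)
        · exact pd_odd h
      | succ k _ ih => exact fun _ _ => pd_succ ih
    exact key Γ Ω 𝒰 hG hρ hD hU hc

end Cfsg.Agent.Ch.P5
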