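import Cfsg.Agent.Ch.I

/-! The slice `RB2` of `S5242`: descent to the faithful quotient. -/

set_option autoImplicit false
set_option linter.unusedSectionVars false
set_option linter.style.haveILetI false

namespace Cfsg.Agent.Ch.R

open Subgroup Cfsg.Agent.H1 Cfsg.Agent.L Cfsg.Agent.FT MulAction Function
open scoped Pointwise commutatorElement

variable {H K Y Z D : Type} [Group H] [Finite H] [Group K] [MulAction H Y] {φ : H →* K}

theorem exists_quot (hφ : Surjective φ) (Y : Type) [Finite Y] [MulAction H Y] :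
    ∃ (Z : Type) (_ : Finite Z) (_ : MulAction K Z) (π : Y → Z), Surjective π ∧
      (∀ g y, π (g • y) = φ g • π y) ∧ ∀ y y', π y = π y' → ∃ c, φ c = 1 ∧ c • y' = y := by
  have k : ∀ (g g' : H) (y : Y), φ g = φ g' →
      (⟦g • y⟧ : orbitRel.Quotient φ.ker Y) = ⟦g' • y⟧ := fun g g' y e =>
    Quotient.sound ⟨⟨g * g'⁻¹, by simp [e]⟩, by simp [smul_smul]⟩
  letI : MulAction K (orbitRel.Quotient φ.ker Y) :=
    { smul := fun g => Quotient.map (surjInv hφ g • ·) (by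
        rintro _ y ⟨c, rfl⟩
        exact ⟨⟨_, φ.normal_ker.conj_mem _ c.2 (surjInv hφ g)⟩, by simp [smul_smul, Subgroup.smul_def]⟩)
      one_smul := fun z => z.inductionOn fun y =>
        (k _ 1 y (by simp [surjInv_eq])).trans (by rw [one_smul])
      mul_smul := fun g g' z => z.inductionOn fun y =>
        (k _ (_ * _) y (by simp [surjInv_eq])).trans (congrArg _ (mul_smul _ _ y)) }
  exact ⟨_, inferInstance, this, Quotient.mk _, Quotient.mk_surjective,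
    fun g y => k _ _ y (surjInv_eq hφ _).symm, fun y y' e =>
      let ⟨c, hc⟩ := Quotient.exact e
      ⟨c, c.2, hc⟩⟩

variable [MulAction K Z] {π : Y → Z} {P : Subgroup H} {a b a' b' : Y}

/-- the quotient of a geometry by the kernel of `φ` -/
structure Dsc (φ : H →* K) (π : Y → Z) : Prop where
  sφ : Surjective φ
  sπ : Surjective π
  eqv : ∀ g y, π (g • y) = φ g • π y
  fib : ∀ y y', π y = π y' → ∃ c, φ c = 1 ∧ c • y' = y
  pg : ∀ y : Y, IsPGroup 2 (stabilizer H y)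
  fix : ∀ P : Subgroup H, IsPGroup 2 P → ∃ y : Y, ∀ g ∈ P, g • y = y
  ker : ∀ c, φ c = 1 → (∃ n, c ^ 2 ^ n = 1) → ∀ y : Y, c • y = y

theorem pe_of_mem (hP : IsPGroup 2 P) {g : H} (hg : g ∈ P) : ∃ n, g ^ 2 ^ n = 1 :=
  (hP ⟨g, hg⟩).imp fun _ e => congrArg Subtype.val e

namespace Dsc
variable (d : Dsc φ π)
include d

theorem dec {g : H} (hg : φ g • π a = π a) : ∃ c, φ c = 1 ∧ (c * g) • a = a :=
  (d.fib _ _ ((d.eqv g a).trans hg).symm).imp fun _ h => ⟨h.1, (mul_smul _ _ _).trans h.2⟩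

theorem pg' (z : Z) : IsPGroup 2 (stabilizer K z) := by
  obtain ⟨a, rfl⟩ := d.sπ z
  refine ((d.pg a).map φ).to_le fun g hg => ?_
  obtain ⟨g, rfl⟩ := d.sφ g
  obtain ⟨c, h1, h2⟩ := d.dec hg
  exact ⟨_, h2, by simp [h1]⟩

theorem lift (hP : IsPGroup 2 P) {z : Z} (h : ∀ g ∈ P, φ g • z = z) :
    ∃ a, π a = z ∧ ∀ g ∈ P, g • a = a := by
  obtain ⟨a, rfl⟩ := d.sπ z
  have h1 : IsSylowIn 2 (stabilizer H a) ((stabilizer K (π a)).comap φ) :=
    ⟨fun g hg => (d.eqv g a).symm.trans (congrArg π hg), d.pg a, fun S hS h1 h2 =>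
      le_antisymm (fun g hg => by
        obtain ⟨c, h3, h4⟩ := d.dec (h2 hg)
        exact (mul_mem_cancel_left (show c ∈ stabilizer H a from d.ker c h3 (pe_of_mem hS
          ((mul_mem_cancel_right hg).1 (h1 h4))) a)).1 h4) h1⟩
  obtain ⟨g, h2, h3⟩ := h1.exists_conj_mem hP h
  refine ⟨g⁻¹ • a, (d.eqv _ _).trans (inv_mem h2 :), fun x hx => ?_⟩
  rw [eq_inv_smul_iff, smul_smul, smul_smul]
  exact h3 x hx

omit d in
theorem syl {B : Subgroup K} {S : Subgroup H} (hB : IsPGroup 2 B) (hS : IsSylowIn 2 S (B.comap φ))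
    {g : H} (hg : φ g ∈ B) : φ g ∈ S.map φ :=
  ((hS.map φ).eq_of_isPGroup (hB.to_le (map_comap_le _ _))).ge ⟨g, hg, rfl⟩

theorem onto {B : Subgroup K} (hB : IsPGroup 2 B) :
    ∃ S : Subgroup H, IsPGroup 2 S ∧ B ≤ S.map φ ∧ ∀ g ∈ S, φ g ∈ B := by
  obtain ⟨S, hS⟩ := exists_isSylowIn 2 (B.comap φ)
  refine ⟨S, hS.isPGroup, fun g hg => ?_, hS.le⟩
  obtain ⟨g, rfl⟩ := d.sφ g
  exact syl hB hS hg

theorem geo : Geo 2 (⊤ : Subgroup K) (Set.univ : Set Z) :=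
  ⟨fun _ _ _ _ => trivial, fun z _ => (d.pg' z).to_le inf_le_right, fun B _ hB => by
    obtain ⟨S, h1, h2, -⟩ := d.onto hB
    obtain ⟨a, ha⟩ := d.fix S h1
    refine ⟨π a, trivial, fun g hg => ?_⟩
    obtain ⟨g, hg', rfl⟩ := h2 hg
    rw [← d.eqv, ha g hg']⟩

variable [AddCommGroup D] [DistribMulAction K D] {Q : Subgroup K → Prop} {F : Y → Y → D}
  (tor : ∃ e : ℕ, ∀ x : D, 2 ^ e • x = 0) (mono : ∀ B B', B ≤ B' → Q B → Q B')
  (eqF : ∀ (g : H) a b, F (g • a) (g • b) = φ g • F a b)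
  (coc : ∀ (P : Subgroup H) a b c, Q (P.map φ) → (∀ g ∈ P, g • a = a) → (∀ g ∈ P, g • b = b) →
    (∀ g ∈ P, g • c = c) → F a c = F a b + F b c)
include tor mono eqF coc

theorem zero (hQ : Q (P.map φ)) (ha : ∀ g ∈ P, g • a = a) (hb : ∀ g ∈ P, g • b = b)
    (e : π b = π a) : F a b = 0 := by
  obtain ⟨c, h1, rfl⟩ := d.fib _ _ e
  replace hQ := mono _ _ (map_mono (show P ≤ stabilizer H a ⊓ stabilizer H (c • a) from
    fun g hg => ⟨ha g hg, hb g hg⟩)) hQ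
  have h2 : ∀ (n : ℕ), ∀ g ∈ stabilizer H a ⊓ stabilizer H (c • a), g • c ^ n • a = c ^ n • a := by
    intro n
    induction n with
    | zero => simpa using fun g h _ => h
    | succ n ih =>
      intro g hg
      have h3 : c⁻¹ * g * c ∈ stabilizer H a := by
        rw [mem_stabilizer_iff, mul_smul, mul_smul, hg.2, inv_smul_smul]
      have h4 := d.ker (c⁻¹ * g * c * g⁻¹) (by simp [h1])
        (pe_of_mem (d.pg a) (mul_mem h3 (inv_mem hg.1))) (g • c ^ n • a)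
      rw [smul_smul, inv_mul_cancel_right, ih g hg, mul_smul, mul_smul, inv_smul_eq_iff] at h4
      rw [pow_succ', mul_smul, h4]
  have h3 : ∀ n : ℕ, F a (c ^ n • a) = n • F a (c • a) := fun n => by
    induction n with
    | zero => simpa using coc _ a a a hQ (fun _ h => h.1) (fun _ h => h.1) fun _ h => h.1
    | succ n ih =>
      rw [coc _ a (c • a) _ hQ (fun _ h => h.1) (fun _ h => h.2) (h2 _), pow_succ', mul_smul, eqF, h1,
        one_smul, ih, succ_nsmul']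
  obtain ⟨e, he⟩ := tor
  obtain ⟨k, m, h4, h5⟩ := Nat.exists_eq_two_pow_mul_odd (orderOf_pos c).ne'
  have h6 := h3 m
  rw [d.ker (c ^ m) (by simp [h1]) ⟨k, by rw [← pow_mul, mul_comm, ← h5, pow_orderOf_eq_one]⟩,
    show F a a = 0 by simpa using h3 0] at h6
  exact AddMonoid.addOrderOf_eq_one_iff.1 (Nat.eq_one_of_dvd_coprimes (h4.coprime_two_left.pow_left e)
    (addOrderOf_dvd_of_nsmul_eq_zero (he _)) (addOrderOf_dvd_of_nsmul_eq_zero h6.symm))

theorem same (hQ : Q (P.map φ)) (ha : ∀ g ∈ P, g • a = a) (hb : ∀ g ∈ P, g • b = b)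
    (ha' : ∀ g ∈ P, g • a' = a') (hb' : ∀ g ∈ P, g • b' = b') (e : π a = π a') (e' : π b = π b') :
    F a b = F a' b' := by
  rw [coc _ a a' b hQ ha ha' hb, coc _ a' b' b hQ ha' hb' hb, d.zero tor mono eqF coc hQ ha ha' e.symm,
    d.zero tor mono eqF coc hQ hb' hb e', zero_add, add_zero]

theorem well {P' : Subgroup H} (hQ : Q (P.map φ)) (ha : ∀ g ∈ P, g • a = a) (hb : ∀ g ∈ P, g • b = b)
    (hQ' : Q (P'.map φ)) (ha' : ∀ g ∈ P', g • a' = a') (hb' : ∀ g ∈ P', g • b' = b')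
    (e : π a = π a') (e' : π b = π b') : F a b = F a' b' := by
  have hB := (d.pg' (π a)).to_le (inf_le_left (b := stabilizer K (π b)))
  have k : ∀ {g : H} {y}, g • y = y → φ g • π y = π y := fun h => (d.eqv _ _).symm.trans (congrArg π h)
  obtain ⟨S, hS, h1⟩ := exists_isSylowIn_ge ((d.pg a).to_le ha) (show P ≤ (stabilizer K (π a) ⊓
    stabilizer K (π b)).comap φ from fun g hg => ⟨k (ha g hg), k (hb g hg)⟩)
  obtain ⟨g, h2, h3⟩ := hS.exists_conj_mem ((d.pg a').to_le ha') fun g hg =>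
    ⟨(e ▸ k (ha' g hg) :), (e' ▸ k (hb' g hg) :)⟩
  obtain ⟨s, h4, h5⟩ := syl hB hS h2
  obtain ⟨x, h6, h7⟩ := d.lift hS.isPGroup fun g hg => (hS.le hg).1
  obtain ⟨y, h8, h9⟩ := d.lift hS.isPGroup fun g hg => (hS.le hg).2
  have h10 : φ (s⁻¹ * g) = 1 := by simp [h5]
  have h11 : ∀ z : Y, (∀ u ∈ S, u • z = z) → ∀ u ∈ P', u • (s⁻¹ * g)⁻¹ • z = (s⁻¹ * g)⁻¹ • z :=
    fun z hz u hu => by
      rw [eq_inv_smul_iff, smul_smul, smul_smul]
      exact hz _ (by simpa [mul_assoc] using mul_mem (mul_mem (inv_mem h4) (h3 u hu)) h4)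
  rw [d.same tor mono eqF coc hQ ha hb (fun g hg => h7 g (h1 hg)) (fun g hg => h9 g (h1 hg)) h6.symm
    h8.symm, d.same tor mono eqF coc hQ' ha' hb' (h11 x h7) (h11 y h9)
      (by rw [d.eqv, map_inv, h10, h6, e]; simp) (by rw [d.eqv, map_inv, h10, h8, e']; simp), eqF,
    map_inv, h10, inv_one, one_smul]

theorem down (conj : ∀ (g : K) B, Q B → Q (g ⋆ B)) : ∃ F' : Z → Z → D,
    (∀ (g : K) a b, F' (g • a) (g • b) = g • F' a b) ∧
    (∀ (B : Subgroup K) a b c, Q B → (∀ g ∈ B, g • a = a) → (∀ g ∈ B, g • b = b) →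
      (∀ g ∈ B, g • c = c) → F' a c = F' a b + F' b c) ∧
    ∀ (P : Subgroup H) a b, Q (P.map φ) → (∀ g ∈ P, g • a = a) → (∀ g ∈ P, g • b = b) →
      F' (π a) (π b) = F a b := by
  classical
  let T : Z → Z → Subgroup H × Y × Y → Prop := fun u v t => Q (t.1.map φ) ∧
    (∀ g ∈ t.1, g • t.2.1 = t.2.1) ∧ (∀ g ∈ t.1, g • t.2.2 = t.2.2) ∧ π t.2.1 = u ∧ π t.2.2 = v
  let F' : Z → Z → D := fun u v => if h : ∃ t, T u v t then F h.choose.2.1 h.choose.2.2 else 0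
  have k : ∀ u v t, T u v t → F' u v = F t.2.1 t.2.2 := fun u v t ht => by
    obtain ⟨h1, h2, h3, h4, h5⟩ := (⟨t, ht⟩ : ∃ t, T u v t).choose_spec
    exact (dif_pos ⟨t, ht⟩).trans (d.well tor mono eqF coc h1 h2 h3 ht.1 ht.2.1 ht.2.2.1
      (h4.trans ht.2.2.2.1.symm) (h5.trans ht.2.2.2.2.symm))
  have k' : ∀ (g : H) u v t, T u v t → T (φ g • u) (φ g • v) (g ⋆ t.1, g • t.2.1, g • t.2.2) := by
    rintro g _ _ ⟨P, a, b⟩ ⟨h1, h2, h3, rfl, rfl⟩
    have h4 : ∀ y : Y, (∀ x ∈ P, x • y = y) → ∀ x ∈ g ⋆ P, x • g • y = g • y := fun y hy x hx => by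
      obtain ⟨z, hz, rfl⟩ := mem_conj'.1 hx
      rw [mul_smul, inv_smul_smul, mul_smul, hy z hz]
    refine ⟨mono _ _ (fun x hx => ?_) (conj (φ g) _ h1), h4 a h2, h4 b h3, d.eqv _ _, d.eqv _ _⟩
    obtain ⟨_, ⟨z, hz, rfl⟩, rfl⟩ := mem_conj'.1 hx
    exact ⟨_, conj_mem_conj g hz, by simp⟩
  refine ⟨F', fun g u v => ?_, fun B u v w hB h1 h2 h3 => ?_, fun P a b h1 h2 h3 =>
    k _ _ (P, a, b) ⟨h1, h2, h3, rfl, rfl⟩⟩
  · obtain ⟨g, rfl⟩ := d.sφ g
    by_cases h : ∃ t, T u v t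
    · obtain ⟨t, ht⟩ := h
      rw [k _ _ _ ht, k _ _ _ (k' g _ _ _ ht), eqF]
    · rw [show F' u v = 0 from dif_neg h, smul_zero]
      exact dif_neg fun ⟨t, ht⟩ => h ⟨_, by simpa using k' g⁻¹ _ _ _ ht⟩
  · obtain ⟨S, hS, h4, h5⟩ := d.onto ((d.pg' u).to_le h1)
    obtain ⟨a, rfl, ha⟩ := d.lift hS fun g hg => h1 _ (h5 g hg)
    obtain ⟨b, rfl, hb⟩ := d.lift hS fun g hg => h2 _ (h5 g hg)
    obtain ⟨c, rfl, hc⟩ := d.lift hS fun g hg => h3 _ (h5 g hg)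
    have h6 := mono _ _ h4 hB
    rw [k _ _ (S, a, c) ⟨h6, ha, hc, rfl, rfl⟩, k _ _ (S, a, b) ⟨h6, ha, hb, rfl, rfl⟩,
      k _ _ (S, b, c) ⟨h6, hb, hc, rfl, rfl⟩]
    exact coc S a b c h6 ha hb hc

end Dsc

theorem mem_st {G X : Type} [Group G] [MulAction G X] {Γ : Subgroup G} {l : List X} {g : G} :
    g ∈ st Γ l ↔ g ∈ Γ ∧ ∀ a ∈ l, g • a = a := by
  simp [st, mem_iInf]

variable [AddCommGroup D] [Finite D] [DistribMulAction K D]

theorem woff_conj (g : K) {B : Subgroup K} (h : WOff D B) : WOff D (g ⋆ B) := by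
  refine ⟨fun e => h.ne (conj_eq_bot_iff.1 e), fun a ha b hb => ?_, h.val.trans ?_⟩
  · exact mul_right_cancel (b := g)
      (by simpa [mul_assoc] using h.ab _ (mem_conj.1 ha) _ (mem_conj.1 hb))
  · rw [card_conj]
    refine Nat.mul_le_mul_left _ (Nat.card_le_card_of_injective (fun x => ⟨g • x.1, trivial,
      fun k hk => ?_⟩) fun x y e => Subtype.ext (smul_left_cancel g (congrArg Subtype.val e)))
    have := x.2.2 _ (mem_conj.1 hk)
    change k • g • x.1 = g • x.1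
    rw [← inv_smul_eq_iff, smul_smul, smul_smul]
    exact this

theorem core [B2A] [B2B] [Finite K] [Finite Z] (d : Dsc φ π) (fa : Fa K D) {F : Y → Y → D}
    (eqF : ∀ (g : H) a b, F (g • a) (g • b) = φ g • F a b)
    (coc : ∀ (P : Subgroup H) a b c, (∃ B ≤ P.map φ, WOff D B) → (∀ g ∈ P, g • a = a) →
      (∀ g ∈ P, g • b = b) → (∀ g ∈ P, g • c = c) → F a c = F a b + F b c) :
    ∃ f : Y → D, (∀ (g : H) a, f (g • a) = φ g • f a) ∧ ∀ (P : Subgroup H) a b,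
      (∃ B ≤ P.map φ, WOff D B) → (∀ g ∈ P, g • a = a) → (∀ g ∈ P, g • b = b) →
        F a b = f b - f a := by
  obtain ⟨F', h1, h2, h3⟩ := d.down (Q := fun P => ∃ B ≤ P, WOff D B) fa.tor
    (fun _ _ h ⟨B, h1, h2⟩ => ⟨B, h1.trans h, h2⟩) eqF coc
    fun g _ ⟨B, h1, h2⟩ => ⟨_, conj_le_conj_iff.2 h1, woff_conj g h2⟩
  obtain ⟨f, h4, h5⟩ := (em _).elim (B2A.out fa d.geo) (fun h => B2B.out fa d.geo (not_exists.1 h))
    (fun l => match l with | [u, v] => F' u v | _ => 0) ⟨fun g _ l hl => by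
      obtain ⟨u, v, rfl⟩ := List.length_eq_two.1 hl.1
      exact h1 g u v, fun l hl _ => by
      obtain ⟨u, v, rfl⟩ := List.length_eq_two.1 hl.1
      refine ⟨trivial, fun g hg => (h1 g u v).symm.trans ?_⟩
      rw [(mem_st.1 hg).2 u (by simp), (mem_st.1 hg).2 v (by simp)], by simp⟩ fun l hl => by
      obtain ⟨u, v, w, rfl⟩ := List.length_eq_three.1 hl.1
      have k : ∀ x ∈ [u, v, w], ∀ g ∈ st (⊤ : Subgroup K) [u, v, w], g • x = x :=
        fun x hx g hg => (mem_st.1 hg).2 x hx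
      change F' v w - (F' u w - (F' u v - 0)) ∈ _
      unfold mix
      split_ifs with h
      · rw [h2 _ u v w h (k u (by simp)) (k v (by simp)) (k w (by simp))]
        simp [zr]
      · refine ⟨trivial, fun g hg => ?_⟩
        change g • (_ : D) = _
        simp only [smul_sub, smul_zero, ← h1, k u (by simp) g hg, k v (by simp) g hg,
          k w (by simp) g hg]
  refine ⟨fun a => f [π a], fun g a => ?_, fun P a b ⟨B, h6, h7⟩ ha hb => ?_⟩
  · beta_reduce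
    rw [d.eqv]
    exact h4.eqv (φ g) trivial [π a] ⟨rfl, fun _ _ => trivial⟩
  · have h8 := h5 [π a, π b] ⟨rfl, fun _ _ => trivial⟩
    rw [mix, if_pos ⟨B, h6.trans (map_le_iff_le_comap.2 fun g hg => mem_st.2 ⟨trivial, by
      simp [← d.eqv, ha g hg, hb g hg]⟩), h7⟩] at h8
    rw [← h3 P a b ⟨B, h6, h7⟩ ha hb]
    simpa [dd, zr, sub_eq_zero] using h8

theorem exists_faith (H D : Type) [Group H] [Finite H] [AddCommGroup D] [DistribMulAction H D] :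
    ∃ (K : Type) (_ : Group K) (_ : Finite K) (_ : DistribMulAction K D) (φ : H →* K),
      Surjective φ ∧ (∀ g (x : D), φ g • x = g • x) ∧ ∀ k : K, (∀ x : D, k • x = x) → k = 1 :=
  ⟨_, _, Finite.of_surjective _ (DistribMulAction.toModuleAut ℤ D).rangeRestrict_surjective,
    inferInstance, _, MonoidHom.rangeRestrict_surjective _, fun _ _ => rfl,
    fun _ h => Subtype.ext (LinearEquiv.ext h)⟩

section
variable {G M : Type} [Group G] [Finite G] [AddCommGroup M] {Γ : Subgroup G} {ρ : G → M →+ M}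
  {D : AddSubgroup M} [Finite D] [Finite K] [DistribMulAction K D] {φ : Γ →* K} {A P : Subgroup G}
  (h1 : ∀ g (x : D), ((φ g • x : D) : M) = ρ g x) (h2 : ∀ k : K, (∀ x : D, k • x = x) → k = 1)
include h1

theorem val_eq (hA : A ≤ Γ) : #|A| * Nat.card (fx ρ D A) = #|φ.ker ⊓ A.subgroupOf Γ| *
    (#|(A.subgroupOf Γ).map φ| * Nat.card (fx (ac K D) ⊤ ((A.subgroupOf Γ).map φ))) := by
  rw [← mul_assoc, mul_comm #|_ ⊓ _|, card_map_mul_card_inf_ker, L.card_subgroupOf_of_le hA]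
  refine congrArg _ (Nat.card_congr ⟨fun x => ⟨⟨x, x.2.1⟩, trivial, ?_⟩, fun x => ⟨x.1, x.1.2,
    fun g hg => (h1 ⟨g, hA hg⟩ x).symm.trans (congrArg _ (x.2.2 _ ⟨_, hg, rfl⟩))⟩,
    fun _ => rfl, fun _ => rfl⟩)
  rintro _ ⟨g, hg, rfl⟩
  exact Subtype.ext ((h1 g _).trans (x.2.2 _ hg))

omit h1 in
theorem val_bot : #|(⊥ : Subgroup K)| * Nat.card (fx (ac K D) ⊤ ⊥) = Nat.card D := by
  rw [card_bot, one_mul, ← AddSubgroup.card_top (G := D)]
  congr 2
  exact top_unique fun x _ => ⟨trivial, fun g hg => by rw [mem_bot.1 hg]; exact one_smul K x⟩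

include h2

theorem off_of {B : Subgroup K} (hB : B ≤ (P.subgroupOf Γ).map φ) (h : WOff D B) :
    ∃ A ≤ P, Off ρ D A ∧ ∃ a ∈ A, ∃ x ∈ D, ρ a x ≠ x := by
  obtain ⟨C, ⟨h3, h4⟩, h5⟩ := Set.exists_max_image {C | C ≤ B ∧ C ≠ ⊥}
    (fun C => #|C| * Nat.card (fx (ac K D) ⊤ C)) (Set.toFinite _) ⟨B, le_rfl, h.ne⟩
  have h6 : (C.comap φ ⊓ P.subgroupOf Γ).map φ = C := le_antisymm (map_le_iff_le_comap.2 inf_le_left)
    fun k hk => let ⟨g, hg, e⟩ := hB (h3 hk); ⟨g, ⟨(e ▸ hk :), hg⟩, e⟩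
  have h7 : ((C.comap φ ⊓ P.subgroupOf Γ).map Γ.subtype).subgroupOf Γ = _ :=
    comap_map_eq_self_of_injective Γ.subtype_injective _
  refine ⟨(C.comap φ ⊓ P.subgroupOf Γ).map Γ.subtype, map_le_iff_le_comap.2 inf_le_right,
    ⟨?_, fun A hA => ?_⟩, ?_⟩
  · rintro _ ⟨a, ha, rfl⟩ _ ⟨b, hb, rfl⟩ x hx
    refine (h1 (a * b) ⟨x, hx⟩).symm.trans (Eq.trans ?_ (h1 (b * a) ⟨x, hx⟩))
    rw [map_mul, map_mul, h.ab _ (h3 ha.1) _ (h3 hb.1)]
  · have h8 : A.subgroupOf Γ ≤ _ := (comap_mono hA).trans h7.le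
    rw [val_eq h1 (hA.trans (map_subtype_le _)), val_eq h1 (map_subtype_le _), h7, h6]
    refine Nat.mul_le_mul (card_le_of_le (inf_le_inf_left _ h8)) ?_
    by_cases e : (A.subgroupOf Γ).map φ = ⊥
    · rw [e, val_bot]
      exact h.val.trans (h5 B ⟨le_rfl, h.ne⟩)
    · exact h5 _ ⟨((map_mono h8).trans h6.le).trans h3, e⟩
  · by_contra! e
    refine h4 (eq_bot_iff.2 fun k hk => h2 k fun x => ?_)
    obtain ⟨g, hg, rfl⟩ := h6.ge hk
    exact Subtype.ext ((h1 g x).trans (e _ ⟨g, hg, rfl⟩ _ x.2))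

theorem woff_of (hA : A ≤ Γ) (h : Off ρ D A) {a : G} (ha : a ∈ A) {x : M} (hx : x ∈ D)
    (h3 : ρ a x ≠ x) : WOff D ((A.subgroupOf Γ).map φ) := by
  refine ⟨fun e => h3 ?_, ?_, ?_⟩
  · rw [← h1 ⟨a, hA ha⟩ ⟨x, hx⟩, mem_bot.1 (e.le ⟨⟨a, hA ha⟩, ha, rfl⟩), one_smul]
  · rintro _ ⟨a, ha, rfl⟩ _ ⟨b, hb, rfl⟩
    refine eq_of_inv_mul_eq_one (h2 _ fun x => ?_)
    rw [mul_smul, inv_smul_eq_iff, ← map_mul, ← map_mul]
    exact Subtype.ext ((h1 _ _).trans ((h.ab _ hb _ ha _ x.2).trans (h1 (a * b) x).symm))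
  · have h7 : ((φ.ker ⊓ A.subgroupOf Γ).map Γ.subtype).subgroupOf Γ = _ :=
      comap_map_eq_self_of_injective Γ.subtype_injective _
    have h4 := h.best ((φ.ker ⊓ A.subgroupOf Γ).map Γ.subtype) (map_le_iff_le_comap.2 inf_le_right)
    rw [val_eq h1 hA, val_eq h1 (map_subtype_le _), h7, ← inf_assoc, inf_idem,
      (Subgroup.map_eq_bot_iff _).2 inf_le_left, val_bot] at h4
    exact Nat.le_of_mul_le_mul_left h4 Nat.card_pos

end

end Cfsg.Agent.Ch.R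

namespace Cfsg.Agent.Ch
open Subgroup Cfsg.Agent.H1 Cfsg.Agent.L MulAction R

instance instRB2 [B2A] [B2B] : RB2 := ⟨fun {G _ _ X _ _ M _ Γ Ω ρ D} ge ac md H1 H2 f hf hd => by
  classical
  haveI := md.fin
  letI : DistribMulAction Γ D :=
    { smul := fun g x => ⟨ρ g x, md.inv _ g.2 _ x.2⟩
      one_smul := fun x => Subtype.ext (ac.one _)
      mul_smul := fun g h x => Subtype.ext (ac.mul _ g.2 _ h.2 _)
      smul_zero := fun g => Subtype.ext (map_zero _)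
      smul_add := fun g x y => Subtype.ext (map_add _ _ _) }
  letI : MulAction Γ Ω :=
    { smul := fun g a => ⟨g.1 • a.1, ge.inv _ g.2 _ a.2⟩
      one_smul := fun a => Subtype.ext (one_smul _ _)
      mul_smul := fun g h a => Subtype.ext (mul_smul _ _ _) }
  obtain ⟨K, _, _, _, φ, h1, h2, h3⟩ := exists_faith Γ D
  obtain ⟨Z, _, _, π, h4, h5, h6⟩ := exists_quot h1 Ω
  have h2' : ∀ g (x : D), ((φ g • x : D) : M) = ρ g x := fun g x => congrArg Subtype.val (h2 g x)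
  have d : Dsc φ π := ⟨h1, h4, h5, h6, fun a g => ((ge.pg a a.2) ⟨g.1.1, g.1.2,
    congrArg Subtype.val g.2⟩).imp fun n e => Subtype.ext (Subtype.ext (by
      simpa using congrArg Subtype.val e)),
    fun P hP => let ⟨a, ha, e⟩ := ge.fix _ (map_subtype_le P) (hP.map _)
      ⟨⟨a, ha⟩, fun g hg => Subtype.ext (e _ ⟨g, hg, rfl⟩)⟩,
    fun c e ⟨n, hn⟩ a => Subtype.ext (H1 c c.2 (fun x hx => by
      rw [← h2' c ⟨x, hx⟩, e, one_smul]) ⟨n, congrArg Subtype.val hn⟩ a a.2)⟩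
  have fa : Fa K D := ⟨md.tor.imp fun e h x => Subtype.ext (h x x.2), h3, fun N hN hp =>
    eq_bot_iff.2 fun k hk => h3 k fun x => by
      obtain ⟨g, rfl⟩ := h1 k
      refine Subtype.ext ((h2' g x).trans (H2 ((N.comap φ).map Γ.subtype) (map_subtype_le _)
        (fun u hu => ?_) ?_ _ ⟨g, hk, rfl⟩ _ x.2))
      · refine mem_normalizer_of_conj_mem ?_
        rintro _ ⟨v, hv, rfl⟩
        exact ⟨_, (hN.comap φ).conj_mem v hv ⟨u, hu⟩, rfl⟩
      · rintro _ ⟨u, hu, rfl⟩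
        obtain ⟨n, hn⟩ := pe_of_mem hp hu
        refine ⟨n, fun y hy => (h2' (u ^ 2 ^ n) ⟨y, hy⟩).symm.trans ?_⟩
        rw [map_pow, hn, one_smul]⟩
  have on : ∀ {a b : X}, a ∈ Ω → b ∈ Ω → On Ω 2 [a, b] := fun ha hb => ⟨rfl, by simp [ha, hb]⟩
  obtain ⟨f', h7, h8⟩ := core d fa (F := fun a b => ⟨f [a, b], (hf.mem _ (on a.2 b.2) (by simp)).1⟩)
    (fun g a b => Subtype.ext ((hf.eqv g g.2 [a, b] (on a.2 b.2)).trans (h2' g ⟨_, _⟩).symm))
    fun P a b c ⟨B, hB, hw⟩ ha hb hc => by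
      have e := hd [a, b, c] ⟨rfl, by simp⟩
      rw [mix, if_pos (off_of h2' h3 (hB.trans (map_mono fun g hg => mem_subgroupOf.2 <|
        mem_st.2 ⟨g.2, by simpa using ⟨congrArg Subtype.val (ha g hg), congrArg Subtype.val (hb g hg),
          congrArg Subtype.val (hc g hg)⟩⟩)) hw)] at e
      refine Subtype.ext ?_
      change f _ - (f _ - (f _ - 0)) = 0 at e
      change f _ = f _ + f _
      linear_combination (norm := abel1) -e
  let u : X → M := fun a => if h : a ∈ Ω then f' ⟨a, h⟩ else 0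
  have h9 : ∀ g ∈ Γ, ∀ a ∈ Ω, u (g • a) = ρ g (u a) := fun g hg a ha => by
    simp only [u, dif_pos ha, dif_pos (ge.inv g hg a ha)]
    exact (congrArg Subtype.val (h7 ⟨g, hg⟩ ⟨a, ha⟩)).trans (h2' _ _)
  have h10 : ∀ a, u a ∈ D := fun a => by
    by_cases h : a ∈ Ω <;> simp [u, h]
  refine ⟨fun l => match l with | [a] => u a | _ => 0, ⟨fun g hg l hl => ?_, fun l hl _ => ?_, by simp⟩,
    fun l hl => ?_⟩
  · obtain ⟨a, rfl⟩ := List.length_eq_one_iff.1 hl.1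
    exact h9 g hg a (hl.2 a (by simp))
  · obtain ⟨a, rfl⟩ := List.length_eq_one_iff.1 hl.1
    refine ⟨h10 a, fun g hg => (h9 g hg.1 a (hl.2 a (by simp))).symm.trans ?_⟩
    rw [(mem_st.1 hg).2 a (by simp)]
  · obtain ⟨a, b, rfl⟩ := List.length_eq_two.1 hl.1
    have ha := hl.2 a (by simp)
    have hb := hl.2 b (by simp)
    have k : ∀ x ∈ [a, b], ∀ g ∈ st Γ [a, b], g • x = x := fun x hx g hg => (mem_st.1 hg).2 x hx
    change f _ - (u b - (u a - 0)) ∈ _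
    unfold mix
    split_ifs with h
    · obtain ⟨A, hA, ho, g, hg, x, hx, e⟩ := h
      have := congrArg Subtype.val (h8 ((st Γ [a, b]).subgroupOf Γ) ⟨a, ha⟩ ⟨b, hb⟩
        ⟨_, map_mono (comap_mono hA), woff_of h2' h3 (hA.trans inf_le_left) ho hg hx e⟩
        (fun g hg => Subtype.ext (k a (by simp) g hg)) fun g hg => Subtype.ext (k b (by simp) g hg))
      simpa [zr, u, ha, hb, sub_eq_zero] using this
    · refine sub_mem (hf.mem _ hl (by simp)) ⟨by simp [sub_mem, h10], fun g hg => ?_⟩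
      rw [sub_zero, map_sub, ← h9 g hg.1 a ha, ← h9 g hg.1 b hb, k a (by simp) g hg,
        k b (by simp) g hg]⟩

end Cfsg.Agent.Ch
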