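import Cfsg.Agent.Ch.A

/-! Transvections on a finite abelian `2`-group: basic rules. -/

set_option autoImplicit false

namespace Cfsg.Agent.Ch

open Subgroup Cfsg.Agent.H1 Cfsg.Agent.L Cfsg.Agent.FT
open scoped Pointwise commutatorElement

theorem zm2 (a : ZMod 2) : a = 0 ∨ a = 1 := by revert a; decide

theorem zm2_val0 : (0 : ZMod 2).val = 0 := rfl
theorem zm2_val1 : (1 : ZMod 2).val = 1 := rfl
theorem zm2_add_self (a : ZMod 2) : a + a = 0 := by revert a; decide
theorem zm2_ne_zero {a : ZMod 2} : a ≠ 0 ↔ a = 1 := by revert a; decide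
theorem zm2_nsmul (a b : ZMod 2) : a.val • b = a * b := by revert a b; decide

section
variable {D : Type} [AddCommGroup D]

theorem zval_add {v : D} (h : v + v = 0) (a b : ZMod 2) :
    (a + b).val • v = a.val • v + b.val • v := by
  rcases zm2 a with rfl | rfl <;> rcases zm2 b with rfl | rfl <;>
    simp [zm2_add_self, zm2_val1, h]

theorem zval_mul (v : D) (a b : ZMod 2) : (a * b).val • v = a.val • b.val • v := by
  rcases zm2 a with rfl | rfl <;> rcases zm2 b with rfl | rfl <;> simp [zm2_val1]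

theorem zval_two {v : D} (h : v + v = 0) (a : ZMod 2) : a.val • v + a.val • v = 0 := by
  rw [← nsmul_add, h, nsmul_zero]

theorem map_zval (φ : D →+ ZMod 2) (a : ZMod 2) (v : D) : φ (a.val • v) = a * φ v := by
  rw [map_nsmul, zm2_nsmul]

theorem exists_eq_one {φ : D →+ ZMod 2} (h : φ ≠ 0) : ∃ x, φ x = 1 := by
  by_contra hc
  push Not at hc
  exact h (AddMonoidHom.ext fun x => (zm2 (φ x)).resolve_right (hc x))

theorem hom_add_self (φ : D →+ ZMod 2) : φ + φ = 0 :=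
  AddMonoidHom.ext fun x => zm2_add_self (φ x)

theorem hom_add_eq_zero {φ ψ : D →+ ZMod 2} : φ + ψ = 0 ↔ φ = ψ := by
  constructor
  · intro h
    rw [← add_zero φ, ← hom_add_self ψ, ← add_assoc, h, zero_add]
  · rintro rfl; exact hom_add_self _

theorem card_ker_zm2 [Finite D] {φ : D →+ ZMod 2} (h : φ ≠ 0) : Nat.card D = 2 * Nat.card φ.ker := by
  have h1 : φ.range = ⊤ := by
    obtain ⟨x, hx⟩ := exists_eq_one h
    rw [eq_top_iff]
    intro a _
    rcases zm2 a with rfl | rfl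
    · exact zero_mem _
    · exact ⟨x, hx⟩
  have h2 := AddSubgroup.index_ker φ
  rw [h1, AddSubgroup.card_top, Nat.card_zmod] at h2
  have h3 := φ.ker.index_mul_card
  rw [h2] at h3
  exact h3.symm

end

theorem pg_dih {G : Type*} [Group G] {s r : G} (hs : s * s = 1) (hr : r * r = 1) {n : ℕ}
    (h : (s * r) ^ 2 ^ n = 1) : IsPGroup 2 (closure {s, r} : Subgroup G) := by
  have is : s⁻¹ = s := inv_eq_of_mul_eq_one_right hs
  have ir : r⁻¹ = r := inv_eq_of_mul_eq_one_right hr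
  set c := s * r with hc
  have h1 : s * c * s⁻¹ = c⁻¹ := by rw [hc, mul_inv_rev, is, ir, ← mul_assoc, hs, one_mul]
  have h2 : ∀ i : ℤ, s * c ^ i = c ^ (-i) * s := fun i => by
    rw [zpow_neg, ← inv_zpow, ← h1, conj_zpow]; group
  have key : ∀ g ∈ (closure {s, r} : Subgroup G), ∃ i : ℤ, g = c ^ i ∨ g = c ^ i * s := by
    intro g hg
    induction hg using closure_induction with
    | mem x hx =>
      rcases hx with rfl | rfl
      · exact ⟨0, Or.inr (by simp)⟩
      · refine ⟨-1, Or.inr ?_⟩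
        rw [zpow_neg_one, hc, mul_inv_rev, is, ir, mul_assoc, hs, mul_one]
    | one => exact ⟨0, Or.inl (by simp)⟩
    | mul x y _ _ hx hy =>
      obtain ⟨i, rfl | rfl⟩ := hx <;> obtain ⟨j, rfl | rfl⟩ := hy
      · exact ⟨i + j, Or.inl (zpow_add _ _ _).symm⟩
      · exact ⟨i + j, Or.inr (by rw [zpow_add, mul_assoc])⟩
      · exact ⟨i + -j, Or.inr (by rw [zpow_add, mul_assoc, h2, mul_assoc])⟩
      · refine ⟨i + -j, Or.inl ?_⟩
        rw [zpow_add, mul_assoc, ← mul_assoc s, h2, mul_assoc, hs, mul_one]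
    | inv x _ hx =>
      obtain ⟨i, rfl | rfl⟩ := hx
      · exact ⟨-i, Or.inl (zpow_neg _ _).symm⟩
      · refine ⟨i, Or.inr ?_⟩
        rw [mul_inv_rev, is, ← zpow_neg, h2, neg_neg]
  rintro ⟨g, hg⟩
  obtain ⟨i, rfl | rfl⟩ := key g hg
  · refine ⟨n, Subtype.ext ?_⟩
    change (c ^ i) ^ 2 ^ n = 1
    rw [← zpow_natCast, ← zpow_mul, mul_comm, zpow_mul, zpow_natCast, h, one_zpow]
  · refine ⟨1, Subtype.ext ?_⟩
    change (c ^ i * s) ^ 2 ^ 1 = 1
    rw [pow_one, pow_two, mul_assoc, ← mul_assoc s, h2, mul_assoc, hs, mul_one, ← zpow_add,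
      add_neg_cancel, zpow_zero]

section
variable {G D : Type} [Group G] [AddCommGroup D] [DistribMulAction G D]

theorem mem_fx_ac {P : Subgroup G} {x : D} : x ∈ fx (ac G D) ⊤ P ↔ ∀ g ∈ P, g • x = x :=
  ⟨fun h => h.2, fun h => ⟨AddSubgroup.mem_top _, h⟩⟩

theorem fx_ac_anti {P Q : Subgroup G} (h : P ≤ Q) : fx (ac G D) ⊤ Q ≤ fx (ac G D) ⊤ P :=
  fun _ hx => mem_fx_ac.2 fun g hg => mem_fx_ac.1 hx g (h hg)

theorem fx_ac_bot : fx (ac G D) ⊤ (⊥ : Subgroup G) = ⊤ :=
  eq_top_iff.2 fun x _ => mem_fx_ac.2 fun g hg => by rw [mem_bot.1 hg, one_smul]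

theorem fx_ac_le_of_card [Finite D] {A₀ A : Subgroup G} (h : A₀ ≤ A)
    (hc : Nat.card (fx (ac G D) ⊤ A₀) < 2 * Nat.card (fx (ac G D) ⊤ A)) :
    fx (ac G D) ⊤ A₀ ≤ fx (ac G D) ⊤ A := by
  have h1 := fx_ac_anti (D := D) h
  obtain ⟨k, hk⟩ := AddSubgroup.card_dvd_of_le h1
  have hp : 0 < Nat.card (fx (ac G D) ⊤ A) := Nat.card_pos
  have hp' : 0 < Nat.card (fx (ac G D) ⊤ A₀) := Nat.card_pos
  have hk1 : k = 1 := by
    have : k < 2 := by
      rw [hk, mul_comm 2] at hc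
      exact Nat.lt_of_mul_lt_mul_left hc
    rcases k with _ | _ | k
    · rw [hk] at hp'; simp at hp'
    · rfl
    · omega
  rw [hk1, mul_one] at hk
  exact (AddSubgroup.eq_of_le_of_card_ge h1 hk.le).ge

theorem Fa.ext (hF : Fa G D) {g h : G} (e : ∀ x : D, g • x = h • x) : g = h := by
  have := hF.faith (h⁻¹ * g) fun x => by rw [mul_smul, e, inv_smul_smul]
  rw [inv_mul_eq_one] at this
  exact this.symm

/-- the functional `φ ∘ x⁻¹` -/
def cf (x : G) (φ : D →+ ZMod 2) : D →+ ZMod 2 := φ.comp (ac G D x⁻¹)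

@[simp] theorem cf_apply (x : G) (φ : D →+ ZMod 2) (y : D) : cf x φ y = φ (x⁻¹ • y) := rfl

theorem cf_smul (x : G) (φ : D →+ ZMod 2) (y : D) : cf x φ (x • y) = φ y := by
  rw [cf_apply, inv_smul_smul]

namespace Tv
variable {s t r u : G} {v w v' : D} {φ ψ φ' : D →+ ZMod 2}

theorem fix (h : Tv t v φ) {x : D} (hx : φ x = 0) : t • x = x := by
  rw [h.smul, hx, zm2_val0, zero_nsmul, add_zero]

theorem move (h : Tv t v φ) {x : D} (hx : φ x = 1) : t • x = x + v := by
  rw [h.smul, hx, zm2_val1, one_nsmul]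

theorem fix_iff (h : Tv t v φ) {x : D} : t • x = x ↔ φ x = 0 := by
  refine ⟨fun e => (zm2 (φ x)).resolve_right fun h1 => h.ne ?_, h.fix⟩
  rw [h.move h1] at e
  simpa using e

theorem fix_centre (h : Tv t v φ) : t • v = v := h.fix h.self

theorem neg (h : Tv t v φ) : -v = v := neg_eq_of_add_eq_zero_left h.two

theorem axis_smul (h : Tv t v φ) (x : D) : φ (t • x) = φ x := by
  rw [h.smul, map_add, map_zval, h.self, mul_zero, add_zero]

theorem smul_smul (h : Tv t v φ) (x : D) : t • t • x = x := by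
  rw [h.smul (t • x), h.axis_smul, h.smul x, add_assoc, zval_two h.two, add_zero]

theorem inv_smul (h : Tv t v φ) (x : D) : t⁻¹ • x = t • x := by
  rw [inv_smul_eq_iff, h.smul_smul]

theorem sq (hF : Fa G D) (h : Tv t v φ) : t * t = 1 :=
  hF.faith _ fun x => by rw [mul_smul, h.smul_smul]

theorem inv (hF : Fa G D) (h : Tv t v φ) : t⁻¹ = t := inv_eq_of_mul_eq_one_right (h.sq hF)

theorem ne_one (h : Tv t v φ) : t ≠ 1 := by
  rintro rfl
  obtain ⟨x, hx⟩ := exists_eq_one h.nz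
  have := h.fix_iff.1 (one_smul G x)
  rw [hx] at this
  exact one_ne_zero this

/-- the data determine the element -/
theorem eq_of (hF : Fa G D) (h : Tv t v φ) (h' : Tv s v φ) : t = s :=
  hF.ext fun x => by rw [h.smul, h'.smul]

theorem axis_eq (h : Tv t v φ) (h' : Tv t v' φ') : φ = φ' := by
  ext x
  rcases zm2 (φ x) with e | e
  · rw [e, h'.fix_iff.1 (h.fix e)]
  · rcases zm2 (φ' x) with e' | e'
    · rw [h.fix_iff.1 (h'.fix e')] at e; exact absurd e zero_ne_one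
    · rw [e, e']

theorem centre_eq (h : Tv t v φ) (h' : Tv t v' φ') : v = v' := by
  obtain ⟨x, hx⟩ := exists_eq_one h.nz
  have e := h.move hx
  rw [h'.move (h.axis_eq h' ▸ hx)] at e
  exact (add_left_cancel e).symm

theorem conj (h : Tv t v φ) (x : G) : Tv (x * t * x⁻¹) (x • v) (cf x φ) where
  ne := fun e => h.ne (by rw [← inv_smul_smul x v, e, smul_zero])
  two := by rw [← smul_add, h.two, smul_zero]
  nz := fun e => h.nz (AddMonoidHom.ext fun y => by rw [← cf_smul x φ y, e]; rfl)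
  self := by rw [cf_smul, h.self]
  smul := fun y => by
    rw [mul_smul, mul_smul, h.smul, smul_add, smul_inv_smul, cf_apply, smul_comm x]

theorem cf_eq (h : Tv s v φ) (ψ : D →+ ZMod 2) : cf s ψ = ψ + (ψ v).val • φ := by
  ext y
  rw [cf_apply, h.inv_smul, h.smul, map_add, map_zval, AddMonoidHom.add_apply,
    AddMonoidHom.nsmul_apply, zm2_nsmul, mul_comm]

/-- conjugate of a transvection by a transvection -/
theorem conj' (h : Tv s v φ) (h' : Tv t w ψ) :
    Tv (s * t * s⁻¹) (w + (φ w).val • v) (ψ + (ψ v).val • φ) := by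
  have := h'.conj s
  rwa [h.smul, h.cf_eq] at this

theorem conj00 (h : Tv s v φ) (h' : Tv t w ψ) (e1 : φ w = 0) (e2 : ψ v = 0) :
    Tv (s * t * s⁻¹) w ψ := by simpa [e1, e2] using h.conj' h'

theorem conj10 (h : Tv s v φ) (h' : Tv t w ψ) (e1 : φ w = 1) (e2 : ψ v = 0) :
    Tv (s * t * s⁻¹) (w + v) ψ := by simpa [e1, e2, zm2_val1] using h.conj' h'

theorem conj01 (h : Tv s v φ) (h' : Tv t w ψ) (e1 : φ w = 0) (e2 : ψ v = 1) :
    Tv (s * t * s⁻¹) w (ψ + φ) := by simpa [e1, e2, zm2_val1] using h.conj' h'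

theorem conj11 (h : Tv s v φ) (h' : Tv t w ψ) (e1 : φ w = 1) (e2 : ψ v = 1) :
    Tv (s * t * s⁻¹) (w + v) (ψ + φ) := by simpa [e1, e2, zm2_val1] using h.conj' h'

/-- an element centralises `t` iff it fixes centre and axis -/
theorem comm_iff' (hF : Fa G D) (h : Tv t v φ) {x : G} :
    x * t = t * x ↔ x • v = v ∧ cf x φ = φ := by
  constructor
  · intro e
    have h1 := h.conj x
    rw [e, mul_inv_cancel_right] at h1
    exact ⟨h1.centre_eq h, h1.axis_eq h⟩
  · rintro ⟨e1, e2⟩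
    have h1 := h.conj x
    rw [e1, e2] at h1
    rw [← mul_inv_eq_iff_eq_mul, h1.eq_of hF h]

theorem comm_iff (hF : Fa G D) (h : Tv s v φ) (h' : Tv t w ψ) :
    s * t = t * s ↔ φ w = 0 ∧ ψ v = 0 := by
  rw [h'.comm_iff' hF, h.fix_iff, h.cf_eq]
  refine and_congr_right fun _ => ⟨fun e => (zm2 _).resolve_right fun e1 => h.nz ?_, fun e => ?_⟩
  · rw [e1, zm2_val1, one_nsmul] at e
    simpa using e
  · rw [e, zm2_val0, zero_nsmul, add_zero]

theorem comm (hF : Fa G D) (h : Tv s v φ) (h' : Tv t w ψ) (e1 : φ w = 0) (e2 : ψ v = 0) :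
    s * t = t * s := (h.comm_iff hF h').2 ⟨e1, e2⟩

theorem axis_ne (hF : Fa G D) (h : Tv s v φ) (h' : Tv u v ψ) (hne : s ≠ u) : φ ≠ ψ :=
  fun e => hne (h.eq_of hF (e ▸ h'))

theorem centre_ne (hF : Fa G D) (h : Tv s v φ) (h' : Tv r w φ) (hne : s ≠ r) : v ≠ w :=
  fun e => hne (h.eq_of hF (e ▸ h'))

/-- product of two transvections with the same centre -/
theorem mul_centre (hF : Fa G D) (h : Tv s v φ) (h' : Tv u v ψ) (hne : s ≠ u) :
    Tv (s * u) v (φ + ψ) where
  ne := h.ne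
  two := h.two
  nz := fun e => h.axis_ne hF h' hne (hom_add_eq_zero.1 e)
  self := by rw [AddMonoidHom.add_apply, h.self, h'.self, add_zero]
  smul := fun x => by
    rw [mul_smul, h'.smul, h.smul, map_add, map_zval, h.self, mul_zero, add_zero,
      AddMonoidHom.add_apply, zval_add h.two]
    abel

/-- product of two transvections with the same axis -/
theorem mul_axis (hF : Fa G D) (h : Tv s v φ) (h' : Tv r w φ) (hne : s ≠ r) :
    Tv (s * r) (v + w) φ where
  ne := fun e => h.centre_ne hF h' hne (by rw [← h'.neg]; exact eq_neg_of_add_eq_zero_left e)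
  two := by rw [add_add_add_comm, h.two, h'.two, add_zero]
  nz := h.nz
  self := by rw [map_add, h.self, h'.self, add_zero]
  smul := fun x => by
    rw [mul_smul, h'.smul, h.smul, map_add, map_zval, h'.self, mul_zero, add_zero, nsmul_add]
    abel

/-- the commutator of a dihedral pair -/
theorem comm8 (hF : Fa G D) (h : Tv s v φ) (h' : Tv t w ψ) (e1 : φ w = 1) (e2 : ψ v = 0) :
    Tv ⁅s, t⁆ v ψ := by
  have h1 := h.conj10 h' e1 e2
  have h2 := h1.mul_axis hF h' fun e => h.ne (add_eq_left.1 (h1.centre_eq (e ▸ h')))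
  rwa [add_right_comm, h'.two, zero_add,
    show s * t * s⁻¹ * t = ⁅s, t⁆ by rw [commutatorElement_def, h'.inv hF]] at h2

/-- the braid relation of a joined pair -/
theorem braid (hF : Fa G D) (h : Tv s v φ) (h' : Tv t w ψ) (e1 : φ w = 1) (e2 : ψ v = 1) :
    s * t * s⁻¹ = t * s * t⁻¹ := by
  have h1 := h.conj11 h' e1 e2
  have h2 := h'.conj11 h e2 e1
  rw [add_comm v, add_comm φ] at h2
  exact h1.eq_of hF h2

/-- unless joined, two transvections generate a `2`-group -/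
theorem pg_closure (hF : Fa G D) (h : Tv s v φ) (h' : Tv t w ψ) (e : ¬ (φ w = 1 ∧ ψ v = 1)) :
    IsPGroup 2 (closure {s, t} : Subgroup G) := by
  have key : ∀ {s t : G} {v w : D} {φ ψ : D →+ ZMod 2}, Tv s v φ → Tv t w ψ → ψ v = 0 →
      IsPGroup 2 (closure {s, t} : Subgroup G) := by
    intro s t v w φ ψ h h' e2
    have hc : s * t * (s * t) = ⁅s, t⁆ := by
      rw [commutatorElement_def, h.inv hF, h'.inv hF, ← mul_assoc]
    refine pg_dih (h.sq hF) (h'.sq hF) (n := 2) ?_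
    rw [show (s * t) ^ 2 ^ 2 = s * t * (s * t) * (s * t * (s * t)) by
      rw [show 2 ^ 2 = 2 * 2 from rfl, pow_mul, pow_two, pow_two], hc]
    rcases zm2 (φ w) with e1 | e1
    · rw [commutatorElement_eq_one_iff_mul_comm.2 (h.comm hF h' e1 e2), mul_one]
    · exact (h.comm8 hF h' e1 e2).sq hF
  rcases zm2 (ψ v) with e2 | e2
  · exact key h h' e2
  · rw [Set.pair_comm]
    exact key h' h ((zm2 _).resolve_right fun e1 => e ⟨e1, e2⟩)

theorem pg_zpowers (hF : Fa G D) (h : Tv t v φ) : IsPGroup 2 (zpowers t) := by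
  have := h.pg_closure hF h (by rw [h.self]; exact fun e => zero_ne_one e.1)
  rwa [Set.pair_eq_singleton, ← zpowers_eq_closure] at this

theorem fx_zpowers (h : Tv t v φ) : fx (ac G D) ⊤ (zpowers t) = φ.ker := by
  ext x
  rw [mem_fx_ac, AddMonoidHom.mem_ker, ← h.fix_iff]
  exact ⟨fun e => e t (mem_zpowers t), fun e g hg =>
    (zpowers_le.2 (show t ∈ MulAction.stabilizer G x from e) hg :)⟩

theorem card_zpowers (hF : Fa G D) (h : Tv t v φ) : #|zpowers t| = 2 := by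
  rw [Nat.card_zpowers]
  exact orderOf_eq_prime (by rw [pow_two, h.sq hF]) h.ne_one

theorem woff [Finite D] (hF : Fa G D) (h : Tv t v φ) : WOff D (zpowers t) where
  ne := by rw [Ne, zpowers_eq_bot]; exact h.ne_one
  ab := by
    rintro _ ⟨i, rfl⟩ _ ⟨j, rfl⟩
    exact zpow_mul_comm t i j
  val := by rw [h.card_zpowers hF, h.fx_zpowers, card_ker_zm2 h.nz]

end Tv

/-- the elements acting as `x ↦ x + φ(x) u` -/
def axg (G : Type) [Group G] [DistribMulAction G D] (φ : D →+ ZMod 2) : Subgroup G where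
  carrier := {g | ∃ u : D, u + u = 0 ∧ φ u = 0 ∧ ∀ x, g • x = x + (φ x).val • u}
  one_mem' := ⟨0, by simp, by simp, by simp⟩
  mul_mem' := by
    rintro a b ⟨u, h1, h2, h3⟩ ⟨w, k1, k2, k3⟩
    refine ⟨u + w, by rw [add_add_add_comm, h1, k1, add_zero], by rw [map_add, h2, k2, add_zero],
      fun x => ?_⟩
    rw [mul_smul, k3, h3, map_add, map_zval, k2, mul_zero, add_zero, nsmul_add]
    abel
  inv_mem' := by
    rintro a ⟨u, h1, h2, h3⟩
    refine ⟨u, h1, h2, fun x => ?_⟩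
    rw [inv_smul_eq_iff, h3, map_add, map_zval, h2, mul_zero, add_zero, add_assoc, zval_two h1,
      add_zero]

/-- the elements acting as `x ↦ x + φ(x) v` -/
def ceg (G : Type) [Group G] [DistribMulAction G D] (v : D) (hv : v + v = 0) : Subgroup G where
  carrier := {g | ∃ φ : D →+ ZMod 2, φ v = 0 ∧ ∀ x, g • x = x + (φ x).val • v}
  one_mem' := ⟨0, by simp, by simp⟩
  mul_mem' := by
    rintro a b ⟨φ, h1, h2⟩ ⟨ψ, k1, k2⟩
    refine ⟨φ + ψ, by rw [AddMonoidHom.add_apply, h1, k1, add_zero], fun x => ?_⟩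
    rw [mul_smul, k2, h2, map_add, map_zval, h1, mul_zero, add_zero, AddMonoidHom.add_apply,
      zval_add hv]
    abel
  inv_mem' := by
    rintro a ⟨φ, h1, h2⟩
    refine ⟨φ, h1, fun x => ?_⟩
    rw [inv_smul_eq_iff, h2, map_add, map_zval, h1, mul_zero, add_zero, add_assoc, zval_two hv,
      add_zero]

theorem Tv.mem_axg {t : G} {v : D} {φ : D →+ ZMod 2} (h : Tv t v φ) : t ∈ axg G φ :=
  ⟨v, h.two, h.self, h.smul⟩

theorem Tv.mem_ceg {t : G} {v : D} {φ : D →+ ZMod 2} (h : Tv t v φ) : t ∈ ceg G v h.two :=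
  ⟨φ, h.self, h.smul⟩

theorem tv_of_axg {φ : D →+ ZMod 2} (hF : Fa G D) {g : G} (hg : g ∈ axg G φ) (h1 : g ≠ 1) :
    ∃ u, Tv g u φ := by
  obtain ⟨u, a, b, c⟩ := hg
  refine ⟨u, ?_, a, ?_, b, c⟩
  · rintro rfl
    exact h1 (hF.faith _ fun x => by rw [c, nsmul_zero, add_zero])
  · rintro rfl
    exact h1 (hF.faith _ fun x => by rw [c]; simp)

theorem tv_of_ceg {v : D} {hv : v + v = 0} (hF : Fa G D) {g : G} (hg : g ∈ ceg G v hv)
    (h1 : g ≠ 1) : ∃ φ, Tv g v φ := by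
  obtain ⟨φ, b, c⟩ := hg
  refine ⟨φ, ?_, hv, ?_, b, c⟩
  · rintro rfl
    exact h1 (hF.faith _ fun x => by rw [c, nsmul_zero, add_zero])
  · rintro rfl
    exact h1 (hF.faith _ fun x => by rw [c]; simp)

theorem axg_sq {φ : D →+ ZMod 2} (hF : Fa G D) {g : G} (hg : g ∈ axg G φ) : g * g = 1 := by
  by_cases h1 : g = 1
  · rw [h1, mul_one]
  · obtain ⟨u, h⟩ := tv_of_axg hF hg h1
    exact h.sq hF

theorem ceg_sq {v : D} {hv : v + v = 0} (hF : Fa G D) {g : G} (hg : g ∈ ceg G v hv) :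
    g * g = 1 := by
  by_cases h1 : g = 1
  · rw [h1, mul_one]
  · obtain ⟨u, h⟩ := tv_of_ceg hF hg h1
    exact h.sq hF

theorem pg_of_sq {G : Type*} [Group G] {H : Subgroup G} (h : ∀ g ∈ H, g * g = 1) : IsPGroup 2 H :=
  fun g => ⟨1, Subtype.ext (by simpa [pow_two] using h g g.2)⟩

theorem comm_of_sq {G : Type*} [Group G] {H : Subgroup G} (h : ∀ g ∈ H, g * g = 1) :
    ∀ a ∈ H, ∀ b ∈ H, a * b = b * a := fun a ha b hb => by
  have := inv_eq_of_mul_eq_one_right (h _ (mul_mem ha hb))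
  rw [mul_inv_rev, inv_eq_of_mul_eq_one_right (h a ha), inv_eq_of_mul_eq_one_right (h b hb)] at this
  exact this.symm

theorem pg_axg {φ : D →+ ZMod 2} (hF : Fa G D) : IsPGroup 2 (axg G φ) :=
  pg_of_sq fun _ => axg_sq hF

theorem pg_ceg {v : D} {hv : v + v = 0} (hF : Fa G D) : IsPGroup 2 (ceg G v hv) :=
  pg_of_sq fun _ => ceg_sq hF

end

end Cfsg.Agent.Ch
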