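import Cfsg.Agent.Ch.T1

/-! The instance of `TVC`. -/

set_option autoImplicit false

namespace Cfsg.Agent.Ch

open Subgroup Cfsg.Agent.H1 Cfsg.Agent.L Cfsg.Agent.FT
open scoped Pointwise commutatorElement

section
variable {G D : Type} [Group G] [AddCommGroup D] [DistribMulAction G D]

theorem card_of_relIndex_two [Finite G] {A₀ A : Subgroup G} (h : A₀ ≤ A) (h2 : A₀.relIndex A = 2) :
    #|A| = 2 * #|A₀| := by
  have := (A₀.subgroupOf A).index_mul_card
  rw [Nat.card_congr (subgroupOfEquivOfLe h).toEquiv] at this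
  rw [← this, ← h2]
  rfl

/-- an involution with fixed space of index at most two is a transvection -/
theorem tv_of_card [Finite D] (hF : Fa G D) {t : G} (h1 : t ≠ 1) (h2 : t * t = 1)
    (hc : Nat.card D ≤ 2 * Nat.card (fx (ac G D) ⊤ (zpowers t))) :
    ∃ (v : D) (φ : D →+ ZMod 2), Tv t v φ := by
  classical
  set K := fx (ac G D) ⊤ (zpowers t) with hK
  have hm : ∀ x, x ∈ K ↔ t • x = x := fun x =>
    ⟨fun e => mem_fx_ac.1 e t (mem_zpowers t), fun e => mem_fx_ac.2 fun g hg =>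
      (zpowers_le.2 (show t ∈ MulAction.stabilizer G x from e) hg :)⟩
  have hi : K.index = 2 := by
    have e := K.index_mul_card
    have hp : 0 < Nat.card K := Nat.card_pos
    have e1 : K.index ≠ 1 := fun e1 => h1 (hF.faith t fun x => (hm x).1 (by
      rw [AddSubgroup.index_eq_one.1 e1]; trivial))
    have e0 : K.index ≠ 0 := AddSubgroup.index_ne_zero_of_finite
    have e2 : K.index ≤ 2 := by
      rw [← e] at hc
      exact Nat.le_of_mul_le_mul_right hc hp
    omega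
  have hadd : ∀ x y, x + y ∈ K ↔ (x ∈ K ↔ y ∈ K) := fun x y =>
    AddSubgroup.add_mem_iff_of_index_two hi
  obtain ⟨x0, hx0⟩ : ∃ x, x ∉ K := by
    by_contra hc
    push Not at hc
    exact h1 (hF.faith t fun x => (hm x).1 (hc x))
  let φ : D →+ ZMod 2 := AddMonoidHom.mk' (fun x => if x ∈ K then 0 else 1) fun x y => by
    by_cases hx : x ∈ K <;> by_cases hy : y ∈ K <;> simp [hadd, hx, hy, zm2_add_self]
  have hφ : ∀ x, φ x = if x ∈ K then 0 else 1 := fun x => rfl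
  have tt : ∀ x : D, t • t • x = x := fun x => by rw [← mul_smul, h2, one_smul]
  have hv : ∀ x, x ∉ K → t • x - x = t • x0 - x0 := fun x hx => by
    have : x + -x0 ∈ K := (hadd _ _).2 (by simp [hx, hx0])
    rw [hm, smul_add, smul_neg] at this
    rw [← sub_eq_zero, ← sub_eq_zero.2 this]
    abel
  have two : t • x0 - x0 + (t • x0 - x0) = 0 := by
    have : x0 + x0 ∈ K := (hadd _ _).2 Iff.rfl
    rw [hm, smul_add] at this
    rw [sub_add_sub_comm, this, sub_self]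
  refine ⟨t • x0 - x0, φ, fun e => hx0 ((hm _).2 (sub_eq_zero.1 e)), two, fun e => ?_, ?_,
    fun x => ?_⟩
  · have := hφ x0
    rw [e, if_neg hx0] at this
    exact zero_ne_one this
  · rw [hφ, if_pos]
    rw [hm, smul_sub, tt, ← neg_sub]
    exact neg_eq_of_add_eq_zero_left two
  · by_cases hx : x ∈ K
    · rw [hφ, if_pos hx, (hm x).1 hx, zm2_val0, zero_nsmul, add_zero]
    · rw [hφ, if_neg hx, zm2_val1, one_nsmul, ← hv x hx, add_sub_cancel]

theorem tvc_woff [Finite G] [Finite D] {B : Subgroup G} (hF : Fa G D) (hp : IsPGroup 2 B)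
    (hB : WOff D B) : (∃ A ≤ B, Mem D A) ∨ ∃ t ∈ B, ∃ (v : D) (φ : D →+ ZMod 2), Tv t v φ := by
  obtain ⟨A, hA, hmin⟩ := exists_minimal_le_of_wellFoundedLT
    (fun A : Subgroup G => A ≠ ⊥ ∧ Nat.card D ≤ #|A| * Nat.card (fx (ac G D) ⊤ A)) B ⟨hB.ne, hB.val⟩
  by_cases h2 : #|A| = 2
  · right
    obtain ⟨t, ht, h1⟩ : ∃ t ∈ A, t ≠ 1 := by
      by_contra hc
      push Not at hc
      exact hmin.1.1 ((eq_bot_iff_forall A).2 hc)
    have h3 : t * t = 1 := by
      have := pow_card_eq_one' (x := (⟨t, ht⟩ : A))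
      rw [h2, pow_two] at this
      exact congrArg Subtype.val this
    refine ⟨t, hA ht, tv_of_card hF h1 h3 (hmin.1.2.trans ?_)⟩
    rw [h2]
    exact Nat.mul_le_mul_left _ (AddSubgroup.card_le_of_le (fx_ac_anti (zpowers_le.2 ht)))
  · left
    refine ⟨A, hA, ⟨hmin.1.1, fun a ha b hb => hB.ab a (hA ha) b (hA hb), hmin.1.2⟩,
      hp.to_le hA, fun A₀ h0 hi => fx_ac_le_of_card h0 ?_⟩
    have hc := card_of_relIndex_two h0 hi
    have hp0 : 0 < #|A₀| := Nat.card_pos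
    by_contra hlt
    push Not at hlt
    have hb : A₀ ≠ ⊥ := by
      rintro rfl
      rw [card_bot] at hc
      exact h2 hc
    have := hmin.2 (y := A₀) ⟨hb, hmin.1.2.trans (by
      rw [hc, mul_comm 2, mul_assoc]; exact Nat.mul_le_mul_left _ hlt)⟩ h0
    have := card_le_of_le this
    omega

theorem tvc_ovr [Finite G] [Finite D] {B : Subgroup G} (hp : IsPGroup 2 B)
    (hab : ∀ a ∈ B, ∀ b ∈ B, a * b = b * a)
    (hB : Nat.card D < #|B| * Nat.card (fx (ac G D) ⊤ B)) : ∃ A ≤ B, Mem D A := by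
  obtain ⟨A, hA, hmin⟩ := exists_minimal_le_of_wellFoundedLT
    (fun A : Subgroup G => Nat.card D < #|A| * Nat.card (fx (ac G D) ⊤ A)) B hB
  refine ⟨A, hA, ⟨?_, fun a ha b hb => hab a (hA ha) b (hA hb), hmin.1.le⟩,
      hp.to_le hA, fun A₀ h0 hi => fx_ac_le_of_card h0 ?_⟩
  · rintro rfl
    have := hmin.1
    beta_reduce at this
    rw [card_bot, fx_ac_bot, one_mul, AddSubgroup.card_top] at this
    exact lt_irrefl _ this
  have hc := card_of_relIndex_two h0 hi
  have hp0 : 0 < #|A₀| := Nat.card_pos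
  by_contra hlt
  push Not at hlt
  have := hmin.2 (y := A₀) (hmin.1.trans_le (by
    rw [hc, mul_comm 2, mul_assoc]; exact Nat.mul_le_mul_left _ hlt)) h0
  have := card_le_of_le this
  omega

theorem fx_of_le_axg {A : Subgroup G} {φ : D →+ ZMod 2} (h : A ≤ axg G φ) :
    φ.ker ≤ fx (ac G D) ⊤ A := fun x hx => mem_fx_ac.2 fun g hg => by
  obtain ⟨u, -, -, e⟩ := h hg
  rw [e, show φ x = 0 from hx, zm2_val0, zero_nsmul, add_zero]

theorem tvc_mate [Finite G] [Finite D] {s r : G} {v w : D} {φ : D →+ ZMod 2} (hF : Fa G D)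
    (hs : Tv s v φ) (hr : Tv r w φ) (hne : s ≠ r) : Mem D (closure {s, r}) := by
  have hle : closure {s, r} ≤ axg G φ := by
    rw [closure_le]
    rintro x (rfl | rfl)
    exacts [hs.mem_axg, hr.mem_axg]
  have ms : s ∈ closure {s, r} := subset_closure (by simp)
  have mr : r ∈ closure {s, r} := subset_closure (by simp)
  refine ⟨⟨fun e => hs.ne_one (by rw [e] at ms; exact ms),
    comm_of_sq fun g hg => axg_sq hF (hle hg), ?_⟩, (pg_axg hF).to_le hle, fun A₀ h0 hi => ?_⟩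
  · refine (hs.woff hF).val.trans (Nat.mul_le_mul (card_le_of_le (zpowers_le.2 ms)) ?_)
    rw [hs.fx_zpowers]
    exact AddSubgroup.card_le_of_le (fx_of_le_axg hle)
  · have key : ∀ {t : G} {u : D}, Tv t u φ → t ∈ A₀ →
        fx (ac G D) ⊤ A₀ ≤ fx (ac G D) ⊤ (closure {s, r}) := fun ht hm =>
      (fx_ac_anti (zpowers_le.2 hm)).trans (ht.fx_zpowers.le.trans (fx_of_le_axg hle))
    by_cases h1 : s ∈ A₀
    · exact key hs h1
    by_cases h2 : r ∈ A₀
    · exact key hr h2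
    refine key (hs.mul_axis hF hr hne) ?_
    have := (mul_mem_iff_of_index_two (H := A₀.subgroupOf (closure {s, r})) hi
      (a := ⟨s, ms⟩) (b := ⟨r, mr⟩)).2 (by simp [mem_subgroupOf, h1, h2])
    exact this

theorem tvc_part [Finite G] {s : G} {v : D} {φ : D →+ ZMod 2} (hF : Fa G D) (hs : Tv s v φ) :
    ∃ (r : G) (w : D) (ψ : D →+ ZMod 2), Tv r w ψ ∧ φ w = 1 ∧ ψ v = 1 := by
  by_contra hc
  have : s ∈ pCore 2 G := H2.baer_mem_pCore fun g =>
    hs.pg_closure hF (hs.conj g) fun e => hc ⟨_, _, _, hs.conj g, e⟩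
  rw [hF.core _ inferInstance (pCore_isPGroup 2 G)] at this
  exact hs.ne_one this

theorem tvc_share [Finite G] {s u : G} {v : D} {φ ψ : D →+ ZMod 2} (hF : Fa G D) (hs : Tv s v φ)
    (hu : Tv u v ψ) (hne : s ≠ u) :
    ∃ (u' r : G) (w : D) (χ : D →+ ZMod 2), (u' = u ∧ χ = ψ ∨ u' = s * u ∧ χ = φ + ψ) ∧
      Tv u' v χ ∧ Tv r w χ ∧ r ≠ u' ∧ r * s * r⁻¹ = s * u' := by
  obtain ⟨r0, v0, φ0, h0, e1, e2⟩ := tvc_part hF hs
  have key : ∀ {u' : G} {χ : D →+ ZMod 2}, Tv u' v χ → χ v0 = 0 →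
      ∃ (r : G) (w : D), Tv r w χ ∧ r ≠ u' ∧ r * s * r⁻¹ = s * u' := by
    intro u' χ h' e3
    have hr := h0.conj10 h' e2 e3
    refine ⟨_, _, hr, fun e => h0.ne (add_eq_left.1 (hr.centre_eq (e ▸ h'))), ?_⟩
    have hn : s ≠ u' := fun e => by
      subst e
      rw [← hs.axis_eq h', e1] at e3
      exact one_ne_zero e3
    exact (hr.conj01 hs h'.self (by rw [map_add, hs.self, e1, zero_add])).eq_of hF
      (hs.mul_centre hF h' hn)
  rcases zm2 (ψ v0) with e3 | e3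
  · obtain ⟨r, w, a, b, c⟩ := key hu e3
    exact ⟨u, r, w, ψ, Or.inl ⟨rfl, rfl⟩, hu, a, b, c⟩
  · have h' := hs.mul_centre hF hu hne
    obtain ⟨r, w, a, b, c⟩ := key h' (by rw [AddMonoidHom.add_apply, e1, e3, zm2_add_self])
    exact ⟨_, r, w, _, Or.inr ⟨rfl, rfl⟩, h', a, b, c⟩

end

instance instTVC : TVC where
  woff := tvc_woff
  ovr := fun _ => tvc_ovr
  mate := tvc_mate
  part := tvc_part
  share := tvc_share

end Cfsg.Agent.Ch
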