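import Cfsg.Agent.Ch.T2

/-! The geometry of transvections when the pairing is symmetric. -/

set_option autoImplicit false

namespace Cfsg.Agent.Ch.U9

open Subgroup Cfsg.Agent.H1 Cfsg.Agent.L Cfsg.Agent.FT
open scoped Pointwise commutatorElement

/-- a transvection with its data -/
structure Tr (G D : Type) [Group G] [AddCommGroup D] [DistribMulAction G D] where
  t : G
  v : D
  φ : D →+ ZMod 2
  h : Tv t v φ

variable {G D : Type} [Group G] [AddCommGroup D] [DistribMulAction G D]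

theorem Tr.ext_t {τ σ : Tr G D} (e : τ.t = σ.t) : τ = σ := by
  obtain ⟨t, v, φ, h⟩ := τ
  obtain ⟨t', v', φ', h'⟩ := σ
  dsimp only at e
  subst e
  obtain rfl := h.centre_eq h'
  obtain rfl := h.axis_eq h'
  rfl

instance actTr : MulAction G (Tr G D) where
  smul x τ := ⟨x * τ.t * x⁻¹, x • τ.v, cf x τ.φ, τ.h.conj x⟩
  one_smul τ := Tr.ext_t (show 1 * τ.t * 1⁻¹ = τ.t by group)
  mul_smul x y τ := Tr.ext_t (show x * y * τ.t * (x * y)⁻¹ = x * (y * τ.t * y⁻¹) * x⁻¹ by group)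

theorem smul_t (x : G) (τ : Tr G D) : (x • τ).t = x * τ.t * x⁻¹ := rfl
theorem smul_v (x : G) (τ : Tr G D) : (x • τ).v = x • τ.v := rfl
theorem smul_φ (x : G) (τ : Tr G D) (d : D) : (x • τ).φ (x • d) = τ.φ d := cf_smul x τ.φ d

/-- the pairing -/
def bb (τ σ : Tr G D) : ZMod 2 := τ.φ σ.v

theorem bb_self (τ : Tr G D) : bb τ τ = 0 := τ.h.self

theorem bb_smul (x : G) (τ σ : Tr G D) : bb (x • τ) (x • σ) = bb τ σ := smul_φ x τ σ.v

theorem tr_v (σ τ : Tr G D) : (σ.t • τ).v = τ.v + (bb σ τ).val • σ.v := σ.h.smul τ.v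

theorem tr_φ (σ τ : Tr G D) (d : D) : (σ.t • τ).φ d = τ.φ d + bb τ σ * σ.φ d := by
  change cf σ.t τ.φ d = _
  rw [σ.h.cf_eq, AddMonoidHom.add_apply, AddMonoidHom.nsmul_apply, zm2_nsmul]
  rfl

theorem bb_tr (ρ σ τ : Tr G D) : bb ρ (σ.t • τ) = bb ρ τ + bb σ τ * bb ρ σ := by
  unfold bb
  rw [tr_v, map_add, map_zval]
  rfl

theorem fix_smul {X : Type} [MulAction G X] (x : G) {τ : Tr G D} {a : X} (h : τ.t • a = a) :
    (x • τ).t • x • a = x • a := by
  rw [smul_t, mul_smul, mul_smul, inv_smul_smul, h]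

theorem pg_closure_comm {G : Type*} [Group G] {S : Set G} (h1 : ∀ a ∈ S, a * a = 1)
    (h2 : ∀ a ∈ S, ∀ b ∈ S, a * b = b * a) : IsPGroup 2 (closure S) := by
  have hc : ∀ x ∈ closure S, ∀ y ∈ closure S, x * y = y * x := fun x hx y hy =>
    (closure_le_centralizer_centralizer S hx y
      ((closure_le (centralizer S)).2 (fun a ha b hb => h2 b hb a ha) hy)).symm
  refine pg_of_sq fun g hg => ?_
  induction hg using closure_induction with
  | mem x hx => exact h1 x hx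
  | one => exact mul_one 1
  | mul x y hx hy ex ey =>
    rw [mul_assoc, ← mul_assoc y, hc y hy x hx, mul_assoc, ey, mul_one, ex]
  | inv x _ ex => rw [← mul_inv_rev, ex, inv_one]

/-- the stabiliser of a chain `D ≥ V ≥ Z ≥ 0` is trivial -/
theorem chain_one (hF : Fa G D) {V Z : AddSubgroup D} (hV : ∀ g : G, ∀ x ∈ V, g • x ∈ V)
    (hZ : ∀ g : G, ∀ x ∈ Z, g • x ∈ Z) (h2 : ∀ x ∈ V, x + x = 0) {g : G}
    (a1 : ∀ x, g • x - x ∈ V) (a2 : ∀ x ∈ V, g • x - x ∈ Z) (a3 : ∀ x ∈ Z, g • x = x) : g = 1 := by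
  let K : Subgroup G :=
    { carrier := {g | (∀ x, g • x - x ∈ V) ∧ (∀ x ∈ V, g • x - x ∈ Z) ∧ ∀ x ∈ Z, g • x = x}
      one_mem' := ⟨by simp, by simp, by simp⟩
      mul_mem' := by
        rintro a b ⟨p1, p2, p3⟩ ⟨q1, q2, q3⟩
        have e : ∀ x : D, (a * b) • x - x = a • (b • x - x) + (a • x - x) := fun x => by
          rw [mul_smul, smul_sub]; abel
        exact ⟨fun x => e x ▸ add_mem (hV _ _ (q1 x)) (p1 x),
          fun x hx => e x ▸ add_mem (hZ _ _ (q2 x hx)) (p2 x hx),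
          fun x hx => by rw [mul_smul, q3 x hx, p3 x hx]⟩
      inv_mem' := by
        rintro a ⟨p1, p2, p3⟩
        have e : ∀ x : D, a⁻¹ • x - x = -(a⁻¹ • (a • x - x)) := fun x => by
          rw [smul_sub, inv_smul_smul, neg_sub]
        exact ⟨fun x => e x ▸ neg_mem (hV _ _ (p1 x)),
          fun x hx => e x ▸ neg_mem (hZ _ _ (p2 x hx)),
          fun x hx => by rw [inv_smul_eq_iff, p3 x hx]⟩ }
  have hn : K.Normal := ⟨by
    rintro a ⟨p1, p2, p3⟩ y
    have e : ∀ x : D, (y * a * y⁻¹) • x - x = y • (a • y⁻¹ • x - y⁻¹ • x) := fun x => by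
      rw [mul_smul, mul_smul, smul_sub, smul_inv_smul]
    exact ⟨fun x => e x ▸ hV _ _ (p1 _), fun x hx => e x ▸ hZ _ _ (p2 _ (hV _ _ hx)),
      fun x hx => by rw [mul_smul, mul_smul, p3 _ (hZ _ _ hx), smul_inv_smul]⟩⟩
  have hp : IsPGroup 2 K := by
    rintro ⟨a, p1, p2, p3⟩
    refine ⟨2, Subtype.ext (hF.faith _ fun x => ?_)⟩
    change (a ^ 2 ^ 2) • x = x
    have e : ∀ x : D, (a * a) • x = x + (a • (a • x - x) - (a • x - x)) := fun x => by
      rw [mul_smul, ← sub_eq_zero, ← h2 _ (p1 x), smul_sub]; abel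
    have z := p2 _ (p1 x)
    have z' := sub_mem (hV a _ (p1 x)) (p1 x)
    rw [show a ^ 2 ^ 2 = a * a * (a * a) by
      rw [show 2 ^ 2 = 2 * 2 from rfl, pow_mul, pow_two, pow_two], mul_smul, e x, smul_add, e x,
      mul_smul, p3 _ z, p3 _ z, add_assoc, h2 _ z', add_zero]
  have : g ∈ K := ⟨a1, a2, a3⟩
  rwa [hF.core K hn hp] at this

/-- the pairing is symmetric -/
def Sm (G D : Type) [Group G] [AddCommGroup D] [DistribMulAction G D] : Prop :=
  ∀ τ σ : Tr G D, bb τ σ = bb σ τ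

theorem sm_of [Finite G] [Finite D] (hF : Fa G D) (hM : ∀ A : Subgroup G, ¬ Mem D A) : Sm G D := by
  have key : ∀ τ σ : Tr G D, bb τ σ = 1 → bb σ τ = 1 := fun τ σ e1 =>
    (zm2 _).resolve_left fun e2 => by
      have h := τ.h.comm8 hF σ.h e1 e2
      refine hM _ (tvc_mate hF h σ.h fun e => ?_)
      have := h.centre_eq (e ▸ σ.h)
      unfold bb at e1
      rw [← this, τ.h.self] at e1
      exact zero_ne_one e1
  intro τ σ
  rcases zm2 (bb τ σ) with e | e
  · rcases zm2 (bb σ τ) with e' | e'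
    · rw [e, e']
    · rw [key _ _ e', e']
  · rw [key _ _ e, e]

section
variable (hF : Fa G D) (hS : Sm G D)
include hF hS

theorem comm_of_bb {τ σ : Tr G D} (e : bb τ σ = 0) : τ.t * σ.t = σ.t * τ.t :=
  τ.h.comm hF σ.h e ((hS σ τ).trans e)

theorem tr_fix {τ σ : Tr G D} (e : bb τ σ = 0) : τ.t • σ = σ :=
  Tr.ext_t (by rw [smul_t, comm_of_bb hF hS e, mul_inv_cancel_right])

theorem tr_braid {τ σ : Tr G D} (e : bb τ σ = 1) : (τ.t * σ.t) • τ = σ := by
  refine Tr.ext_t ?_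
  have := τ.h.braid hF σ.h e ((hS σ τ).trans e)
  rw [smul_t, show τ.t * σ.t * τ.t * (τ.t * σ.t)⁻¹ = τ.t * (σ.t * τ.t * σ.t⁻¹) * τ.t⁻¹ by group,
    ← this, τ.h.inv hF, ← mul_assoc, ← mul_assoc, τ.h.sq hF, one_mul, mul_assoc, τ.h.sq hF, mul_one]

theorem bb_of_pg {τ σ : Tr G D} {P : Subgroup G} (hP : IsPGroup 2 P) (h1 : τ.t ∈ P)
    (h2 : σ.t ∈ P) : bb τ σ = 0 := by
  refine (zm2 _).resolve_right fun e => ?_
  have hb := τ.h.braid hF σ.h e ((hS σ τ).trans e)
  rw [τ.h.inv hF, σ.h.inv hF] at hb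
  have h3 : (τ.t * σ.t) ^ 3 = 1 := by
    rw [show (τ.t * σ.t) ^ 3 = τ.t * σ.t * τ.t * (σ.t * τ.t * σ.t) by
      rw [pow_succ, pow_two]; group, ← hb,
      show τ.t * σ.t * τ.t * (τ.t * σ.t * τ.t) = τ.t * (σ.t * (τ.t * τ.t) * σ.t) * τ.t by group,
      τ.h.sq hF, mul_one, σ.h.sq hF, mul_one, τ.h.sq hF]
  obtain ⟨n, hn⟩ := hP ⟨_, mul_mem h1 h2⟩
  have hn' : (τ.t * σ.t) ^ 2 ^ n = 1 := congrArg Subtype.val hn
  have h4 := pow_gcd_eq_one.2 ⟨h3, hn'⟩
  rw [Nat.Coprime.gcd_eq_one (Nat.Coprime.pow_right n (by norm_num)), pow_one,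
    mul_eq_one_iff_inv_eq, τ.h.inv hF] at h4
  rw [Tr.ext_t h4, bb_self] at e
  exact zero_ne_one e

theorem eq_of_twin {τ σ : Tr G D} (e : bb τ σ = 0) (h : ∀ u : Tr G D, bb u τ = bb u σ) :
    τ = σ := by
  let V : AddSubgroup D := AddSubgroup.closure (Set.range (Tr.v : Tr G D → D))
  let Z : AddSubgroup D := ⨅ u : Tr G D, u.φ.ker
  have mZ : ∀ x, x ∈ Z ↔ ∀ u : Tr G D, u.φ x = 0 := fun x => by
    simp [Z, AddSubgroup.mem_iInf]
  have mV : ∀ u : Tr G D, u.v ∈ V := fun u => AddSubgroup.subset_closure ⟨u, rfl⟩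
  have act : ∀ x, (τ.t * σ.t) • x - x = (σ.φ x).val • σ.v + (τ.φ x).val • τ.v := fun x => by
    rw [mul_smul, σ.h.smul, τ.h.smul, map_add, map_zval, show τ.φ σ.v = 0 from e, mul_zero,
      add_zero]
    abel
  have : τ.t * σ.t = 1 := by
    refine chain_one hF (V := V) (Z := Z) (fun g x hx => ?_) (fun g x hx => ?_) (fun x hx => ?_)
      (fun x => ?_) (fun x hx => ?_) (fun x hx => ?_)
    · induction hx using AddSubgroup.closure_induction with
      | mem x hx => obtain ⟨u, rfl⟩ := hx; exact mV (g • u)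
      | zero => rw [smul_zero]; exact zero_mem _
      | add x y _ _ ex ey => rw [smul_add]; exact add_mem ex ey
      | neg x _ ex => rw [smul_neg]; exact neg_mem ex
    · refine (mZ _).2 fun u => ?_
      rw [← smul_inv_smul g u, smul_φ]
      exact (mZ _).1 hx _
    · induction hx using AddSubgroup.closure_induction with
      | mem x hx => obtain ⟨u, rfl⟩ := hx; exact u.h.two
      | zero => exact add_zero 0
      | add x y _ _ ex ey => rw [add_add_add_comm, ex, ey, add_zero]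
      | neg x _ ex => rw [← neg_add, ex, neg_zero]
    · rw [act]
      exact add_mem (nsmul_mem (mV σ) _) (nsmul_mem (mV τ) _)
    · have e1 : σ.φ x = τ.φ x := by
        induction hx using AddSubgroup.closure_induction with
        | mem x hx =>
          obtain ⟨u, rfl⟩ := hx
          exact (hS σ u).trans ((h u).symm.trans (hS u τ))
        | zero => rw [map_zero, map_zero]
        | add x y _ _ ex ey => rw [map_add, map_add, ex, ey]
        | neg x _ ex => rw [map_neg, map_neg, ex]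
      rw [act, e1, ← nsmul_add]
      refine nsmul_mem ((mZ _).2 fun u => ?_) _
      rw [map_add]
      change bb u σ + bb u τ = 0
      rw [h u, zm2_add_self]
    · rw [mul_smul, σ.h.fix ((mZ _).1 hx σ), τ.h.fix ((mZ _).1 hx τ)]
  rw [mul_eq_one_iff_inv_eq, τ.h.inv hF] at this
  exact Tr.ext_t this

omit hS in
theorem exists_nb [Finite G] (τ : Tr G D) : ∃ u : Tr G D, bb u τ = 1 := by
  obtain ⟨r, w, ψ, h, -, e⟩ := tvc_part hF τ.h
  exact ⟨⟨r, w, ψ, h⟩, e⟩

/-- a neighbour of `τ` that commutes with `σ` -/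
theorem exists_N [Finite G] {τ σ : Tr G D} (e : bb τ σ = 0) (hne : τ ≠ σ) :
    ∃ u : Tr G D, bb u τ = 1 ∧ bb u σ = 0 := by
  by_contra hc
  push Not at hc
  have h1 : ∀ u : Tr G D, bb u τ = 1 → bb u σ = 1 := fun u hu => zm2_ne_zero.1 (hc u hu)
  refine hne (eq_of_twin hF hS e fun w => ?_)
  rcases zm2 (bb w τ) with e1 | e1
  · rw [e1]
    refine ((zm2 _).resolve_right fun e2 => ?_).symm
    have key : ∀ u : Tr G D, bb u τ = 1 → bb u w = 1 → False := fun u a b => by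
      have := h1 (u.t • w) (by rw [hS, bb_tr, hS τ, hS τ, e1, a, b]; decide)
      rw [hS, bb_tr, hS σ, hS σ, e2, h1 u a, b] at this
      exact absurd this (by decide)
    obtain ⟨u, hu⟩ := exists_nb hF τ
    rcases zm2 (bb u w) with e3 | e3
    · refine key (σ.t • u) ?_ ?_
      · rw [hS, bb_tr, e, hS τ, hu, mul_zero, add_zero]
      · rw [hS, bb_tr, e2, hS w, e3, hS σ, h1 u hu]; decide
    · exact key u hu e3
  · rw [e1, h1 w e1]

end

end Cfsg.Agent.Ch.U9
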