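import Cfsg.Agent.Ch.U1

/-! Equivariant cocycles on the commuting graph of transvections. -/

set_option autoImplicit false

namespace Cfsg.Agent.Ch.U9

open Subgroup Cfsg.Agent.H1 Cfsg.Agent.L Cfsg.Agent.FT
open scoped Pointwise commutatorElement

variable {G D : Type} [Group G] [AddCommGroup D] [DistribMulAction G D]

/-- an equivariant cocycle on commuting pairs -/
structure Cy (c : Tr G D → Tr G D → D) : Prop where
  eqv : ∀ (x : G) (τ σ : Tr G D), bb τ σ = 0 → c (x • τ) (x • σ) = x • c τ σ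
  coc : ∀ τ σ ρ : Tr G D, bb τ σ = 0 → bb σ ρ = 0 → bb τ ρ = 0 → c τ σ + c σ ρ = c τ ρ

namespace Cy
variable {c : Tr G D → Tr G D → D} (hF : Fa G D) (hS : Sm G D) (hc : Cy c)

include hc in
theorem self (τ : Tr G D) : c τ τ = 0 :=
  add_eq_left.1 (hc.coc τ τ τ (bb_self τ) (bb_self τ) (bb_self τ))

include hS hc in
theorem anti {τ σ : Tr G D} (e : bb τ σ = 0) : c σ τ = -c τ σ := by
  rw [eq_neg_iff_add_eq_zero, hc.coc σ τ σ ((hS _ _).trans e) e (bb_self σ), hc.self]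

include hF hS hc

theorem fix {τ σ ρ : Tr G D} (e : bb τ σ = 0) (e1 : bb ρ τ = 0) (e2 : bb ρ σ = 0) :
    ρ.φ (c τ σ) = 0 := by
  rw [← ρ.h.fix_iff, ← hc.eqv _ _ _ e, tr_fix hF hS e1, tr_fix hF hS e2]

theorem indep_u {τ σ u u' : Tr G D} (e : bb τ σ = 0) (a1 : bb u τ = 1) (a2 : bb u σ = 0)
    (b1 : bb u' τ = 1) (b2 : bb u' σ = 0) : u.φ (c τ σ) = u'.φ (c τ σ) := by
  have key : ∀ u' : Tr G D, bb u' τ = 1 → bb u' σ = 0 → bb u u' = 1 →
      u.φ (c τ σ) = u'.φ (c τ σ) := fun u' b1 b2 b3 => by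
    have := hc.fix hF hS (ρ := u.t • u') e (by rw [hS, bb_tr, hS τ, hS τ, a1, b1, b3]; decide)
      (by rw [hS, bb_tr, hS σ, hS σ, a2, b2, b3]; decide)
    rw [tr_φ, hS u', b3, one_mul] at this
    rw [← add_zero (u.φ _), ← this, add_comm (u'.φ _), ← add_assoc, zm2_add_self, zero_add]
  rcases zm2 (bb u u') with e1 | e1
  · rw [key (τ.t • u') (by rw [hS, bb_tr, bb_self, hS τ, b1]; decide)
      (by rw [hS, bb_tr, hS σ, hS σ, b2, e]; simp) (by rw [bb_tr, e1, hS τ, b1, a1]; decide),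
      tr_φ, hc.fix hF hS e (bb_self τ) e, mul_zero, add_zero]
  · exact key u' b1 b2 e1

theorem indep_j {τ σ σ' u u' : Tr G D} (e : bb τ σ = 0) (e' : bb τ σ' = 0) (j : bb σ σ' = 1)
    (a1 : bb u τ = 1) (a2 : bb u σ = 0) (b1 : bb u' τ = 1) (b2 : bb u' σ' = 0) :
    u.φ (c τ σ) = u'.φ (c τ σ') := by
  have h1 : (σ.t * σ'.t) • τ = τ := by
    rw [mul_smul, tr_fix hF hS ((hS _ _).trans e'), tr_fix hF hS ((hS _ _).trans e)]
  have h2 := tr_braid hF hS j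
  rw [← smul_φ (σ.t * σ'.t), ← hc.eqv _ _ _ e, h1, h2]
  refine hc.indep_u hF hS e' ?_ ?_ b1 b2
  · rw [← a1, ← bb_smul (σ.t * σ'.t) u τ, h1]
  · rw [← a2, ← bb_smul (σ.t * σ'.t) u σ, h2]

theorem indep_s [Finite G] {τ σ σ' u u' : Tr G D} (e : bb τ σ = 0) (e' : bb τ σ' = 0)
    (a1 : bb u τ = 1) (a2 : bb u σ = 0) (b1 : bb u' τ = 1) (b2 : bb u' σ' = 0) :
    u.φ (c τ σ) = u'.φ (c τ σ') := by
  rcases zm2 (bb σ σ') with j | j
  swap
  · exact hc.indep_j hF hS e e' j a1 a2 b1 b2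
  have com : ∀ w : Tr G D, bb w σ = 0 → bb w σ' = 0 → w.φ (c τ σ) = w.φ (c τ σ') :=
    fun w w1 w2 => by rw [← hc.coc τ σ σ' e j e', map_add, hc.fix hF hS j w1 w2, add_zero]
  rcases zm2 (bb u σ') with a3 | a3
  · rw [com u a2 a3]
    exact hc.indep_u hF hS e' a1 a3 b1 b2
  rcases zm2 (bb u' σ) with b3 | b3
  · rw [← com u' b3 b2]
    exact hc.indep_u hF hS e a1 a2 b1 b3
  have key : ∀ w : Tr G D, bb w τ = 1 → bb w σ' = 0 → bb w σ = 1 → bb u w = 1 →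
      u.φ (c τ σ) = u'.φ (c τ σ') := fun w w1 w2 w3 w4 => by
    have s1 : bb τ (u.t • w) = 0 := by rw [bb_tr, hS τ, hS τ, w1, a1, w4]; decide
    have s2 : bb σ (u.t • w) = 1 := by rw [bb_tr, hS σ, hS σ, w3, a2, w4]; decide
    have s3 : bb σ' (u.t • w) = 1 := by rw [bb_tr, hS σ', hS σ', w2, a3, w4]; decide
    obtain ⟨n, n1, n2⟩ := exists_N hF hS s1 fun h => by
      rw [← h, hS, e] at s2
      exact zero_ne_one s2
    rw [hc.indep_j hF hS e s1 s2 a1 a2 n1 n2, hc.indep_j hF hS e' s1 s3 b1 b2 n1 n2]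
  rcases zm2 (bb u u') with e1 | e1
  · refine key (τ.t • u') ?_ ?_ ?_ ?_
    · rw [hS, bb_tr, bb_self, hS τ, b1]; decide
    · rw [hS, bb_tr, hS σ', hS σ', b2, e']; simp
    · rw [hS, bb_tr, hS σ, hS σ, b3, e]; simp
    · rw [bb_tr, e1, hS τ, b1, a1]; decide
  · exact key u' b1 b2 b3 e1

theorem exists_a [Finite G] : ∃ a : Tr G D → ZMod 2, (∀ (x : G) τ, a (x • τ) = a τ) ∧
    ∀ τ σ, bb τ σ = 0 → ∀ u : Tr G D, u.φ (c τ σ + ((a σ).val • σ.v - (a τ).val • τ.v)) = 0 := by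
  classical
  let P : Tr G D → Prop := fun τ => ∃ σ u, bb τ σ = 0 ∧ bb u τ = 1 ∧ bb u σ = 0 ∧ u.φ (c τ σ) = 1
  have hP : ∀ (x : G) τ, P τ → P (x • τ) := by
    rintro x τ ⟨σ, u, h1, h2, h3, h4⟩
    exact ⟨x • σ, x • u, by rwa [bb_smul], by rwa [bb_smul], by rwa [bb_smul],
      by rwa [hc.eqv _ _ _ h1, smul_φ]⟩
  let a : Tr G D → ZMod 2 := fun τ => if P τ then 1 else 0
  have ha : ∀ τ σ u : Tr G D, bb τ σ = 0 → bb u τ = 1 → bb u σ = 0 → u.φ (c τ σ) = a τ := by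
    intro τ σ u h1 h2 h3
    by_cases h : P τ
    · rw [show a τ = 1 from if_pos h]
      obtain ⟨σ', u', k1, k2, k3, k4⟩ := h
      rw [hc.indep_s hF hS h1 k1 h2 h3 k2 k3, k4]
    · rw [show a τ = 0 from if_neg h]
      exact (zm2 _).resolve_right fun h4 => h ⟨σ, u, h1, h2, h3, h4⟩
  have neg : ∀ z : ZMod 2, -z = z := by decide
  have ha' : ∀ τ σ u : Tr G D, bb τ σ = 0 → bb u τ = 0 → bb u σ = 1 → u.φ (c τ σ) = a σ := by
    intro τ σ u h1 h2 h3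
    have h4 := (hS _ _).trans h1
    rw [hc.anti hS h4, map_neg, neg, ha σ τ u h4 h3 h2]
  refine ⟨a, fun x τ => ?_, fun τ σ e u => ?_⟩
  · refine if_congr ⟨fun h => ?_, hP x τ⟩ rfl rfl
    have := hP x⁻¹ _ h
    rwa [inv_smul_smul] at this
  by_cases hne : τ = σ
  · subst hne
    rw [hc.self, sub_self, add_zero, map_zero]
  rw [map_add, map_sub, map_zval, map_zval]
  change _ + (_ * bb u σ - _ * bb u τ) = 0
  rcases zm2 (bb u τ) with e1 | e1 <;> rcases zm2 (bb u σ) with e2 | e2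
  · rw [hc.fix hF hS e e1 e2, e1, e2]; simp
  · rw [ha' τ σ u e e1 e2, e1, e2]; simp [zm2_add_self]
  · rw [ha τ σ u e e1 e2, e1, e2]; simp [zm2_add_self]
  · have key : ∀ w : Tr G D, bb w τ = 1 → bb w σ = 0 → bb u w = 1 →
        u.φ (c τ σ) = a σ + a τ := fun w w1 w2 w3 => by
      have := ha' τ σ (u.t • w) e (by rw [hS, bb_tr, hS τ, hS τ, w1, e1, w3]; decide)
        (by rw [hS, bb_tr, hS σ, hS σ, w2, e2, w3]; decide)
      rw [tr_φ, hS w, w3, one_mul, ha τ σ w e w1 w2] at this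
      rw [← this, add_right_comm, zm2_add_self, zero_add]
    have : u.φ (c τ σ) = a σ + a τ := by
      obtain ⟨w, w1, w2⟩ := exists_N hF hS e hne
      rcases zm2 (bb u w) with e3 | e3
      · refine key (τ.t • w) ?_ ?_ ?_
        · rw [hS, bb_tr, bb_self, hS τ, w1]; decide
        · rw [hS, bb_tr, hS σ, hS σ, w2, e]; simp
        · rw [bb_tr, e3, hS τ, w1, e1]; decide
      · exact key w w1 w2 e3
    rw [this, e1, e2]
    generalize a σ = y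
    generalize a τ = z
    revert y z
    decide

end Cy

open Classical in
/-- extension by zero to joined pairs -/
noncomputable def zz (c : Tr G D → Tr G D → D) (τ σ : Tr G D) : D := if bb τ σ = 0 then c τ σ else 0

theorem zz_zero {c : Tr G D → Tr G D → D} {τ σ : Tr G D} (e : bb τ σ = 0) : zz c τ σ = c τ σ :=
  if_pos e

theorem zz_one {c : Tr G D → Tr G D → D} {τ σ : Tr G D} (e : bb τ σ = 1) : zz c τ σ = 0 :=
  if_neg (by rw [e]; exact one_ne_zero)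

theorem zz_eqv {c : Tr G D → Tr G D → D} (hc : Cy c) (x : G) (τ σ : Tr G D) :
    zz c (x • τ) (x • σ) = x • zz c τ σ := by
  rcases zm2 (bb τ σ) with e | e
  · rw [zz_zero e, zz_zero (by rwa [bb_smul]), hc.eqv _ _ _ e]
  · rw [zz_one e, zz_one (by rwa [bb_smul]), smul_zero]

theorem zz_coc {c : Tr G D → Tr G D → D} (hF : Fa G D) (hS : Sm G D) (hc : Cy c)
    (hZ : ∀ τ σ, bb τ σ = 0 → ∀ u : Tr G D, u.φ (c τ σ) = 0)
    (h0 : ∀ τ σ w, bb τ σ = 0 → bb w τ = 1 → bb w σ = 1 → c τ σ = 0) (τ σ ρ : Tr G D) :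
    zz c τ σ + zz c σ ρ = zz c τ ρ := by
  have key : ∀ τ σ ρ : Tr G D, bb τ σ = 0 → bb τ ρ = 0 → bb σ ρ = 1 → c τ σ = c τ ρ := by
    intro τ σ ρ e e' j
    have h1 : (σ.t * ρ.t) • τ = τ := by
      rw [mul_smul, tr_fix hF hS ((hS _ _).trans e'), tr_fix hF hS ((hS _ _).trans e)]
    have := hc.eqv (σ.t * ρ.t) _ _ e
    rw [h1, tr_braid hF hS j, mul_smul, ρ.h.fix (hZ _ _ e _), σ.h.fix (hZ _ _ e _)] at this
    exact this.symm
  rcases zm2 (bb τ σ) with e1 | e1 <;> rcases zm2 (bb σ ρ) with e2 | e2 <;>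
    rcases zm2 (bb τ ρ) with e3 | e3
  · rw [zz_zero e1, zz_zero e2, zz_zero e3, hc.coc _ _ _ e1 e2 e3]
  · have e1' := (hS _ _).trans e1
    rw [zz_zero e1, zz_zero e2, zz_one e3, hc.anti hS e1', key σ τ ρ e1' e2 e3, neg_add_cancel]
  · rw [zz_zero e1, zz_one e2, zz_zero e3, add_zero, key τ σ ρ e1 e3 e2]
  · rw [zz_zero e1, zz_one e2, zz_one e3, add_zero,
      h0 τ σ ρ e1 ((hS _ _).trans e3) ((hS _ _).trans e2)]
  · have e2' := (hS _ _).trans e2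
    have e3' := (hS _ _).trans e3
    rw [zz_one e1, zz_zero e2, zz_zero e3, zero_add, hc.anti hS e2', hc.anti hS e3',
      key ρ τ σ e3' e2' e1]
  · rw [zz_one e1, zz_zero e2, zz_one e3, zero_add, h0 σ ρ τ e2 e1 e3]
  · rw [zz_one e1, zz_one e2, zz_zero e3, zero_add, h0 τ ρ σ e3 ((hS _ _).trans e1) e2]
  · rw [zz_one e1, zz_one e2, zz_one e3, add_zero]

end Cfsg.Agent.Ch.U9
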