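import Cfsg.Agent.Ch.U2

/-! The instance of `B2B`. -/

set_option autoImplicit false

namespace Cfsg.Agent.Ch

namespace U9

open Subgroup Cfsg.Agent.H1 Cfsg.Agent.L Cfsg.Agent.FT
open scoped Pointwise commutatorElement

variable {G D X : Type} [Group G] [AddCommGroup D] [DistribMulAction G D] [MulAction G X]

/-- an equivariant family of local primitives -/
structure Fam (F : X → X → D) (g : Tr G D → X → D) : Prop where
  eqv : ∀ (x : G) τ a, g (x • τ) (x • a) = x • g τ a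
  cob : ∀ (τ : Tr G D) a b, τ.t • a = a → τ.t • b = b → F a b = g τ b - g τ a

open Classical in
/-- difference of two local primitives -/
noncomputable def cc (g : Tr G D → X → D) (τ σ : Tr G D) : D :=
  if h : ∃ a : X, τ.t • a = a ∧ σ.t • a = a then g σ h.choose - g τ h.choose else 0

theorem Fam.cc_eq {F : X → X → D} {g : Tr G D → X → D} (h : Fam F g) {τ σ : Tr G D} {a : X}
    (h1 : τ.t • a = a) (h2 : σ.t • a = a) : cc g τ σ = g σ a - g τ a := by
  have hex : ∃ a : X, τ.t • a = a ∧ σ.t • a = a := ⟨a, h1, h2⟩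
  rw [cc, dif_pos hex, sub_eq_sub_iff_sub_eq_sub, ← h.cob σ _ _ h2 hex.choose_spec.2,
    ← h.cob τ _ _ h1 hex.choose_spec.1]

/-- an equivariant primitive on an invariant set -/
theorem exists_prim [FW] [Finite G] [Finite X] (hF : Fa G D) {Γ : Subgroup G} {Ω : Set X}
    (hG : Geo 2 Γ Ω) {F : X → X → D}
    (h1 : ∀ g ∈ Γ, ∀ a ∈ Ω, ∀ b ∈ Ω, F (g • a) (g • b) = g • F a b)
    (h2 : ∀ a ∈ Ω, ∀ b ∈ Ω, ∀ c ∈ Ω, F b c - F a c + F a b = 0) :
    ∃ γ : X → D, (∀ g ∈ Γ, ∀ a, γ (g • a) = g • γ a) ∧ ∀ a ∈ Ω, ∀ b ∈ Ω, F a b = γ b - γ a := by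
  classical
  let f : List X → D := fun l => match l with
    | [a, b] => F a b
    | _ => 0
  obtain ⟨γ, hγ, hd⟩ := FW.ac (D := ⊤) (m := 1) hG (act_ac Γ) (fun _ _ _ _ => trivial)
    (hF.tor.imp fun e he x _ => he x) le_rfl f
    (co_fx (fun g hg l hl => by
      obtain ⟨a, ha, b, hb, rfl⟩ := on_two.1 hl
      exact h1 g hg a ha b hb) fun _ _ => trivial)
    (fun l hl => by
      obtain ⟨a, ha, b, hb, c, hc, rfl⟩ := on_three.1 hl
      rw [dd_three, mem_zr]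
      exact h2 a ha b hb c hc)
  refine ⟨fun a => if a ∈ Ω then γ [a] else 0, fun g hg a => ?_, fun a ha b hb => ?_⟩
  · by_cases ha : a ∈ Ω
    · simp only [if_pos ha, if_pos (hG.inv g hg a ha)]
      exact hγ.eqv g hg [a] (on_one.2 ⟨a, ha, rfl⟩)
    · have : g • a ∉ Ω := fun h => ha (by simpa using hG.inv g⁻¹ (inv_mem hg) _ h)
      simp only [if_neg ha, if_neg this, smul_zero]
  · simp only [if_pos ha, if_pos hb]
    have := hd [a, b] (on_two.2 ⟨a, ha, b, hb, rfl⟩)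
    rw [mem_zr, dd_two, sub_eq_zero] at this
    exact this

section
variable (hF : Fa G D) (hS : Sm G D) (hG : Geo 2 (⊤ : Subgroup G) (Set.univ : Set X))
include hF hG

theorem exists_fam [FW] [Finite G] [Finite X] {F : X → X → D}
    (h1 : ∀ (g : G) a b, F (g • a) (g • b) = g • F a b)
    (h2 : ∀ (τ : Tr G D) a b c, τ.t • a = a → τ.t • b = b → τ.t • c = c →
      F b c - F a c + F a b = 0) : ∃ g : Tr G D → X → D, Fam F g := by
  obtain ⟨g, hg, he⟩ := exists_equivariant (T := Tr G D) (V := X → D) (⊤ : Subgroup G)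
    (fun x τ => x • τ)
    (fun x γ a => x • γ (x⁻¹ • a)) Set.univ
    (fun τ γ => ∀ a b, τ.t • a = a → τ.t • b = b → F a b = γ b - γ a)
    (fun τ _ => one_smul _ _) (fun x _ y _ τ _ => mul_smul _ _ _) (fun _ _ _ _ => trivial)
    (fun γ => by simp) (fun x _ y _ γ => by simp [mul_smul])
    (fun x _ τ _ γ h a b ha hb => by
      have ha' := fix_smul x⁻¹ ha
      have hb' := fix_smul x⁻¹ hb
      rw [inv_smul_smul] at ha' hb'
      rw [← smul_sub, ← h _ _ ha' hb', ← h1, smul_inv_smul, smul_inv_smul])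
    (fun τ _ => by
      have hm : ∀ a : X, a ∈ Fx Set.univ (zpowers τ.t) ↔ τ.t • a = a := fun a =>
        ⟨fun h => h.2 _ (mem_zpowers _), fun h => ⟨trivial, fun y hy =>
          (zpowers_le.2 (show τ.t ∈ MulAction.stabilizer G a from h) hy :)⟩⟩
      obtain ⟨γ, k1, k2⟩ := exists_prim hF (hG.loc (Y := zpowers τ.t) le_top (τ.h.pg_zpowers hF))
        (F := F) (fun g _ a _ b _ => h1 g a b)
        (fun a ha b hb c hc => h2 τ a b c ((hm a).1 ha) ((hm b).1 hb) ((hm c).1 hc))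
      refine ⟨γ, fun a b ha hb => k2 a ((hm a).2 ha) b ((hm b).2 hb), fun x _ hx => ?_⟩
      funext a
      have hx' : x * τ.t * x⁻¹ = τ.t := congrArg Tr.t hx
      rw [← k1 x ⟨trivial, centralizer_le_normalizer _ ?_⟩, smul_inv_smul]
      rintro _ ⟨i, rfl⟩
      exact (Commute.zpow_left (mul_inv_eq_iff_eq_mul.1 hx').symm i :))
  refine ⟨g, fun x τ a => ?_, fun τ => hg τ trivial⟩
  rw [he x trivial τ trivial]
  simp only [inv_smul_smul]

include hS

theorem exists_fix3 {τ σ ρ : Tr G D} (e1 : bb τ σ = 0) (e2 : bb σ ρ = 0) (e3 : bb τ ρ = 0) :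
    ∃ a : X, τ.t • a = a ∧ σ.t • a = a ∧ ρ.t • a = a := by
  have c1 := comm_of_bb hF hS e1
  have c2 := comm_of_bb hF hS e2
  have c3 := comm_of_bb hF hS e3
  obtain ⟨a, -, ha⟩ := hG.fix (closure {τ.t, σ.t, ρ.t}) le_top (pg_closure_comm
    (by rintro _ (rfl | rfl | rfl) <;> exact Tv.sq hF (Tr.h _))
    (by rintro _ (rfl | rfl | rfl) _ (rfl | rfl | rfl) <;> first | rfl | assumption | symm; assumption))
  exact ⟨a, ha _ (subset_closure (by simp)), ha _ (subset_closure (by simp)),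
    ha _ (subset_closure (by simp))⟩

theorem Fam.cy {F : X → X → D} {g : Tr G D → X → D} (h : Fam F g) : Cy (cc g) where
  eqv := fun x τ σ e => by
    obtain ⟨a, h1, h2, -⟩ := exists_fix3 hF hS hG e (bb_self σ) e
    rw [h.cc_eq h1 h2, h.cc_eq (fix_smul x h1) (fix_smul x h2), h.eqv, h.eqv, smul_sub]
  coc := fun τ σ ρ e1 e2 e3 => by
    obtain ⟨a, h1, h2, h3⟩ := exists_fix3 hF hS hG e1 e2 e3
    rw [h.cc_eq h1 h2, h.cc_eq h2 h3, h.cc_eq h1 h3]
    abel

theorem Fam.exists_Z [Finite G] {F : X → X → D} {g : Tr G D → X → D} (h : Fam F g) :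
    ∃ g' : Tr G D → X → D, Fam F g' ∧
      ∀ τ σ, bb τ σ = 0 → ∀ u : Tr G D, u.φ (cc g' τ σ) = 0 := by
  obtain ⟨a, h1, h2⟩ := (h.cy hF hS hG).exists_a hF hS
  have hf : Fam F (fun τ b => g τ b + (a τ).val • τ.v) :=
    ⟨fun x τ b => by rw [h.eqv, h1, smul_v, smul_add, smul_comm x],
      fun τ b c hb hc => by rw [h.cob τ b c hb hc, add_sub_add_right_eq_sub]⟩
  refine ⟨_, hf, fun τ σ e u => ?_⟩
  obtain ⟨b, k1, k2, -⟩ := exists_fix3 hF hS hG e (bb_self σ) e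
  rw [← h2 τ σ e u, hf.cc_eq k1 k2, h.cc_eq k1 k2, add_sub_add_comm]

theorem Fam.zero [Finite G] {F : X → X → D} {g : Tr G D → X → D} (h : Fam F g)
    (hZ : ∀ τ σ, bb τ σ = 0 → ∀ u : Tr G D, u.φ (cc g τ σ) = 0) (τ σ w : Tr G D)
    (e : bb τ σ = 0) (e1 : bb w τ = 1) (e2 : bb w σ = 1) : cc g τ σ = 0 := by
  by_cases hne : τ = σ
  · rw [hne, (h.cy hF hS hG).self]
  have e' := (hS _ _).trans e
  have e1' := (hS _ _).trans e1
  have e2' := (hS _ _).trans e2
  set w' := τ.t • σ.t • w with hw'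
  have b1 : bb τ (σ.t • w) = 1 := by rw [bb_tr, e, e1', mul_zero, add_zero]
  have b2 : bb w w' = 0 := by rw [hw', bb_tr, bb_tr, b1, bb_self, e1, e2, e2']; decide
  have b3 : bb τ w' = 1 := by rw [hw', bb_tr, b1, bb_self, mul_zero, add_zero]
  have b3' := (hS _ _).trans b3
  have v1 : w'.v = w.v + σ.v + τ.v := by
    rw [hw', tr_v, tr_v, b1, e2', zm2_val1, one_nsmul, one_nsmul]
  have f1 : ∀ d, w'.φ d = w.φ d + σ.φ d + τ.φ d := fun d => by
    rw [hw', tr_φ, tr_φ, hS _ τ, b1, e2, one_mul, one_mul]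
  have b4 : bb w (w'.t • τ) = 1 := by rw [bb_tr, e1, b2, mul_zero, add_zero]
  have sw : (w.t * w'.t) • τ = σ := by
    rw [mul_smul]
    refine Tr.ext_t (Tv.eq_of hF (Tr.h _) ?_)
    have v2 : (w.t • w'.t • τ).v = σ.v := by
      rw [tr_v, tr_v, b4, b3', zm2_val1, one_nsmul, one_nsmul, v1,
        show τ.v + (w.v + σ.v + τ.v) + w.v = σ.v + (τ.v + τ.v) + (w.v + w.v) by abel, τ.h.two,
        w.h.two, add_zero, add_zero]
    have f2 : (w.t • w'.t • τ).φ = σ.φ := by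
      ext d
      rw [tr_φ, tr_φ, hS _ w, b4, b3, f1]
      generalize τ.φ d = x, σ.φ d = y, w.φ d = z
      revert x y z
      decide
    rw [v2, f2]
    exact σ.h
  set y := w.t * w'.t with hy
  have yy : y * y = 1 := by
    rw [hy, mul_assoc, ← mul_assoc w'.t, ← comm_of_bb hF hS b2, mul_assoc, w'.h.sq hF, mul_one,
      w.h.sq hF]
  have iy : y⁻¹ = y := inv_eq_of_mul_eq_one_right yy
  have st' : σ.t = y * τ.t * y := by rw [← sw, smul_t, iy]
  obtain ⟨a, -, ha⟩ := hG.fix (closure {τ.t, y}) le_top (pg_dih (τ.h.sq hF) yy (n := 2) (by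
    rw [show (τ.t * y) ^ 2 ^ 2 = τ.t * (y * τ.t * y) * (τ.t * (y * τ.t * y)) by
      rw [show 2 ^ 2 = 2 * 2 from rfl, pow_mul, pow_two, pow_two]; group, ← st', mul_assoc,
      ← mul_assoc σ.t, ← comm_of_bb hF hS e, mul_assoc, σ.h.sq hF, mul_one, τ.h.sq hF]))
  have a1 : τ.t • a = a := ha _ (subset_closure (by simp))
  have a2 : y • a = a := ha _ (subset_closure (by simp))
  have a3 : σ.t • a = a := by rw [st', mul_smul, mul_smul, a2, a1, a2]
  have d1 : τ.φ (g τ a) = 0 := by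
    rw [← τ.h.fix_iff, ← h.eqv, tr_fix hF hS (bb_self τ), a1]
  have d2 : σ.φ (g τ a) = 0 := by
    rw [← σ.h.fix_iff, ← h.eqv, tr_fix hF hS e', a3]
  have hc : cc g τ σ = (w.φ (g τ a)).val • (σ.v + τ.v) := by
    have := h.eqv y τ a
    rw [sw, a2] at this
    rw [h.cc_eq a1 a3, this, hy, mul_smul, w'.h.smul, w.h.smul, map_add, map_zval,
      show w.φ w'.v = 0 from b2, mul_zero, add_zero, f1, d1, d2, add_zero, add_zero, v1,
      ← add_zero (_ • (σ.v + τ.v)), ← zval_two w.h.two (w.φ (g τ a))]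
    simp only [nsmul_add]
    abel
  obtain ⟨u, u1, u2⟩ := exists_N hF hS e hne
  have := hZ τ σ e u
  rw [hc, map_zval, map_add, show u.φ σ.v = 0 from u2, show u.φ τ.v = 1 from u1, zero_add,
    mul_one] at this
  rw [hc, this, zm2_val0, zero_nsmul]

theorem main [FW] [Finite G] [Finite X] {F : X → X → D}
    (h1 : ∀ (g : G) a b, F (g • a) (g • b) = g • F a b)
    (h2 : ∀ (τ : Tr G D) a b c, τ.t • a = a → τ.t • b = b → τ.t • c = c →
      F b c - F a c + F a b = 0) :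
    ∃ γ : X → D, (∀ (g : G) a, γ (g • a) = g • γ a) ∧
      ∀ (τ : Tr G D) a b, τ.t • a = a → τ.t • b = b → F a b = γ b - γ a := by
  classical
  rcases isEmpty_or_nonempty (Tr G D) with hE | ⟨⟨τ0⟩⟩
  · exact ⟨0, fun g a => by simp, fun τ => hE.elim τ⟩
  obtain ⟨g0, hg0⟩ := exists_fam hF hG h1 h2
  obtain ⟨g, hg, hZ⟩ := hg0.exists_Z hF hS hG
  have hc := hg.cy hF hS hG
  have coc := zz_coc hF hS hc hZ (hg.zero hF hS hG hZ)
  let Ω : Set X := {a | ∃ τ : Tr G D, τ.t • a = a}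
  have hΩ : Geo 2 (⊤ : Subgroup G) Ω :=
    ⟨fun x _ a ⟨τ, h⟩ => ⟨_, fix_smul x h⟩, fun a _ => hG.pg a trivial, fun P _ hP => by
      obtain ⟨S, hS⟩ := hP.exists_le_sylow
      obtain ⟨T, hT⟩ := (τ0.h.pg_zpowers hF).exists_le_sylow
      obtain ⟨x, rfl⟩ := MulAction.exists_smul_eq G T S
      obtain ⟨a, -, ha⟩ := hG.fix _ le_top (x • T).isPGroup'
      exact ⟨a, ⟨x • τ0, ha _ (Subgroup.smul_mem_pointwise_smul τ0.t (MulAut.conj x) T
        (hT (mem_zpowers _)))⟩, fun y hy => ha y (hS hy)⟩⟩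
  let γ : X → D := fun a => if h : a ∈ Ω then g h.choose a - zz (cc g) τ0 h.choose else 0
  have hγ : ∀ (τ : Tr G D) a, τ.t • a = a → γ a = g τ a - zz (cc g) τ0 τ := fun τ a ha => by
    have hm : a ∈ Ω := ⟨τ, ha⟩
    have e := bb_of_pg hF hS (hG.pg a trivial) ⟨trivial, ha⟩ ⟨trivial, hm.choose_spec⟩
    rw [show γ a = _ from dif_pos hm, ← coc τ0 τ hm.choose, zz_zero e,
      hg.cc_eq ha hm.choose_spec]
    abel
  have hγ' : ∀ (x : G), ∀ a ∈ Ω, γ (x • a) = x • γ a - zz (cc g) τ0 (x • τ0) := by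
    rintro x a ⟨τ, ha⟩
    rw [hγ τ a ha, hγ _ _ (fix_smul x ha), hg.eqv, ← coc τ0 (x • τ0) (x • τ), zz_eqv hc, smul_sub]
    abel
  obtain ⟨γ', k1, k2⟩ := exists_prim hF hΩ (F := fun a b => γ b - γ a)
    (fun x _ a ha b hb => by rw [hγ' x a ha, hγ' x b hb, smul_sub, sub_sub_sub_cancel_right])
    (fun a _ b _ c _ => by abel)
  refine ⟨γ', fun x => k1 x trivial, fun τ a b ha hb => ?_⟩
  rw [← k2 a ⟨τ, ha⟩ b ⟨τ, hb⟩, hγ τ a ha, hγ τ b hb, hg.cob τ a b ha hb, sub_sub_sub_cancel_right]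

end

end U9

open U9 in
instance instB2B [FW] : B2B where
  out := by
    intro G D X _ _ _ _ _ _ _ hF hG hM f hf hd
    obtain ⟨γ, k1, k2⟩ := U9.main hF (sm_of hF hM) hG (F := fun a b => f [a, b])
      (fun g a b => hf.eqv g trivial [a, b] (on_two.2 ⟨a, trivial, b, trivial, rfl⟩))
      (fun τ a b c ha hb hc => by
        have := hd [a, b, c] (on_three.2 ⟨a, trivial, b, trivial, c, trivial, rfl⟩)
        rw [mix_pos ⟨_, Subgroup.zpowers_le.2 (mem_st.2 ⟨trivial, by simp [ha, hb, hc]⟩),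
          τ.h.woff hF⟩, mem_zr, dd_three] at this
        exact this)
    let g : List X → D := fun l => match l with
      | [a] => γ a
      | _ => 0
    have hg : Co ⊤ (Set.univ : Set X) (ac G D) (fx (ac G D) ⊤) 1 g :=
      co_fx (fun x _ l hl => by
        obtain ⟨a, -, rfl⟩ := on_one.1 hl
        exact k1 x a) fun _ _ => trivial
    refine ⟨g, hg, fun l hl => ?_⟩
    by_cases hq : ∃ B ≤ st (⊤ : Subgroup G) l, WOff D B
    · rw [mix_pos hq, mem_zr, sub_eq_zero]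
      obtain ⟨B, hB, hw⟩ := hq
      obtain ⟨t, ht, v, φ, h⟩ := (tvc_woff hF ((hl.stb.pg hG).to_le hB) hw).resolve_left
        fun ⟨A, _, hA⟩ => hM A hA
      obtain ⟨a, -, b, -, rfl⟩ := on_two.1 hl
      have := (mem_st.1 (hB ht)).2
      rw [dd_two]
      exact k2 ⟨t, v, φ, h⟩ a b (this a (by simp)) (this b (by simp))
    · rw [mix_neg hq]
      exact sub_mem (hf.mem' hl)
        (hg.dd_mem ((sys_fx (D := ⊤) (act_ac ⊤) fun _ _ _ _ => trivial).anti_stb hG) hl)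

end Cfsg.Agent.Ch
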