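import Cfsg.Agent.Ch.I

/-! Slice `B2A` of S5242, part 1: transvections and members. -/

set_option autoImplicit false
set_option linter.unusedSectionVars false

namespace Cfsg.Agent.Ch.V3

open Subgroup Cfsg.Agent.H1 Cfsg.Agent.L Cfsg.Agent.FT
open scoped Pointwise

variable {G D : Type} [Group G] [AddCommGroup D] [DistribMulAction G D]
  {s t r g a : G} {v w x : D} {φ ψ : D →+ ZMod 2} {A B P : Subgroup G}

theorem zc (c : ZMod 2) : c = 0 ∨ c = 1 := by revert c; decide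

theorem z2 (c : ZMod 2) : c + c = 0 := by revert c; decide

/-- the transported functional -/
def tw (φ : D →+ ZMod 2) (g : G) : D →+ ZMod 2 := φ.comp (ac G D g⁻¹)

theorem tw_apply (φ : D →+ ZMod 2) (g : G) (x : D) : tw φ g x = φ (g⁻¹ • x) := rfl

theorem mem_fx : x ∈ fx (ac G D) ⊤ A ↔ ∀ g ∈ A, g • x = x := ⟨fun h => h.2, fun h => ⟨trivial, h⟩⟩

theorem fix0 (h : Tv t v φ) (hx : φ x = 0) : t • x = x := by rw [h.smul, hx]; simp

theorem mov1 (h : Tv t v φ) (hx : φ x = 1) : t • x = x + v := by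
  rw [h.smul, hx, ZMod.val_one, one_smul]

theorem fix_iff (h : Tv t v φ) : t • x = x ↔ φ x = 0 :=
  ⟨fun e => (zc _).resolve_right fun e' => h.ne (by rwa [mov1 h e', add_eq_left] at e), fix0 h⟩

theorem ex1 (h : φ ≠ 0) : ∃ x, φ x = 1 := by
  by_contra! e
  exact h (AddMonoidHom.ext fun x => (zc _).resolve_right (e x))

theorem tconj (h : Tv t v φ) (g : G) : Tv (g * t * g⁻¹) (g • v) (tw φ g) where
  ne := fun e => h.ne (by simpa using congrArg (g⁻¹ • ·) e)
  two := by rw [← smul_add, h.two, smul_zero]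
  nz := fun e => let ⟨x, hx⟩ := ex1 h.nz
    by simpa [tw_apply, hx] using DFunLike.congr_fun e (g • x)
  self := by rw [tw_apply, inv_smul_smul, h.self]
  smul := fun x => by
    rw [mul_smul, mul_smul, h.smul, smul_add, smul_inv_smul, tw_apply, smul_comm]

theorem eq_of (hF : Fa G D) (h : ∀ x : D, s • x = t • x) : s = t := by
  have := hF.faith (t⁻¹ * s) fun x => by rw [mul_smul, h, inv_smul_smul]
  rwa [inv_mul_eq_one, eq_comm] at this

theorem text (hF : Fa G D) (h : Tv s v φ) (h' : Tv t v φ) : s = t :=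
  eq_of hF fun x => by rw [h.smul, h'.smul]

theorem tne (h : Tv t v φ) : t ≠ 1 := fun e =>
  let ⟨x, hx⟩ := ex1 h.nz
  by simpa [hx] using (fix_iff h (x := x)).1 (by rw [e, one_smul])

theorem ctr (h : Tv t v φ) (h' : Tv t w ψ) : v = w := by
  obtain ⟨x, hx⟩ := ex1 h.nz
  have h1 : ψ x = 1 := (zc _).resolve_left fun e => by
    simpa [hx] using (fix_iff h).1 (fix0 h' e)
  exact add_left_cancel ((mov1 h hx).symm.trans (mov1 h' h1))

theorem smul2 (hs : Tv s v φ) (ht : Tv t w ψ) (h : φ w = 0) (x : D) :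
    (s * t) • x = x + (φ x).val • v + (ψ x).val • w := by
  rw [mul_smul, ht.smul, smul_add, smul_comm, fix0 hs h, hs.smul]

theorem tsq (hF : Fa G D) (h : Tv t v φ) : t * t = 1 := hF.faith _ fun x => by
  rw [smul2 h h h.self, add_assoc, ← smul_add, h.two, smul_zero, add_zero]

theorem tinv (hF : Fa G D) (h : Tv t v φ) : t⁻¹ = t := inv_eq_of_mul_eq_one_right (tsq hF h)

theorem tcomm (hF : Fa G D) (hs : Tv s v φ) (ht : Tv t w ψ) (h1 : φ w = 0) (h2 : ψ v = 0) :
    s * t = t * s := eq_of hF fun x => by rw [smul2 hs ht h1, smul2 ht hs h2, add_right_comm]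

theorem mul_axis (hs : Tv s v φ) (ht : Tv t w φ) (h : v ≠ w) : Tv (s * t) (v + w) φ where
  ne := fun e => h (by rw [← add_zero v, ← ht.two, ← add_assoc, e, zero_add])
  two := by rw [add_add_add_comm, hs.two, ht.two, add_zero]
  nz := hs.nz
  self := by rw [map_add, hs.self, ht.self, add_zero]
  smul := fun x => by rw [smul2 hs ht ht.self, smul_add, add_assoc]

theorem mul_centre (hs : Tv s v φ) (ht : Tv t v ψ) (h : φ ≠ ψ) : Tv (s * t) v (φ + ψ) where
  ne := hs.ne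
  two := hs.two
  nz := fun e => h (AddMonoidHom.ext fun x => by
    have := DFunLike.congr_fun e x
    simp only [AddMonoidHom.add_apply, AddMonoidHom.zero_apply] at this
    linear_combination this - z2 (ψ x))
  self := by rw [AddMonoidHom.add_apply, hs.self, ht.self, add_zero]
  smul := fun x => by
    rw [smul2 hs ht hs.self, AddMonoidHom.add_apply]
    rcases zc (φ x) with e | e <;> rcases zc (ψ x) with e' | e' <;>
      simp [e, e', z2, ZMod.val_one, add_assoc, hs.two]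

theorem tw_fix (hF : Fa G D) (hs : Tv s v φ) (h' : ψ v = 0) : tw ψ s = ψ :=
  AddMonoidHom.ext fun x => by
    rw [tw_apply, tinv hF hs, hs.smul, map_add, map_nsmul, h', smul_zero, add_zero]

theorem tw_tw (φ : D →+ ZMod 2) (g : G) : tw (tw φ g) g⁻¹ = φ :=
  AddMonoidHom.ext fun x => by simp [tw_apply]

theorem not_pg (hP : IsPGroup 2 P) (hs : Tv s v φ) (ht : Tv t w ψ) (h1 : s ∈ P) (h2 : t ∈ P)
    (e1 : φ w = 1) : ψ v = 0 := (zc _).resolve_right fun e2 => by
  obtain ⟨n, hn⟩ := hP ⟨s * t, mul_mem h1 h2⟩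
  have hn' : (s * t) ^ 2 ^ n = 1 := congrArg Subtype.val hn
  have a1 : (s * t) • v = w := by
    rw [mul_smul, mov1 ht e2, smul_add, fix0 hs hs.self, mov1 hs e1, add_comm w, ← add_assoc, hs.two,
      zero_add]
  have a2 : (s * t) • w = w + v := by rw [mul_smul, fix0 ht ht.self, mov1 hs e1]
  have a3 : (s * t) ^ 3 ∈ MulAction.stabilizer G v := by
    rw [MulAction.mem_stabilizer_iff, pow_succ, pow_two, mul_smul, mul_smul, a1, a2, smul_add, a1, a2,
      add_right_comm, ht.two, zero_add]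
  have a4 : s * t ∈ MulAction.stabilizer G v := by
    have c : Nat.Coprime 3 (2 ^ n) := Nat.Coprime.pow_right n (by decide)
    have e := Nat.gcd_eq_gcd_ab 3 (2 ^ n)
    rw [c, Nat.cast_one] at e
    rw [← zpow_one (s * t), e, zpow_add, zpow_mul, zpow_mul, zpow_natCast, zpow_natCast, hn', one_zpow,
      mul_one]
    exact zpow_mem a3 _
  rw [MulAction.mem_stabilizer_iff, a1] at a4
  rw [a4, hs.self] at e1
  exact zero_ne_one e1

/-- a commuting pair -/
theorem of_comm (hs : Tv s v φ) (ht : Tv t w ψ) (h : s * t = t * s) : φ w = 0 := by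
  have h1 := tconj ht s
  rw [h, mul_inv_cancel_right] at h1
  exact (fix_iff hs).1 (ctr h1 ht)

/-- the commutator of two non-commuting transvections in a `2`-group -/
theorem tcom (hF : Fa G D) (hs : Tv s v φ) (ht : Tv t w ψ) (e1 : ψ v = 1) (e2 : φ w = 0) :
    Tv (s * (t * s * t⁻¹)) w φ := by
  have h1 := tconj hs t
  rw [tw_fix hF ht e2, mov1 ht e1] at h1
  have := mul_axis hs h1 fun e => ht.ne (left_eq_add.1 e)
  rwa [← add_assoc, hs.two, zero_add] at this

variable [Finite G] [Finite D]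

theorem card_le_two (U : AddSubgroup D) (φ : D →+ ZMod 2) :
    Nat.card U ≤ 2 * Nat.card (U ⊓ φ.ker : AddSubgroup D) := by
  have h1 := (φ.ker.addSubgroupOf U).card_mul_index
  have h2 : (φ.ker.addSubgroupOf U).index ≤ 2 := by
    rw [← AddSubgroup.relIndex, AddSubgroup.relIndex_ker]
    simpa using Nat.card_le_card_of_injective _ (U.map φ).subtype_injective
  rw [← h1, ← AddSubgroup.inf_addSubgroupOf_right, inf_comm,
    Nat.card_congr (AddSubgroup.addSubgroupOfEquivOfLe inf_le_left).toEquiv, mul_comm,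
    inf_comm, AddSubgroup.inf_addSubgroupOf_right]
  exact Nat.mul_le_mul_right _ h2

theorem two_card_le {U W : AddSubgroup D} (h : W ≤ U) (hx : x ∈ U) (hx' : x ∉ W) :
    2 * Nat.card W ≤ Nat.card U := by
  obtain ⟨k, hk⟩ := AddSubgroup.card_dvd_of_le h
  have h0 : 0 < Nat.card U := Nat.card_pos
  have h1 : k ≠ 1 := fun e => hx' (AddSubgroup.eq_of_le_of_card_ge h (by rw [hk, e, mul_one]) ▸ hx)
  have h2 : k ≠ 0 := fun e => by simp [hk, e] at h0
  rw [hk, mul_comm]
  exact Nat.mul_le_mul_left _ (by omega)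

theorem tpg (hF : Fa G D) (h : Tv t v φ) : IsPGroup 2 (zpowers t) := by
  rintro ⟨_, k, rfl⟩
  refine ⟨1, Subtype.ext ?_⟩
  change (t ^ k) ^ 2 ^ 1 = 1
  rw [pow_one, ← zpow_natCast, ← zpow_mul, mul_comm, zpow_mul, zpow_natCast, pow_two, tsq hF h, one_zpow]

theorem twoff (hF : Fa G D) (h : Tv t v φ) : WOff D (zpowers t) where
  ne := ne_bot_of_mem (mem_zpowers t) (tne h)
  ab := by rintro _ ⟨a, rfl⟩ _ ⟨b, rfl⟩; exact zpow_mul_comm t a b
  val := by
    have h1 := card_le_two ⊤ φ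
    have h2 : fx (ac G D) ⊤ (zpowers t) = ⊤ ⊓ φ.ker := AddSubgroup.ext fun x => by
      rw [mem_fx, top_inf_eq, AddMonoidHom.mem_ker, ← fix_iff h]
      exact ⟨fun e => e t (mem_zpowers t), fun e => (zpowers_le (H := MulAction.stabilizer G x)).2 e⟩
    have h3 : 2 ≤ Nat.card (zpowers t) := (one_lt_card_iff_ne_bot _).2
      (ne_bot_of_mem (mem_zpowers t) (tne h))
    rw [AddSubgroup.card_top] at h1
    rw [h2]
    exact h1.trans (Nat.mul_le_mul_right _ h3)

theorem card_fx_conj (g : G) (A : Subgroup G) :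
    Nat.card (fx (ac G D) ⊤ (g ⋆ A)) = Nat.card (fx (ac G D) ⊤ A) :=
  Nat.card_congr ((MulAction.toPerm g⁻¹).subtypeEquiv fun x => by
    simp only [mem_fx, mem_conj', MulAction.toPerm_apply]
    exact ⟨fun h a ha => by rw [← mul_smul, ← smul_left_cancel_iff g, ← mul_smul, ← mul_assoc,
      h _ ⟨a, ha, rfl⟩, smul_inv_smul], by
        rintro h _ ⟨a, ha, rfl⟩
        rw [mul_smul, mul_smul, h a ha, smul_inv_smul]⟩)

theorem mconj (h : Mem D A) (g : G) : Mem D (g ⋆ A) where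
  ne := conj_ne_bot g h.ne
  ab := fun a ha b hb => by
    obtain ⟨a', ha', rfl⟩ := mem_conj'.1 ha
    obtain ⟨b', hb', rfl⟩ := mem_conj'.1 hb
    rw [conj_mul, conj_mul, h.ab a' ha' b' hb']
  val := by rw [card_conj, card_fx_conj]; exact h.val
  pg := pgroup_conj h.pg g
  idx := fun A₀ h1 h2 x hx => mem_fx.2 fun c hc => by
    obtain ⟨a, ha, rfl⟩ := mem_conj'.1 hc
    have := h.idx (g⁻¹ ⋆ A₀) (le_conj_iff.1 h1) (by rw [← h2, ← relIndex_conj g, conj_inv_conj])
      ((mem_fx (x := g⁻¹ • x)).2 fun b hb => by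
        rw [mem_conj, inv_inv] at hb
        rw [← mul_smul, ← smul_left_cancel_iff g, ← mul_smul, ← mul_assoc, mem_fx.1 hx _ hb,
          smul_inv_smul])
    rw [mul_smul, mul_smul, mem_fx.1 this a ha, smul_inv_smul]

/-- a member has no orbit of length two -/
theorem small (h : Mem D A) {S : Set D} (hS : S.ncard ≤ 3) (h1 : ∀ a ∈ A, a • v ∈ S) :
    ∀ a ∈ A, a • v = v := by
  have e : (MulAction.stabilizer G v).relIndex A ≤ 3 := by
    refine le_trans ?_ hS
    change (MulAction.stabilizer A v).index ≤ _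
    rw [MulAction.index_stabilizer]
    exact Set.ncard_le_ncard (by rintro _ ⟨a, rfl⟩; exact h1 a a.2) S.toFinite
  obtain ⟨k, hk⟩ := pgroup_relIndex Nat.prime_two h.pg (MulAction.stabilizer G v)
  have k2 : k < 2 := by
    by_contra e'
    have := Nat.pow_le_pow_right two_pos (not_lt.1 e')
    omega
  interval_cases k
  · exact relIndex_eq_one.1 hk
  · exact mem_fx.1 (h.idx (MulAction.stabilizer G v ⊓ A) inf_le_right
      (by rw [inf_relIndex_right, hk]; rfl) (mem_fx.2 fun g hg => hg.1))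

theorem mate_le [TVC] (hF : Fa G D) (hs : Tv s v φ) (hr : Tv r w φ) (h : r ≠ s) :
    ∃ B, Mem D B ∧ ∀ K : Subgroup G, s ∈ K → r ∈ K → B ≤ K :=
  ⟨_, TVC.mate hF hs hr h.symm, fun K h1 h2 => (closure_le K).2 (by rintro _ (rfl | rfl) <;> assumption)⟩

/-- a member centralising a transvection -/
theorem lemO [TVC] (hF : Fa G D) (hA : Mem D A) (hs : Tv s v φ) (hP : IsPGroup 2 P) (h1 : A ≤ P)
    (h2 : s ∈ P) (hc : ∀ a ∈ A, a • v = v → a * s = s * a) :
    ∃ B, Mem D B ∧ B ≤ P ∧ B ≤ 𝐂[s] := by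
  by_cases h0 : ∀ a ∈ A, a • v = v
  · exact ⟨A, hA, h1, fun a ha => mem_cent1.2 (hc a ha (h0 a ha))⟩
  by_cases hm : ∃ r ∈ P, ∃ w, Tv r w φ ∧ r ≠ s
  · obtain ⟨r, r1, w, r2, r3⟩ := hm
    obtain ⟨B, b1, b2⟩ := mate_le hF hs r2 r3
    exact ⟨B, b1, b2 P h2 r1, b2 _ (self_mem_cent1 s) (mem_cent1.2 (tcomm hF r2 hs hs.self r2.self))⟩
  push Not at hm
  have cP : ∀ a ∈ A, ∀ x ∈ P, a * x * a⁻¹ ∈ P := fun a ha x hx =>
    mul_mem (mul_mem (h1 ha) hx) (inv_mem (h1 ha))
  have ax : ∀ a ∈ A, ∀ r ∈ P, ∀ w, Tv r w (tw φ a) → r = a * s * a⁻¹ := fun a ha r hr w e => by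
    have := tconj e a⁻¹
    rw [tw_tw] at this
    rw [← hm _ (cP _ (inv_mem ha) r hr) _ this]; group
  have k1 : ∀ a ∈ A, φ (a • v) = 0 := fun a ha => (zc _).resolve_right fun e => by
    have ht := tconj hs a
    have tP := cP a ha s h2
    have h3 := tcom hF ht hs e (not_pg hP hs ht h2 tP e)
    rw [ax a ha _ (mul_mem tP (mul_mem (mul_mem h2 tP) (inv_mem h2))) _ h3] at h3
    rw [ctr ht h3, hs.self] at e
    exact zero_ne_one e
  have k2 : ∀ a ∈ A, ∀ b ∈ A, tw φ a (b • v) = 0 := fun a ha b hb => by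
    rw [tw_apply, ← mul_smul]; exact k1 _ (mul_mem (inv_mem ha) hb)
  have sA : s ∉ A := fun e => h0 fun a ha => by
    have := tconj hs a
    rw [hA.ab a ha s e, mul_inv_cancel_right] at this
    exact ctr this hs
  have key : ∀ a ∈ A, ∀ b ∈ A, a * s * a⁻¹ * (b * s * b⁻¹) ∈ A → a * s * a⁻¹ = b * s * b⁻¹ := by
    intro a ha b hb hy
    by_contra hn
    have e := smul2 (tconj hs a) (tconj hs b) (k2 a ha b hb)
    set y := a * s * a⁻¹ * (b * s * b⁻¹)
    obtain ⟨x, c, hc', hx⟩ : ∃ x, ∃ c ∈ A, y • x = x + c • v := by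
      obtain ⟨x, hx⟩ : ∃ x, tw φ a x ≠ tw φ b x := DFunLike.ne_iff.1 fun e' =>
        hn (ax b hb _ (cP a ha s h2) _ (e' ▸ tconj hs a))
      rcases zc (tw φ a x) with e1 | e1 <;> rcases zc (tw φ b x) with e2 | e2
      · exact absurd (e1.trans e2.symm) hx
      · exact ⟨x, b, hb, by simp [e, e1, e2, ZMod.val_one]⟩
      · exact ⟨x, a, ha, by simp [e, e1, e2, ZMod.val_one]⟩
      · exact absurd (e1.trans e2.symm) hx
    have h3 := small (v := c • v) hA (S := {a • v, b • v, a • v + b • v})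
      ((Set.ncard_insert_le _ _).trans (Nat.succ_le_succ ((Set.ncard_insert_le _ _).trans (by simp))))
      fun d hd => by
        have h4 := e (d • x)
        rw [← mul_smul, hA.ab y hy d hd, mul_smul, hx, smul_add, add_assoc, add_right_inj] at h4
        rw [h4]
        rcases zc (tw φ a (d • x)) with e1 | e1 <;> rcases zc (tw φ b (d • x)) with e2 | e2
        · simp only [e1, e2, ZMod.val_zero, zero_smul, add_zero, ← mul_smul] at h4
          exact absurd h4 (tconj hs _).ne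
        all_goals simp [e1, e2, ZMod.val_one]
    have h4 := h3 _ (inv_mem hc')
    rw [inv_smul_smul] at h4
    exact h0 (h4 ▸ h3)
  let S : Set G := {x | (x ∈ A ∧ x • v = v) ∨ ∃ a ∈ A, x = a * s * a⁻¹}
  have sS : s ∈ S := .inr ⟨1, one_mem _, by simp⟩
  have c1 : ∀ x ∈ A, x • v = v → ∀ a ∈ A, x * (a * s * a⁻¹) = a * s * a⁻¹ * x := fun x hx e a ha => by
    rw [← mul_assoc, ← mul_assoc, hA.ab x hx a ha, mul_assoc a, hc x hx e, mul_assoc _ a⁻¹,
      hA.ab _ (inv_mem ha) x hx]; group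
  have cS : closure S ≤ 𝐂(closure S) := by
    rw [centralizer_closure, closure_le]
    rintro x (⟨x1, x2⟩ | ⟨a, ha, rfl⟩) y (⟨y1, y2⟩ | ⟨b, hb, rfl⟩)
    exacts [hA.ab y y1 x x1, (c1 x x1 x2 b hb).symm, c1 y y1 y2 a ha,
      tcomm hF (tconj hs b) (tconj hs a) (k2 b hb a ha) (k2 a ha b hb)]
  have SP : closure S ≤ P := (closure_le P).2 (by
    rintro x (⟨x1, -⟩ | ⟨a, ha, rfl⟩)
    exacts [h1 x1, cP a ha s h2])
  have fS : ∀ x : D, (∀ g ∈ S, g • x = x) → x ∈ fx (ac G D) ⊤ (closure S) := fun x hx =>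
    mem_fx.2 ((closure_le (MulAction.stabilizer G x)).2 hx)
  have n1 : Nat.card (fx (ac G D) ⊤ A) ≤ Nat.card (fx (ac G D) ⊤ (closure S)) :=
    (card_le_two _ φ).trans (two_card_le (x := v) (fun x hx => fS x (by
      rintro g (⟨g1, -⟩ | ⟨a, ha, rfl⟩)
      · exact mem_fx.1 hx.1 g g1
      · exact fix0 (tconj hs a) (by rw [tw_apply, mem_fx.1 hx.1 _ (inv_mem ha)]; exact hx.2)))
      (fS v (by
        rintro g (⟨-, g2⟩ | ⟨a, ha, rfl⟩)
        exacts [g2, fix0 (tconj hs a) (k1 _ (inv_mem ha))])) fun e => h0 (mem_fx.1 e.1))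
  have n2 : Nat.card A < Nat.card (closure S) := by
    have : ∀ t : G, ∃ u, ∀ a ∈ A, a * s * a⁻¹ = t → u ∈ A ∧ u * s * u⁻¹ = t := fun t => by
      by_cases e : ∃ a ∈ A, a * s * a⁻¹ = t
      · obtain ⟨u, hu⟩ := e; exact ⟨u, fun _ _ _ => hu⟩
      · exact ⟨1, fun a ha e' => absurd ⟨a, ha, e'⟩ e⟩
    choose ρ hρ using this
    have m1 : ∀ a ∈ A, (ρ (a * s * a⁻¹))⁻¹ * a ∈ A := fun a ha => mul_mem (inv_mem (hρ _ a ha rfl).1) ha
    have inj : Set.InjOn (fun a => (ρ (a * s * a⁻¹))⁻¹ * a * (a * s * a⁻¹)) A := fun a ha b hb e => by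
      have e' := key a ha b hb (by
        rw [eq_inv_mul_of_mul_eq e, mul_assoc, mul_assoc _ (b * s * b⁻¹), tsq hF (tconj hs b), mul_one]
        exact mul_mem (inv_mem (m1 a ha)) (m1 b hb))
      dsimp only at e
      rw [e'] at e
      exact mul_left_cancel (mul_right_cancel e)
    rw [← SetLike.coe_sort_coe, ← SetLike.coe_sort_coe (closure S), Nat.card_coe_set_eq,
      Nat.card_coe_set_eq, ← Set.ncard_image_of_injOn inj]
    refine Set.ncard_lt_ncard ⟨?_, fun e => ?_⟩ (Set.toFinite _)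
    · rintro _ ⟨a, ha, rfl⟩
      refine mul_mem (subset_closure (.inl ⟨m1 a ha, ?_⟩)) (subset_closure (.inr ⟨a, ha, rfl⟩))
      have := tconj hs (ρ (a * s * a⁻¹))
      rw [(hρ _ a ha rfl).2] at this
      rw [mul_smul, ctr (tconj hs a) this, inv_smul_smul]
    · obtain ⟨a, ha, e'⟩ := e (one_mem (closure S))
      have h3 := inv_mem (m1 a ha)
      rw [← eq_inv_of_mul_eq_one_right e'] at h3
      exact sA (by simpa [mul_assoc] using mul_mem (mul_mem (inv_mem ha) h3) ha)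
  obtain ⟨B, b1, b2⟩ := TVC.ovr hF (hP.to_le SP) (fun a ha b hb => mem_cent.1 (cS hb) a ha)
    (hA.val.trans_lt ((Nat.mul_le_mul_left _ n1).trans_lt
      (Nat.mul_lt_mul_of_pos_right n2 Nat.card_pos)))
  exact ⟨B, b2, b1.trans SP, b1.trans (cS.trans (cent_le_cent1 (subset_closure sS)))⟩

end Cfsg.Agent.Ch.V3
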