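import Cfsg.Agent.Ch.V1
import Cfsg.Agent.Ch.A

/-! Slice `B2A` of S5242, part 2: gluing the local primitives. -/

set_option autoImplicit false
set_option linter.unusedSectionVars false

namespace Cfsg.Agent.Ch.V3

open Subgroup Cfsg.Agent.H1 Cfsg.Agent.L Cfsg.Agent.FT
open scoped Pointwise

variable {G D X : Type} [Group G] [Finite G] [AddCommGroup D] [Finite D] [DistribMulAction G D]
  [MulAction G X] [TVC]
  {s t u r g : G} {v w : D} {φ ψ : D →+ ZMod 2} {A B K : Subgroup G} {a b c : X} {F : X → X → D}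

theorem axs (h : Tv t v φ) (h' : Tv t w ψ) : φ = ψ := AddMonoidHom.ext fun x => by
  have := (fix_iff h (x := x)).symm.trans (fix_iff h')
  rcases zc (φ x) with e | e <;> rcases zc (ψ x) with e' | e' <;> simp_all

theorem has_mate (hF : Fa G D) (hs : Tv s v φ) (hu : Tv u v ψ) (h : s ≠ u) :
    ∃ r w, Tv r w φ ∧ r ≠ s := by
  obtain ⟨u', r, w, χ, h1, h2, -, -, h3⟩ := TVC.share hF hs hu h
  have h4 : u' ≠ s := by
    rcases h1 with ⟨rfl, -⟩ | ⟨rfl, -⟩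
    exacts [h.symm, fun e => tne hu (mul_eq_left.1 e)]
  obtain ⟨u'', r', w', χ', ⟨rfl, rfl⟩ | ⟨rfl, -⟩, h5, h6, h7, -⟩ := TVC.share hF h2 hs h4
  · exact ⟨r', w', h6, h7⟩
  · rw [tcomm hF h2 hs h2.self hs.self, ← h3] at h5 h7
    have h8 := tconj h6 r⁻¹
    rw [axs h5 (tconj hs r), tw_tw] at h8
    exact ⟨_, _, h8, fun e => h7 (by rw [← e]; group)⟩

theorem memK (hF : Fa G D) (hs : Tv s v φ) (hm : ¬ ∃ r w, Tv r w φ ∧ r ≠ s) (hA : Mem D A)
    (h1 : A ≤ K) (h2 : s ∈ K) : ∃ B, Mem D B ∧ B ≤ K ∧ B ≤ 𝐂[s] := by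
  obtain ⟨P, p1, p2⟩ := exists_isSylowIn_ge (tpg hF hs) (zpowers_le.2 h2)
  obtain ⟨x, -, hx⟩ := sylow_exists_conj_le Nat.prime_two p1 h1 hA.pg
  obtain ⟨B, b1, b2, b3⟩ := lemO hF (mconj hA x) hs p1.isPGroup hx (p2 (mem_zpowers s))
    fun y _ e => by_contra fun e' => hm (has_mate hF hs (e ▸ tconj hs y) fun e'' =>
      e' (eq_mul_inv_iff_mul_eq.1 e'').symm)
  exact ⟨B, b1, b2.trans p1.le, b3⟩

theorem memC (hF : Fa G D) (hA : Mem D A) (hs : Tv s v φ) : ∃ B, Mem D B ∧ B ≤ 𝐂[s] := by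
  by_cases hm : ∃ r w, Tv r w φ ∧ r ≠ s
  · obtain ⟨r, w, r1, r2⟩ := hm
    obtain ⟨B, b1, b2⟩ := mate_le hF hs r1 r2
    exact ⟨B, b1, b2 _ (self_mem_cent1 s) (mem_cent1.2 (tcomm hF r1 hs hs.self r1.self))⟩
  · obtain ⟨B, b1, -, b2⟩ := memK hF hs hm hA le_top trivial
    exact ⟨B, b1, b2⟩

theorem memCC (hF : Fa G D) (hA : Mem D A) (hs : Tv s v φ) (ht : Tv t w ψ) (h : s * t = t * s)
    (hv : v ≠ w) : ∃ B, Mem D B ∧ B ≤ 𝐂[t] ∧ B ≤ 𝐂[s] := by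
  by_cases hm : ∃ r w, Tv r w φ ∧ r ≠ s
  · obtain ⟨r, w', r1, r2, r3⟩ : ∃ r w', Tv r w' φ ∧ r ≠ s ∧ r * t = t * r := by
      obtain ⟨r, w', r1, r2⟩ := hm
      rcases zc (ψ w') with e | e
      · exact ⟨r, w', r1, r2, tcomm hF r1 ht (of_comm hs ht h) e⟩
      · have h1 := tcom hF r1 ht e (of_comm hs ht h)
        exact ⟨_, _, h1, fun e' => hv (ctr hs (e' ▸ h1)), tcomm hF h1 ht h1.self ht.self⟩
    obtain ⟨B, b1, b2⟩ := mate_le hF hs r1 r2
    exact ⟨B, b1, b2 _ (mem_cent1.2 h) (mem_cent1.2 r3),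
      b2 _ (self_mem_cent1 s) (mem_cent1.2 (tcomm hF r1 hs hs.self r1.self))⟩
  · obtain ⟨B, b1, b2⟩ := memC hF hA ht
    exact memK hF hs hm b1 b2 (mem_cent1.2 h)

theorem memP (hF : Fa G D) (hA : Mem D A) (hs : Tv s v φ) (hK : IsPGroup 2 K) (h1 : A ≤ K)
    (h2 : s ∈ K) : ∃ t ∈ K, ∃ ψ, Tv t v ψ ∧ ∃ B, Mem D B ∧ B ≤ K ∧ B ≤ 𝐂[t] := by
  let R : Subgroup G :=
    { carrier := {x | x ∈ K ∧ (x = 1 ∨ ∃ ψ, Tv x v ψ)}
      one_mem' := ⟨one_mem _, .inl rfl⟩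
      mul_mem' := by
        rintro x y ⟨x1, rfl | ⟨ψ, x2⟩⟩ ⟨y1, rfl | ⟨χ, y2⟩⟩
        · exact ⟨mul_mem x1 y1, .inl (mul_one 1)⟩
        · exact ⟨mul_mem x1 y1, .inr ⟨χ, by rwa [one_mul]⟩⟩
        · exact ⟨mul_mem x1 y1, .inr ⟨ψ, by rwa [mul_one]⟩⟩
        · refine ⟨mul_mem x1 y1, (em (ψ = χ)).imp ?_ fun e => ⟨_, mul_centre x2 y2 e⟩⟩
          rintro rfl
          rw [text hF x2 y2, tsq hF y2]
      inv_mem' := by
        rintro x ⟨x1, rfl | ⟨ψ, x2⟩⟩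
        exacts [⟨inv_mem x1, .inl inv_one⟩, ⟨inv_mem x1, .inr ⟨ψ, by rwa [tinv hF x2]⟩⟩] }
  obtain ⟨t, ⟨⟨t1, t2⟩, t3⟩, t4⟩ := exists_mem_ne_one (inf_cent_ne_bot_of_pgroup Nat.prime_two
    (H := R) (K := A ⊓ MulAction.stabilizer G v) (hK.to_le fun x hx => hx.1) hA.pg.to_inf_left
    (le_norm_iff.2 (by
      rintro y ⟨y1, y2⟩ x ⟨x1, rfl | ⟨ψ, x2⟩⟩
      · simpa using one_mem R
      · exact ⟨mul_mem (mul_mem (h1 y1) x1) (inv_mem (h1 y1)), .inr ⟨_, (show y • v = v from y2) ▸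
          tconj x2 y⟩⟩)) (ne_bot_of_mem (x := s) ⟨h2, .inr ⟨φ, hs⟩⟩ (tne hs)))
  obtain ⟨ψ, t5⟩ := t2.resolve_left t4
  exact ⟨t, t1, ψ, t5, lemO hF hA t5 hK h1 t1 fun y y1 y2 => mem_cent.1 t3 y ⟨y1, y2⟩⟩

variable (D) in
/-- points fixed by `t` and by a member that centralises `t` -/
def Gd (t : G) (a : X) : Prop := t • a = a ∧ ∃ A, Mem D A ∧ A ≤ 𝐂[t] ∧ ∀ g ∈ A, g • a = a

theorem Gd.conj (h : Gd D t a) (g : G) : Gd D (g * t * g⁻¹) (g • a) := by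
  obtain ⟨h1, A, h2, h3, h4⟩ := h
  refine ⟨by rw [mul_smul, inv_smul_smul, mul_smul, h1], g ⋆ A, mconj h2 g,
    conj_cent1 g t ▸ conj_mono g h3, fun y hy => ?_⟩
  obtain ⟨y, hy', rfl⟩ := mem_conj'.1 hy
  rw [mul_smul, inv_smul_smul, mul_smul, h4 y hy']

variable (G) in
/-- the data of the gluing argument -/
structure Cf (F : X → X → D) : Prop where
  fa : Fa G D
  geo : Geo 2 (⊤ : Subgroup G) (Set.univ : Set X)
  ex : ∃ A : Subgroup G, Mem D A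
  eqv : ∀ (g : G) a b, F (g • a) (g • b) = g • F a b
  coc : ∀ {t : G} {v : D} {φ}, Tv t v φ → ∀ a b c, t • a = a → t • b = b → t • c = c →
    F b c - F a c + F a b = 0
  good : ∀ {t : G} {v : D} {φ}, Tv t v φ → ∀ a b, Gd D t a → Gd D t b → F a b = 0

variable [Nonempty X]

variable (F) in
/-- the local primitive -/
noncomputable def gv (t : G) (b : X) : D := F (Classical.epsilon (Gd D t)) b

namespace Cf
variable (C : Cf G F)
include C

theorem pt (hB : Mem D B) (hs : Tv s v φ) (ht : Tv t w ψ) (h : s * t = t * s) (h1 : B ≤ 𝐂[t])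
    (h2 : B ≤ 𝐂[s]) : ∃ a : X, Gd D s a ∧ Gd D t a := by
  obtain ⟨a, -, ha⟩ := C.geo.fix ((B ⊔ zpowers s) ⊔ zpowers t) le_top (pgroup_sup (pgroup_sup hB.pg
    (tpg C.fa hs) (.inl (le_norm_zpowers_of_cent h2))) (tpg C.fa ht)
    (.inl (le_norm_zpowers_of_cent (sup_le h1 (zpowers_le.2 (mem_cent1.2 h))))))
  have hb : ∀ g ∈ B, g • a = a := fun g hg => ha g (mem_sup_left (mem_sup_left hg))
  exact ⟨a, ⟨ha s (mem_sup_left (mem_sup_right (mem_zpowers s))), B, hB, h2, hb⟩,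
    ha t (mem_sup_right (mem_zpowers t)), B, hB, h1, hb⟩

theorem gd (ht : Tv t v φ) : Gd D t (Classical.epsilon (Gd D t) : X) := by
  obtain ⟨A, hA⟩ := C.ex
  obtain ⟨B, b1, b2⟩ := memC C.fa hA ht
  exact Classical.epsilon_spec ((C.pt b1 ht ht rfl b2 b2).imp fun _ => And.left)

theorem gv_sub (ht : Tv t v φ) (hb : t • b = b) (hc : t • c = c) : gv F t c - gv F t b = F b c := by
  have := C.coc ht _ b c (C.gd ht).1 hb hc
  rw [gv, gv, eq_comm, ← sub_eq_zero, ← this]; abel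

theorem gv_zero (ht : Tv t v φ) (ha : Gd D t a) : gv F t a = 0 := C.good ht _ _ (C.gd ht) ha

theorem gv_conj (ht : Tv t v φ) (hb : t • b = b) (g : G) :
    gv F (g * t * g⁻¹) (g • b) = g • gv F t b := by
  have h1 := (C.gd ht).conj g
  have h2 := C.gv_sub (tconj ht g) h1.1 (c := g • b) (by rw [mul_smul, inv_smul_smul, mul_smul, hb])
  rwa [C.gv_zero (tconj ht g) h1, sub_zero, C.eqv] at h2

theorem cst (hs : Tv s v φ) (ht : Tv t w ψ) (h1 : s • b = b) (h2 : t • b = b) (h3 : s • c = c)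
    (h4 : t • c = c) : gv F s c - gv F t c = gv F s b - gv F t b := by
  rw [sub_eq_sub_iff_sub_eq_sub, C.gv_sub hs h1 h3, C.gv_sub ht h2 h4]

theorem edge (hs : Tv s v φ) (hu : Tv u v ψ) (h : s ≠ u) (h1 : s • b = b) (h2 : u • b = b) :
    gv F s b = gv F u b ∨ gv F s b = gv F (s * u) b := by
  obtain ⟨u', r, w, χ, e, u1, r1, -, r2⟩ := TVC.share C.fa hs hu h
  have ub : u' • b = b := by
    rcases e with ⟨rfl, -⟩ | ⟨rfl, -⟩
    exacts [h2, by rw [mul_smul, h2, h1]]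
  have k : gv F s b = gv F (s * u') b := by
    have a1 := C.gv_conj hs h1 u'
    have a2 := C.gv_conj u1 ub u'
    rw [tcomm C.fa u1 hs u1.self hs.self, mul_inv_cancel_right, ub] at a1
    rw [mul_inv_cancel_right, ub] at a2
    have a3 : r • (gv F s b - gv F u' b) = gv F s b - gv F u' b :=
      fix0 r1 ((fix_iff u1).1 (by rw [smul_sub, ← a1, ← a2]))
    have e' : r * u' * r⁻¹ = u' := by rw [tcomm C.fa r1 u1 u1.self r1.self, mul_inv_cancel_right]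
    have t1 := tconj hs r
    rw [r2] at t1
    rw [smul_sub, ← C.gv_conj hs h1, ← C.gv_conj u1 ub, r2, e', C.cst t1 u1 (b := b)
      (by rw [mul_smul, ub, h1]) ub (by rw [← r2, mul_smul, inv_smul_smul, mul_smul, h1])
      (by rw [← e', mul_smul, inv_smul_smul, mul_smul, ub])] at a3
    exact (sub_left_inj.1 a3).symm
  rcases e with ⟨rfl, -⟩ | ⟨rfl, -⟩
  · exact .inr k
  · exact .inl (by rwa [← mul_assoc, tsq C.fa hs, one_mul] at k)

theorem z_comm (hs : Tv s v φ) (ht : Tv t w ψ) (h : s * t = t * s) (h1 : s • b = b)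
    (h2 : t • b = b) : gv F s b = gv F t b := by
  by_cases hv : v = w
  · subst hv
    by_cases e : s = t
    · rw [e]
    rcases C.edge hs ht e h1 h2 with e1 | e1
    · exact e1
    rcases C.edge ht hs (Ne.symm e) h2 h1 with e2 | e2
    · exact e2.symm
    · rw [e1, e2, h]
  · obtain ⟨A, hA⟩ := C.ex
    obtain ⟨B, b1, b2, b3⟩ := memCC C.fa hA hs ht h hv
    obtain ⟨a, a1, a2⟩ := C.pt b1 hs ht h b2 b3
    rw [← sub_eq_zero, C.cst hs ht a1.1 a2.1 h1 h2, C.gv_zero hs a1, C.gv_zero ht a2, sub_zero]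

theorem z_one (hs : Tv s v φ) (ht : Tv t w ψ) (e1 : ψ v = 1) (e2 : φ w = 0) (h1 : s • b = b)
    (h2 : t • b = b) : gv F s b = gv F t b := by
  have h3 := tcom C.fa hs ht e1 e2
  have h4 : (s * (t * s * t⁻¹)) • b = b :=
    mul_mem (s := MulAction.stabilizer G b) h1 (mul_mem (mul_mem h2 h1) (inv_mem h2))
  rw [C.z_comm hs h3 (tcomm C.fa hs h3 e2 hs.self) h1 h4,
    C.z_comm h3 ht (tcomm C.fa h3 ht e2 ht.self) h4 h2]

theorem pg (b : X) : IsPGroup 2 (MulAction.stabilizer G b) := (C.geo.pg b trivial).to_le (by simp)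

theorem z_all (hs : Tv s v φ) (ht : Tv t w ψ) (h1 : s • b = b) (h2 : t • b = b) :
    gv F s b = gv F t b := by
  rcases zc (ψ v) with e1 | e1
  · rcases zc (φ w) with e2 | e2
    exacts [C.z_comm hs ht (tcomm C.fa hs ht e2 e1) h1 h2, (C.z_one ht hs e2 e1 h2 h1).symm]
  · exact C.z_one hs ht e1 (not_pg (C.pg b) ht hs h2 h1 e1) h1 h2

theorem glue : ∃ γ : X → D, (∀ (g : G) a, γ (g • a) = g • γ a) ∧
    (∀ (A : Subgroup G) a, Mem D A → (∀ g ∈ A, g • a = a) → γ a = 0) ∧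
    ∀ {t : G} {v : D} {φ}, Tv t v φ → ∀ a b, t • a = a → t • b = b → γ b - γ a = F a b := by
  classical
  let T : X → G → Prop := fun a t => t • a = a ∧ ∃ (v : D) (φ : D →+ ZMod 2), Tv t v φ
  let γ : X → D := fun a => if ∃ t, T a t then gv F (Classical.epsilon (T a)) a else 0
  have e : ∀ {t : G} {v : D} {φ}, Tv t v φ → ∀ a, t • a = a → γ a = gv F t a := fun ht a ha => by
    have h : ∃ t, T a t := ⟨_, ha, _, _, ht⟩
    obtain ⟨h1, _, _, h2⟩ := Classical.epsilon_spec h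
    exact (if_pos h).trans (C.z_all h2 ht h1 ha)
  refine ⟨γ, fun g a => ?_, fun A a hA ha => ?_, fun ht a b ha hb => ?_⟩
  · by_cases h : ∃ t, T a t
    · obtain ⟨t, h1, v, φ, h2⟩ := h
      rw [e h2 a h1, e (tconj h2 g) _ (by rw [mul_smul, inv_smul_smul, mul_smul, h1]), C.gv_conj h2 h1]
    · have h' : ¬ ∃ t, T (g • a) t := fun ⟨t, h1, v, φ, h2⟩ => h ⟨_, by
        rw [inv_inv, mul_smul, mul_smul, h1, inv_smul_smul], _, _, tconj h2 g⁻¹⟩
      simp only [γ, if_neg h, if_neg h', smul_zero]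
  · by_cases h : ∃ t, T a t
    · obtain ⟨s, h1, v, φ, h2⟩ := h
      obtain ⟨t, t1, ψ, t2, B, b1, b2, b3⟩ := memP C.fa hA h2 (C.pg a) ha h1
      rw [e t2 a t1, C.gv_zero t2 ⟨t1, B, b1, b3, b2⟩]
    · exact if_neg h
  · rw [e ht a ha, e ht b hb, C.gv_sub ht ha hb]

end Cf

end Cfsg.Agent.Ch.V3

namespace Cfsg.Agent.Ch

open Subgroup Cfsg.Agent.H1 Cfsg.Agent.L Cfsg.Agent.FT V3
open scoped Pointwise

instance instB2A [NRM] [TVC] : B2A where
  out := by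
    intro G D X _ _ _ _ _ _ _ hF hG hA
    have hM : Mod 2 (⊤ : Subgroup G) (ac G D) ⊤ :=
      ⟨fun _ _ _ _ => trivial, inferInstance, hF.tor.imp fun _ h x _ => h x⟩
    have hN : NG 2 (⊤ : Subgroup G) (ac G D) ⊤ (Mem D) :=
      ⟨fun g _ A _ h => mconj h g, fun A _ _ h A₀ h1 h2 a ha _ w hw h3 => by
        rw [Finset.sum_range_succ, Finset.sum_range_one, pow_zero, pow_one,
          (h.idx A₀ h1 h2 hw).2 a ha, (h.idx A₀ h1 h2 hw).2 1 (one_mem _), ← two_nsmul, h3]⟩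
    let Q : Subgroup G → Prop := fun P => ∃ A ≤ P, Mem D A
    have hU : Up 2 (⊤ : Subgroup G) Q := ⟨fun P P' h _ _ ⟨A, h1, h2⟩ => ⟨A, h1.trans h, h2⟩,
      fun g _ P _ _ ⟨A, h1, h2⟩ => ⟨_, conj_mono g h1, mconj h2 g⟩⟩
    have hJ : ∀ P, Q P → Q (JJ (Mem D) P) := fun P ⟨A, h1, h2⟩ => ⟨A, le_JJ h2 h1, h2⟩
    have le1 : ∀ P, mix Q (fx (ac G D) ⊤) zr P ≤ fx (ac G D) ⊤ P := fun P => mix_le bot_le
    refine (NRM.n1 hG (act_ac ⊤) hM hN hU fun P _ _ => hJ P).trans (fun f hf hd => ?_)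
      (fun P _ => ?_) fun P _ => le1 P
    swap
    · by_cases h : Q P
      · rw [mix_pos (h.imp fun A e => ⟨e.1, e.2.toWOff⟩)]; exact bot_le
      · rw [mix_neg h]; exact mix_le bot_le
    haveI : Nonempty X := let ⟨a, _⟩ := hG.fix ⊥ le_top IsPGroup.of_bot; ⟨a⟩
    have coc : ∀ {t : G} {v : D} {φ}, Tv t v φ → ∀ l, On (Fx Set.univ (zpowers t)) 3 l → dd f l = 0 :=
      fun {t} _ _ ht l hl => by
        have := hd l (hl.mono (Set.subset_univ _))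
        rwa [mix_pos ⟨zpowers t, fun g hg => mem_st.2 ⟨trivial, fun a ha => (hl.2 a ha).2 g hg⟩,
          twoff hF ht⟩] at this
    have on2 : ∀ a b : X, On Set.univ 2 [a, b] := fun a b => ⟨rfl, fun _ _ => trivial⟩
    have fz : ∀ {t : G} {a : X}, t • a = a → a ∈ Fx Set.univ (zpowers t) := fun {t a} h =>
      ⟨trivial, (zpowers_le (H := MulAction.stabilizer G a)).2 h⟩
    obtain ⟨γ, g1, g2, g3⟩ := Cf.glue (G := G) (F := fun a b => f [a, b]) ⟨hF, hG, hA,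
      fun g a b => hf.eqv g trivial _ (on2 a b),
      fun ht a b c ha hb hc => (dd_three f a b c).symm.trans
        (coc ht _ (on_three.2 ⟨a, fz ha, b, fz hb, c, fz hc, rfl⟩)), fun {t} _ _ ht a b ha hb => by
      obtain ⟨k, k1, k2⟩ := NRM.n0 (hG.fx le_top (tpg hF ht) le_top (le_norm_zpowers_of_cent le_rfl))
        (act_ac _) (hM.sub le_top) (hN.sub le_top) (hU.sub le_top) (fun S _ => hJ S) f
        (co_succ (fun g _ l hl => hf.eqv g trivial l (hl.mono (Set.subset_univ _))) fun l hl => by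
          have h1 := hf.mem' (hl.mono (Set.subset_univ _))
          have h2 : st 𝐂[t] l ≤ st ⊤ l := fun g hg => mem_st.2 ⟨trivial, (mem_st.1 hg).2⟩
          by_cases h : Q (st 𝐂[t] l)
          · rw [mix_pos h]; rwa [mix_pos (h.imp fun A e => ⟨e.1.trans h2, e.2⟩)] at h1
          · rw [mix_neg h]; exact fx_anti _ h2 (le1 _ h1))
        fun l hl => coc ht l hl
      have k0 : ∀ a, Gd D t a → k [a] = 0 := fun a ⟨h1, A, h2, h3, h4⟩ => by
        have := k1.mem' (on_one.2 ⟨a, fz h1, rfl⟩)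
        rwa [mix_pos ⟨A, fun g hg => mem_st.2 ⟨h3 hg, by simpa using h4 g hg⟩, h2⟩] at this
      have := k2 _ (on_two.2 ⟨a, fz ha.1, b, fz hb.1, rfl⟩)
      rwa [dd_two, k0 a ha, k0 b hb, sub_zero, sub_zero] at this⟩
    have fix : ∀ (a : X) (P : Subgroup G), (∀ g ∈ P, g • a = a) → γ a ∈ fx (ac G D) ⊤ P :=
      fun a P h => V3.mem_fx.2 fun g hg => by rw [← g1, h g hg]
    refine ⟨fun l => l.head?.elim 0 γ, co_succ (fun g _ l hl => ?_) fun l hl => ?_, fun l hl => ?_⟩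
    · obtain ⟨a, -, rfl⟩ := on_one.1 hl
      exact g1 g a
    · obtain ⟨a, -, rfl⟩ := on_one.1 hl
      have s1 : ∀ g ∈ st (⊤ : Subgroup G) [a], g • a = a := fun g hg => (mem_st.1 hg).2 a (by simp)
      by_cases h : Q (st ⊤ [a])
      · rw [mix_pos h]
        obtain ⟨A, h1, h2⟩ := h
        exact g2 A a h2 fun g hg => s1 g (h1 hg)
      · rw [mix_neg h]; exact fix a _ s1
    · obtain ⟨a, -, b, -, rfl⟩ := on_two.1 hl
      have s1 : ∀ g ∈ st (⊤ : Subgroup G) [a, b], g • a = a := fun g hg => (mem_st.1 hg).2 a (by simp)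
      have s2 : ∀ g ∈ st (⊤ : Subgroup G) [a, b], g • b = b := fun g hg => (mem_st.1 hg).2 b (by simp)
      have h0 := hf.mem' hl
      rw [dd_two]
      change f [a, b] - (γ b - γ a) ∈ _
      by_cases h : ∃ B ≤ st (⊤ : Subgroup G) [a, b], WOff D B
      · rw [mix_pos h, mem_zr]
        obtain ⟨B, h1, h2⟩ := h
        obtain ⟨A, h3, h4⟩ | ⟨t, h3, v, φ, h4⟩ := TVC.woff hF ((hl.stb.pg hG).to_le h1) h2
        · rw [mix_pos ⟨A, h3.trans h1, h4⟩, mem_zr] at h0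
          rw [h0, g2 A a h4 fun g hg => s1 g (h1 (h3 hg)), g2 A b h4 fun g hg => s2 g (h1 (h3 hg))]
          simp
        · rw [g3 h4 a b (s1 t (h1 h3)) (s2 t (h1 h3)), sub_self]
      · rw [mix_neg h]
        exact sub_mem (le1 _ h0) (sub_mem (fix b _ s2) (fix a _ s1))

end Cfsg.Agent.Ch
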