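import Cfsg.Agent.H7.Basic

/-! A stable central extension of a Sylow subgroup extends to the whole group. -/

set_option autoImplicit false
set_option linter.style.haveILetI false

namespace Cfsg.Agent.Ch

open Subgroup Cfsg.Fus

universe u v

variable {K : Type u} {H : Type v} [Group K] [Group H]

/-- the pull-back of the wreath product -/
def wr (π : K →* H) : Subgroup ((H ⧸ π.range → K) ⋊[mulAutArrow] H) where
  carrier := {w | ∀ x, π (w.left x) = x.out⁻¹ * w.right * (w.right⁻¹ • x).out}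
  one_mem' x := by simp
  mul_mem' {a b} ha hb x := by
    change π (a.left x * b.left (a.right⁻¹ • x)) = _
    rw [map_mul, ha, hb, SemidirectProduct.mul_right, mul_inv_rev, mul_smul]; group
  inv_mem' {a} ha x := by
    change π ((a.left (a.right⁻¹⁻¹ • x))⁻¹) = _
    rw [map_inv, ha, SemidirectProduct.inv_right, smul_inv_smul]; group

theorem out_mem {T : Subgroup H} {g : H} {x y : H ⧸ T} (h : g • y = x) : x.out⁻¹ * g * y.out ∈ T := by
  rw [mul_assoc, ← QuotientGroup.eq, QuotientGroup.out_eq', ← h, ← smul_eq_mul, ← MulAction.Quotient.smul_mk,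
    QuotientGroup.out_eq']

theorem exists_sec (π : K →* H) (hc : π.ker ≤ center K)
    (hl : ∀ h : H, ∃ φ : K → K, HomOn φ ((π.range.map (MulAut.conj h).toMonoidHom).comap π) ∧
      (∀ x, h⁻¹ * π x * h ∈ π.range → π (φ x) = h⁻¹ * π x * h) ∧ ∀ a ∈ π.ker, φ a = a) :
    ∃ j : K →* wr π, (∀ s, (j s).1.right = π s) ∧ ∀ a ∈ π.ker, ∀ x, (j a).1.left x = a := by
  obtain ⟨b, u, hu, hb⟩ : ∃ (b : H ⧸ π.range → H ⧸ π.range) (u : H ⧸ π.range → K),
      (∀ x, π (u x) • b x = x) ∧ ∀ s x, b (π s • x) = b x := by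
    letI := MulAction.compHom (H ⧸ π.range) π
    have := fun x : H ⧸ π.range => (MulAction.orbitRel K _).symm (Quotient.mk_out (s := MulAction.orbitRel K _) x)
    choose u hu using this
    exact ⟨_, u, hu, fun s x => congrArg Quotient.out (Quotient.sound ⟨s, rfl⟩)⟩
  choose φ h1 h2 h3 using hl
  choose ρ hρ using fun x => out_mem (hu x)
  have st : ∀ s x, (b x).out⁻¹ * π ((u x)⁻¹ * s * u ((π s)⁻¹ • x)) * (b x).out ∈ π.range := fun s x =>
    out_mem (by
      rw [map_mul, map_mul, mul_smul, mul_smul, ← hb s⁻¹ x, map_inv π s, hu, smul_inv_smul, map_inv,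
        inv_smul_eq_iff, ← map_inv, hb, hu])
  have st' : ∀ s x, (u x)⁻¹ * s * u ((π s)⁻¹ • x) ∈ (π.range.map (MulAut.conj (b x).out).toMonoidHom).comap π :=
    fun s x => ⟨_, st s x, by simp [mul_assoc]⟩
  have hb' : ∀ s x, b ((π s)⁻¹ • x) = b x := fun s x => by rw [← map_inv, hb]
  refine ⟨MonoidHom.mk' (fun s => ⟨⟨fun x => ρ x * φ (b x).out ((u x)⁻¹ * s * u ((π s)⁻¹ • x)) *
    (ρ ((π s)⁻¹ • x))⁻¹, π s⟩, fun x => ?_⟩) fun s t => Subtype.ext (SemidirectProduct.ext (funext fun x => ?_)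
      (map_mul π s t)), fun _ => rfl, fun a ha x => ?_⟩
  · simp only [map_mul, map_inv, hρ, h2 _ _ (st s x), hb']; group
  · change _ = _ * _ * _ * (ρ ((π s)⁻¹ • x) * φ (b ((π s)⁻¹ • x)).out _ * _)
    have := h1 _ (st' s x) (hb' s x ▸ st' t ((π s)⁻¹ • x))
    rw [hb', mul_assoc _ _ (_ * _ * _), mul_assoc (ρ ((π s)⁻¹ • x)), inv_mul_cancel_left, ← mul_assoc,
      mul_assoc (ρ x), ← this]
    simp only [map_mul, mul_inv_rev, mul_smul, mul_assoc, mul_inv_cancel_left]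
  · have e : ∀ g, g * a = a * g := mem_center_iff.1 (hc ha)
    change ρ x * φ _ ((u x)⁻¹ * a * u ((π a)⁻¹ • x)) * (ρ ((π a)⁻¹ • x))⁻¹ = a
    rw [MonoidHom.mem_ker.1 ha, inv_one, one_smul, e, inv_mul_cancel_right, h3 _ a ha, e, mul_inv_cancel_right]

theorem exists_ext [Finite K] [Finite H] {p : ℕ} [Fact p.Prime] (hK : IsPGroup p K) (π₀ : K →* H)
    (hi : ¬ p ∣ π₀.range.index) (hc : π₀.ker ≤ center K)
    (hl : ∀ h : H, ∃ φ : K → K, HomOn φ ((π₀.range.map (MulAut.conj h).toMonoidHom).comap π₀) ∧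
      (∀ x, h⁻¹ * π₀ x * h ∈ π₀.range → π₀ (φ x) = h⁻¹ * π₀ x * h) ∧ ∀ a ∈ π₀.ker, φ a = a) :
    ∃ (G : Type (max u v)) (_ : Group G) (_ : Finite G) (π : G →* H) (j : K →* G), Function.Surjective π ∧
      Function.Injective j ∧ (∀ s, π (j s) = π₀ s) ∧ π.ker = π₀.ker.map j ∧ π.ker ≤ center G := by
  classical
  obtain ⟨j, j1, j2⟩ := exists_sec π₀ hc hl
  letI : CommGroup π₀.ker := { mul_comm := fun a b => Subtype.ext (mem_center_iff.1 (hc b.2) a) }
  haveI := Fintype.ofFinite (H ⧸ π₀.range)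
  haveI : Finite ((H ⧸ π₀.range → K) ⋊[mulAutArrow] H) := Finite.of_equiv _ SemidirectProduct.equivProd.symm
  let ι : (H ⧸ π₀.range → π₀.ker) →* wr π₀ := MonoidHom.mk' (fun n => ⟨⟨fun x => n x, 1⟩, fun x => by
    simp [MonoidHom.mem_ker.1 (n x).2]⟩) fun _ _ => Subtype.ext (SemidirectProduct.ext (funext fun x => by
      change _ = _ * (_ : π₀.ker).1; simp) (by simp))
  have hι : Function.Injective ι := fun n m e => funext fun x =>
    Subtype.ext (congrFun (congrArg (fun w : wr π₀ => w.1.left) e) x)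
  let pr : (H ⧸ π₀.range → π₀.ker) →* π₀.ker := MonoidHom.mk' (fun n => ∏ x, n x) fun _ _ => Finset.prod_mul_distrib
  have cj : ∀ (w : wr π₀) n, w * ι n * w⁻¹ = ι fun x => n (w.1.right⁻¹ • x) := fun w n =>
    mul_inv_eq_iff_eq_mul.2 (Subtype.ext (SemidirectProduct.ext (funext fun x => by
      change w.1.left x * (n _).1 = (n _).1 * w.1.left ((1 : H)⁻¹ • x)
      rw [inv_one, one_smul]; exact mem_center_iff.1 (hc (n _).2) _) (by simp [ι])))
  have cp : ∀ (g : H) n, pr (fun x => n (g • x)) = pr n := fun g n => Equiv.prod_comp (MulAction.toPerm g) n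
  haveI : (pr.ker.map ι).Normal := ⟨by
    rintro _ ⟨n, hn, rfl⟩ w
    exact ⟨_, (cp _ n).trans hn, (cj w n).symm⟩⟩
  have mk : ∀ n m, (ι n : wr π₀ ⧸ pr.ker.map ι) = ι m ↔ pr n = pr m := fun n m => by
    rw [QuotientGroup.eq, ← map_inv, ← map_mul, mem_map_iff_mem hι, MonoidHom.mem_ker, map_mul, map_inv,
      inv_mul_eq_one]
  have ja : ∀ a : π₀.ker, j a = ι fun _ => a := fun a =>
    Subtype.ext (SemidirectProduct.ext (funext (j2 a a.2)) ((j1 a).trans a.2))
  have pw : Function.Bijective fun a : π₀.ker => pr fun _ => a := by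
    have := ((hK.to_subgroup π₀.ker).powEquiv' hi).bijective
    convert this using 1
    ext a
    simp [pr, index, Nat.card_eq_fintype_card]
  have kr : ∀ w : wr π₀, w.1.right = 1 → ∃ n, w = ι n := fun w e =>
    ⟨fun x => ⟨w.1.left x, by simpa [e] using w.2 x⟩, Subtype.ext (SemidirectProduct.ext rfl e)⟩
  refine ⟨wr π₀ ⧸ pr.ker.map ι, inferInstance, inferInstance, QuotientGroup.lift _
    (SemidirectProduct.rightHom.comp (wr π₀).subtype) (by rintro _ ⟨n, -, rfl⟩; rfl),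
    (QuotientGroup.mk' _).comp j, fun g => ?_, (injective_iff_map_eq_one _).2 fun s e => ?_, j1, le_antisymm ?_ ?_, ?_⟩
  · choose n hn using fun x : H ⧸ π₀.range => out_mem (smul_inv_smul g x)
    exact ⟨(⟨⟨n, g⟩, hn⟩ : wr π₀), rfl⟩
  · obtain ⟨n, -, e'⟩ := (QuotientGroup.eq_one_iff _).1 e
    have hs : s ∈ π₀.ker := (j1 s).symm.trans (congrArg (fun w : wr π₀ => w.1.right) e'.symm)
    have := (mk _ 1).1 ((congrArg _ (ja ⟨s, hs⟩).symm).trans (e.trans (by rw [map_one]; rfl)))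
    exact congrArg Subtype.val (pw.1 (a₁ := ⟨s, hs⟩) (a₂ := 1) this)
  · rintro ⟨w⟩ e
    obtain ⟨n, rfl⟩ := kr w e
    obtain ⟨a, ha⟩ := pw.2 (pr n)
    exact ⟨a, a.2, (congrArg _ (ja a)).trans ((mk _ _).2 ha)⟩
  · rintro _ ⟨a, ha, rfl⟩
    exact (j1 a).trans ha
  · rintro ⟨w⟩ e
    obtain ⟨n, rfl⟩ := kr w e
    refine mem_center_iff.2 fun g => mul_inv_eq_iff_eq_mul.1 ?_
    obtain ⟨w, rfl⟩ := QuotientGroup.mk_surjective g
    exact (congrArg _ (cj w n)).trans ((mk _ _).2 (cp _ n))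

end Cfsg.Agent.Ch
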