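import Cfsg.Agent.Ch.X1
import Cfsg.Agent.L.Transport2
import Cfsg.Agent.H9.FactorSat

/-! Central factor systems and realizability: the easy direction, and the reduction of the hard
direction to `KEY`. -/

set_option autoImplicit false
set_option linter.style.haveILetI false

namespace Cfsg.Agent.Ch

open Subgroup Cfsg.Fus Cfsg.FusionSystem Cfsg.Agent.L

universe u v w

/-- `F` lives on a Sylow subgroup `S` of `G` and agrees with `F_S(G)` modulo the central subgroup `A`. -/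
structure Lift (p : ℕ) {G : Type*} [Group G] {S : Subgroup G} (A : Subgroup G) (F : FusionSystem S) :
    Prop where
  syl : IsSylowIn p S ⊤
  sat : F.IsSaturated p
  le : A ≤ S
  cen : A ≤ center G
  fix : ∀ ⦃P f⦄, F.IsMap P f → ∀ a ∈ P, a ∈ A → f a = a
  up : ∀ ⦃P : Subgroup G⦄ (g : G), P ≤ S → (∀ x ∈ P, g * x * g⁻¹ ∈ S) →
    ∃ f, F.IsMap P f ∧ ∀ x ∈ P, (g * x * g⁻¹)⁻¹ * f x ∈ A
  down : ∀ ⦃P f⦄, F.IsMap P f → ∃ g : G, ∀ x ∈ P, (g * x * g⁻¹)⁻¹ * f x ∈ A

class KEY : Prop where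
  out : ∀ {G : Type w} [Group G] [Finite G] {p : ℕ} [Fact p.Prime] {S A : Subgroup G}
    {F : FusionSystem S}, Lift p A F → F.IsRealizable p

variable {Ω : Type u} {Ω' : Type v} [Group Ω] [Group Ω'] {S A : Subgroup Ω} {S' : Subgroup Ω'}
  {F : FusionSystem S} {E : FusionSystem S'} {θ : S →* Ω'} {p : ℕ} [Fact p.Prime] [Finite S]

omit [Finite S] in
theorem real_factor (hA : F.IsCentral A) (hE : F.IsFactorSystem A θ E)
    (h : F.IsRealizable p) : E.IsRealizable p := by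
  obtain ⟨G, _, _, ι, hι, T, hT⟩ := h
  have hh := homOn_extFun ι
  let C : Subgroup G := centralizer (img (extFun ι) A : Set G)
  have mC : ∀ g, g ∈ C ↔ ∀ a ∈ A, extFun ι a * g = g * extFun ι a := fun g =>
    ⟨fun h a ha => h _ (mem_img_of_mem _ ha), fun h y hy => by
      obtain ⟨a, ha, rfl⟩ := (hh.mono hA.le).mem_img.1 hy; exact h a ha⟩
  have hC : ∀ s : S, ι s ∈ C := fun s => (mC _).2 fun a ha => by
    rw [← extFun_coe ι s, ← hh.map_mul (hA.le ha) s.2, ← hh.map_mul s.2 (hA.le ha),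
      hA.le_centralizer ha s s.2]
  let N : Subgroup C := (img (extFun ι) A).subgroupOf C
  haveI : N.Normal := ⟨fun n hn g => by
    rw [mem_subgroupOf] at hn ⊢
    have := g.2 _ hn
    rwa [coe_mul, coe_mul, ← this, coe_inv, mul_inv_cancel_right]⟩
  let φ : S →* C ⧸ N := (QuotientGroup.mk' N).comp (ι.codRestrict C hC)
  have hm : ∀ s : S, θ s ∈ S' := fun s => hE.range_eq ▸ ⟨s, rfl⟩
  have hs : Function.Surjective (θ.codRestrict S' hm) := fun y => by
    obtain ⟨s, hs⟩ := hE.range_eq.ge y.2; exact ⟨s, Subtype.ext hs⟩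
  have k : ∀ s : S, φ s = 1 ↔ (s : Ω) ∈ A := fun s => by
    refine (QuotientGroup.eq_one_iff _).trans (mem_subgroupOf.trans ⟨fun h => ?_, fun h => ?_⟩)
    · obtain ⟨a, ha, e⟩ := (hh.mono hA.le).mem_img.1 h
      rw [extFun_of_mem ι (hA.le ha)] at e
      exact (hι.1 e : (⟨a, _⟩ : S) = s) ▸ ha
    · exact (extFun_coe ι s ▸ mem_img_of_mem (extFun ι) h : ι s ∈ _)
  let ι' : S' →* C ⧸ N := MonoidHom.liftOfSurjective _ hs ⟨φ, fun s h => (k s).2
    ((hE.2.1 s).1 (congrArg Subtype.val h))⟩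
  have e : ∀ s : S, ι' ⟨θ s, hm s⟩ = φ s := fun s =>
    MonoidHom.liftOfRightInverse_comp_apply _ _ _ _ s
  have e' : ∀ x (hx : x ∈ S), extFun ι' (extFun θ x) = ((⟨extFun ι x, by
      rw [extFun_of_mem ι hx]; exact hC _⟩ : C) : C ⧸ N) := fun x hx => by
    rw [extFun_of_mem θ hx, extFun_of_mem ι' (hm _), e]
    exact congrArg QuotientGroup.mk (Subtype.ext (extFun_of_mem ι hx).symm)
  have inj : Function.Injective ι' := (injective_iff_map_eq_one _).2 fun y hy => by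
    obtain ⟨s, rfl⟩ := hs y
    exact Subtype.ext ((hE.2.1 s).2 ((k s).1 ((e s).symm.trans hy)))
  refine isRealizable_of_realized (ι := ι') (isRealizedBy_iff'.2 ⟨inj, fun P' f' hf' => ?_,
    fun P' f' hP' hm' g hg => ?_⟩) ?_
  · obtain ⟨f, hf, h1⟩ := hE.exists_lift hf'
    obtain ⟨g, hg⟩ := realized_exists_conj hι hf
    have hgC : g ∈ C := (mC _).2 fun a ha => by
      have := hg a (hE.le_pre _ ha)
      rw [hA.apply_eq hf (hE.le_pre _ ha) ha] at this
      exact eq_mul_inv_iff_mul_eq.1 this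
    refine ⟨((⟨g, hgC⟩ : C) : C ⧸ N), fun y hy => ?_⟩
    obtain ⟨x, hx, rfl⟩ := hE.exists_eq hf'.le hy
    rw [h1 x hx, e' _ (hf.mem hx), e' _ (hf.le hx)]
    exact congrArg _ (Subtype.ext (hg x hx))
  · obtain ⟨c, rfl⟩ := QuotientGroup.mk_surjective g
    have key : ∀ x, ∃ y, x ∈ preimageAlong θ P' → y ∈ S ∧ f' (extFun θ x) = extFun θ y ∧
        extFun ι y = c * extFun ι x * (c : G)⁻¹ := fun x => by
      by_cases hx : x ∈ preimageAlong θ P'
      swap
      · exact ⟨1, fun h => (hx h).elim⟩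
      obtain ⟨hxS, hxP⟩ := mem_preimageAlong.1 hx
      obtain ⟨y, hy, h2⟩ := hE.exists_eq le_rfl (hm' _ hxP)
      have hyS := preimageAlong_le _ _ hy
      have := hg _ hxP
      rw [← h2, e' _ hyS, e' _ hxS] at this
      obtain ⟨a, ha, h3⟩ := (hh.mono hA.le).mem_img.1 (mem_subgroupOf.1 (QuotientGroup.eq.1 this))
      refine ⟨y * a, fun _ => ⟨mul_mem hyS (hA.le ha), ?_, ?_⟩⟩
      · rw [(homOn_extFun θ).map_mul hyS (hA.le ha), h2, (hE.eq_one_iff (hA.le ha)).2 ha, mul_one]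
      · rw [hh.map_mul hyS (hA.le ha), h3]; simp
    choose f hf using key
    have := hE.isMap_of_le (realized_isMap hι (preimageAlong_le _ _) (fun x hx => (hf x hx).1)
      fun x hx => (hf x hx).2.2) (hE.le_pre _) fun x hx => (hf x hx).2.1
    rwa [hE.img_pre hP'] at this
  · have r : ι'.range = (ι.range.subgroupOf C).map (QuotientGroup.mk' N) := by
      ext z
      constructor
      · rintro ⟨y, rfl⟩
        obtain ⟨s, rfl⟩ := hs y
        exact ⟨⟨ι s, hC s⟩, ⟨s, rfl⟩, (e s).symm⟩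
      · rintro ⟨c, ⟨s, hs⟩, rfl⟩
        exact ⟨_, (e s).trans (congrArg QuotientGroup.mk (Subtype.ext hs))⟩
    have : (T : Subgroup G) ≤ C := by rw [hT]; rintro _ ⟨s, rfl⟩; exact hC s
    refine isSylowIn_top_iff.2 ⟨(T.subtype this).mapSurjective (QuotientGroup.mk'_surjective N), ?_⟩
    rw [r, ← hT]; rfl

theorem real_of_factor [KEY.{max u v}] (hS : IsPGroup p S) (hF : F.IsSaturated p) (hA : F.IsCentral A)
    (hE : F.IsFactorSystem A θ E) (h : E.IsRealizable p) : F.IsRealizable p := by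
  obtain ⟨H, _, _, ι, hι, T, hT⟩ := h
  have hm : ∀ s : S, θ s ∈ S' := fun s => hE.range_eq ▸ ⟨s, rfl⟩
  let π₀ : S →* H := ι.comp (θ.codRestrict S' hm)
  have e : ∀ x ∈ S, extFun π₀ x = extFun ι (extFun θ x) := fun x hx => by
    rw [extFun_of_mem θ hx, extFun_of_mem ι (hm _), extFun_of_mem π₀ hx]; rfl
  have r : π₀.range = T := by
    rw [hT]
    refine le_antisymm (by rintro _ ⟨s, rfl⟩; exact ⟨_, rfl⟩) ?_
    rintro _ ⟨y, rfl⟩
    obtain ⟨s, hs⟩ := hE.range_eq.ge y.2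
    exact ⟨s, congrArg ι (Subtype.ext hs)⟩
  have k : ∀ s : S, s ∈ π₀.ker ↔ (s : Ω) ∈ A := fun s =>
    ((injective_iff_map_eq_one' ι).1 hι.1 _).trans (Subtype.ext_iff.trans (hE.2.1 s))
  have hh := homOn_extFun π₀
  have up : ∀ (P : Subgroup Ω) (h : H), P ≤ S → (∀ x ∈ P, h * extFun π₀ x * h⁻¹ ∈ π₀.range) →
      ∃ f, F.IsMap (P ⊔ A) f ∧ ∀ x ∈ P, extFun π₀ (f x) = h * extFun π₀ x * h⁻¹ := fun P h hP hh' => by
    have key : ∀ y, ∃ z, y ∈ img (extFun θ) P → z ∈ S' ∧ extFun ι z = h * extFun ι y * h⁻¹ := fun y => by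
      by_cases hy : y ∈ img (extFun θ) P
      swap
      · exact ⟨1, fun h => (hy h).elim⟩
      obtain ⟨x, hx, rfl⟩ := (mem_img_extFun hP).1 hy
      obtain ⟨s, hs⟩ := hh' x hx
      exact ⟨θ s, fun _ => ⟨hm s, by rw [← e x (hP hx), ← hs, extFun_of_mem ι (hm s)]; rfl⟩⟩
    choose f' hf' using key
    obtain ⟨f, hf, h1⟩ := hE.exists_lift (realized_isMap hι (hE.img_le hP) (fun y hy => (hf' y hy).1)
      fun y hy => (hf' y hy).2)
    rw [hE.pre_img hP] at hf h1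
    refine ⟨f, hf, fun x hx => ?_⟩
    have hx' : x ∈ P ⊔ A := mem_sup_left hx
    rw [e _ (hf.mem hx'), ← h1 x hx', (hf' _ (mem_img_of_mem _ hx)).2, e x (hP hx)]
  obtain ⟨G, _, _, π, j, πs, ji, πj, πk, πc⟩ := exists_ext hS π₀ (r ▸ T.not_dvd_index)
    (fun s hs => mem_center_iff.2 fun t => Subtype.ext (hA.le_centralizer ((k s).1 hs) t t.2)) fun h => by
    let Q := (π₀.range.map (MulAut.conj h).toMonoidHom).comap π₀
    have mQ : ∀ x, x ∈ Q ↔ h⁻¹ * π₀ x * h ∈ π₀.range := fun x => mem_map_conj_iff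
    obtain ⟨f, hf, h1⟩ := up (Q.map S.subtype) h⁻¹ (map_subtype_le _) (by
      rintro _ ⟨x, hx, rfl⟩
      rw [inv_inv, coe_subtype, extFun_coe]; exact (mQ x).1 hx)
    have hf' := hf.mono le_sup_left
    let φ : S → S := extFun (hf'.homOn.toHom.codRestrict S fun x => hf'.mem x.2) ∘ S.subtype
    have hφ : ∀ x ∈ Q, (φ x : Ω) = f x := fun x hx =>
      congrArg Subtype.val (extFun_of_mem _ (mem_map_of_mem S.subtype hx))
    refine ⟨φ, (homOn_hom S.subtype Q).comp (homOn_extFun _) fun x hx => mem_map_of_mem _ hx,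
      fun x hx => ?_, fun a ha => Subtype.ext ?_⟩
    · have := h1 x (mem_map_of_mem S.subtype ((mQ x).2 hx))
      rwa [← hφ x ((mQ x).2 hx), extFun_coe, extFun_coe, inv_inv] at this
    · rw [hφ a ((mQ a).2 (by rw [MonoidHom.mem_ker.1 ha]; simp)),
        hA.apply_eq hf (mem_sup_right ((k a).1 ha)) ((k a).1 ha)]
  obtain ⟨η, hη⟩ := exists_pIso_of_injective j ji
  obtain ⟨F', t⟩ := hη.exists_transp le_rfl F hη.img_self
  have kk : img (extFun j) A = π.ker := by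
    rw [πk]
    ext y
    rw [hη.mem_img hA.le]
    exact ⟨fun ⟨x, hx, e⟩ => ⟨⟨x, hA.le hx⟩, (k _).2 hx, (extFun_of_mem j _).symm.trans e⟩,
      fun ⟨x, hx, e⟩ => ⟨x, (k _).1 hx, (extFun_coe j x).trans e⟩⟩
  have πe : ∀ x ∈ S, π (extFun j x) = extFun π₀ x := fun x hx => by
    rw [extFun_of_mem j hx, extFun_of_mem π₀ hx, πj]
  have πη : ∀ y ∈ j.range, extFun π₀ (η y) = π y := fun y hy => by
    rw [← πe _ (hη.mem' hy), hη.right hy]
  have jr : j.range = π₀.range.comap π := by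
    refine le_antisymm (by rintro _ ⟨s, rfl⟩; exact ⟨s, (πj s).symm⟩) ?_
    rintro g ⟨s, hs⟩
    obtain ⟨a, -, ha⟩ : (j s)⁻¹ * g ∈ π₀.ker.map j := by
      rw [← πk, MonoidHom.mem_ker, map_mul, map_inv, πj, hs, inv_mul_cancel]
    exact ⟨s * a, by rw [map_mul, ha, mul_inv_cancel_left]⟩
  have hA' := t.isCentral hA
  refine t.symm.isRealizable' (KEY.out (A := img (extFun j) A) ⟨isSylowIn_of_not_dvd_relIndex le_top
    (by rw [MonoidHom.range_eq_map]; exact (hS.to_subgroup ⊤).map j) ?_, t.isSaturated hF, hA'.le,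
    kk ▸ πc, fun P f hf a ha ha' => hA'.apply_eq hf ha ha', fun P g hP hg => ?_, fun P f hf => ?_⟩)
  · rw [relIndex_top_right, jr, index_comap_of_surjective _ πs, r]; exact T.not_dvd_index
  · obtain ⟨f, hf, h1⟩ := up (img η P) (π g) (t.img_le' hP) fun x hx => by
      obtain ⟨y, hy, rfl⟩ := (hη.symm.mem_img hP).1 hx
      have := hg y hy
      rw [jr, mem_comap, map_mul, map_mul, map_inv] at this
      rwa [πη y (hP hy)]
    have h2 := t.map (hf.mono le_sup_left)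
    rw [t.img_img' hP] at h2
    refine ⟨_, h2, fun y hy => ?_⟩
    have hy' := mem_img_of_mem η hy
    rw [kk, MonoidHom.mem_ker, map_mul, map_inv, inv_mul_eq_one, Function.comp_apply, Function.comp_apply,
      πe _ (hf.mem (mem_sup_left hy')), h1 _ hy', πη y (hP hy), map_mul, map_mul, map_inv]
  · obtain ⟨τ, h1, h2, -⟩ := hA.exists_ext (t.map' hf)
    obtain ⟨σ, h3, h4⟩ := hE.exists_ind_of_le hA.isNormal.stronglyClosed.weaklyClosed h1 le_sup_right
    obtain ⟨h, hh⟩ := realized_exists_conj hι h3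
    obtain ⟨g, rfl⟩ := πs h
    refine ⟨g, fun y hy => ?_⟩
    have hy' := mem_img_of_mem η hy
    have := hh _ (mem_img_of_mem _ (mem_sup_left hy'))
    rw [h4 _ (mem_sup_left hy'), ← e _ (h1.mem (mem_sup_left hy')), ← e _ (h1.le (mem_sup_left hy')),
      h2 _ hy', Function.comp_apply, Function.comp_apply, hη.right (hf.le hy), πη _ (hf.mem hy),
      πη _ (hf.le hy)] at this
    rw [kk, MonoidHom.mem_ker, map_mul, map_inv, inv_mul_eq_one, this, map_mul, map_mul, map_inv]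

theorem exotic_iff [KEY.{max u v}] (hS : IsPGroup p S) (hF : F.IsSaturated p) (hA : F.IsCentral A)
    (hE : F.IsFactorSystem A θ E) : F.IsExotic p ↔ E.IsExotic p :=
  ⟨fun h => ⟨hE.isSaturated hA.isNormal.stronglyClosed.weaklyClosed hF hS, mt (real_of_factor hS hF hA hE) h.2⟩,
    fun h => ⟨hF, mt (real_factor hA hE) h.2⟩⟩

end Cfsg.Agent.Ch
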