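import Cfsg.Agent.Ch.X2
import Cfsg.Agent.L.GroupFusion
import Cfsg.Agent.H7.Normal
import Cfsg.Agent.H6.Basic

/-! Fusion-theoretic lemmas on `Lift`. -/

set_option autoImplicit false

namespace Cfsg.Agent.Ch

open Subgroup Cfsg.Fus Cfsg.FusionSystem Cfsg.Agent.L Equiv

variable {G : Type*} [Group G] [Finite G] {p : ℕ} [Fact p.Prime] {S A P R : Subgroup G}
  {F : FusionSystem S} {f : G → G}

/-- `P/A` is `p`-centric in `G/A`. -/
def Cc (p : ℕ) (A P : Subgroup G) : Prop :=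
  ∀ g : G, (∃ n, g ^ p ^ n = 1) → (∀ x ∈ P, x⁻¹ * (g * x * g⁻¹) ∈ A) → g ∈ P

omit [Finite G] [Fact p.Prime] in
theorem Lift.comm (h : Lift p A F) {a : G} (ha : a ∈ A) (x : G) : x * a = a * x :=
  mem_center_iff.1 (h.cen ha) x

omit [Finite G] [Fact p.Prime] in
theorem Lift.cj (h : Lift p A F) {a : G} (ha : a ∈ A) (x : G) : x * a * x⁻¹ = a := by
  rw [h.comm ha, mul_inv_cancel_right]

omit [Finite G] [Fact p.Prime] in
theorem Lift.nrm (h : Lift p A F) : A.Normal := ⟨fun _ ha x => (h.cj ha x).symm ▸ ha⟩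

omit [Finite G] [Fact p.Prime] in
theorem Lift.cj_eq (h : Lift p A F) {u v : G} (e : u⁻¹ * v ∈ A) (y : G) : v * y * v⁻¹ = u * y * u⁻¹ := by
  rw [← mul_inv_cancel_left u v, mul_assoc u, ← h.comm e]; group

omit [Finite G] [Fact p.Prime] in
theorem Lift.pw (h : Lift p A F) {s : G} (hs : s ∈ S) : ∃ n, s ^ p ^ n = 1 :=
  (h.syl.isPGroup ⟨s, hs⟩).imp fun _ e => congrArg Subtype.val e

omit [Finite G] [Fact p.Prime] in
theorem Lift.le_cc (h : Lift p A F) (hP : Cc p A P) : A ≤ P := fun a ha =>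
  hP a (h.pw (h.le ha)) fun x _ => by rw [← h.comm ha]; simp

theorem Lift.op (h : Lift p A F) {σ : Perm G} (hσ : F.IsMap P σ) (hA : A ≤ P)
    (e : ∀ x ∈ P, x⁻¹ * σ x ∈ A) : σ ∈ F.opStab p P :=
  (hσ.iso_self fun x hx => by simpa using mul_mem hx (hA (e x hx))).mem_opStab_of_fix h.syl.isPGroup hA
    (fun τ hτ x hx => (h.fix hτ.isMap x (hA hx) hx).symm ▸ hx) (fun x hx => h.fix hσ x (hA hx) hx) e

/-- an `F`-map congruent to the identity on `P ∈ Cc` is inner -/
theorem Lift.inner (h : Lift p A F) (hP : Cc p A P) (hf : F.IsMap P f) (e : ∀ x ∈ P, x⁻¹ * f x ∈ A) :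
    ∃ z ∈ P, ∀ x ∈ P, f x = z * x * z⁻¹ := by
  have hA := h.le_cc hP
  have hm : ∀ x ∈ P, f x ∈ P := fun x hx => by simpa using mul_mem hx (hA (e x hx))
  obtain ⟨σ, hσ, e1⟩ := hf.exists_perm
  obtain ⟨Q, hQ, ha, -⟩ := h.sat P hf.le
  obtain ⟨φ, hφ⟩ := hQ.exists_iso
  have := h.op hσ hA fun x hx => e1 x hx ▸ e x hx
  rw [← conj_mem_conjP (φ := φ), hφ.conjP_opStab] at this
  obtain ⟨s, hs, -, e2⟩ := mem_innS.1 (ha.opStab_le this)
  obtain ⟨g, hg⟩ := h.down hφ.isMap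
  have e3 : ∀ x ∈ P, φ (f x) = s * φ x * s⁻¹ := fun x hx => by
    simpa [e1 x hx] using e2 _ (hφ.mem hx)
  have hz : g⁻¹ * s * g ∈ P := hP _ ((h.pw hs).imp fun n hn => by
    simpa [hn] using conj_pow (a := g⁻¹) (b := s) (i := p ^ n)) fun x hx => by
    have := h.nrm
    have e4 := congrArg (QuotientGroup.mk' A) (e3 x hx)
    have e5 := QuotientGroup.eq.2 (e x hx)
    simp only [QuotientGroup.mk'_apply, QuotientGroup.mk_mul, QuotientGroup.mk_inv, ← e5,
      ← QuotientGroup.eq.2 (hg x hx), ← QuotientGroup.eq.2 (hg _ (hm x hx))] at e4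
    rw [← QuotientGroup.eq]
    simp only [QuotientGroup.mk_mul, QuotientGroup.mk_inv]
    calc _ = (g : G ⧸ A)⁻¹ * (g * x * (g : G ⧸ A)⁻¹) * g := by group
      _ = _ := by rw [e4]; group
  refine ⟨_, hz, fun x hx => hφ.isMap.injOn ?_ (mul_mem (mul_mem hz hx) (inv_mem hz)) ?_⟩
  · exact hm x hx
  · rw [e3 x hx, hφ.homOn.map_conj hz hx, h.cj_eq (hg _ hz)]
    group

theorem Lift.cc (h : Lift p A F) (hc : F.IsCentric R) (hr : F.IsRadical p R) : Cc p A R := by
  have hA : ∀ {R}, F.IsCentric R → A ≤ R := fun hc a ha => hc.2 _ (F.isConj_refl hc.1)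
    ⟨h.le ha, fun x _ => h.comm ha x⟩
  intro g hg e
  have hn : g ∈ normalizer (R : Set G) := mem_normalizer_of_finite fun x hx => by
    simpa using mul_mem hx (hA hc (e x hx))
  obtain ⟨k, -, hk⟩ := h.syl.exists_conj_mem (Q := zpowers g ⊔ R) (IsPGroup.to_sup_of_normal_right'
    (hg.elim fun _ => H6.isPGroup_zpowers_of_pow) (isPGroup_of_le h.syl.isPGroup hc.1) (zpowers_le.2 hn)) le_top
  obtain ⟨f, hf, e1⟩ := h.up k hc.1 fun x hx => hk x (mem_sup_right hx)
  obtain ⟨σ, hσ, e2⟩ := hf.exists_perm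
  have m : ∀ y, y ∈ img σ R ↔ k⁻¹ * y * k ∈ R := fun y => by
    rw [hσ.img_eq_of_card (Q := img (Fus.cj k) R) (fun x hx => mem_img_cj.2 (by
      simpa [mul_assoc, e2 x hx] using mul_mem hx (hA hc (h.nrm.conj_mem' _ (e1 x hx) k))))
      ((homOn_cj k R).card_img (Fus.cj k).injective.injOn).le, mem_img_cj]
  have hc' := hc.of_isConj hσ.isConj
  have hs := hk g (mem_sup_left (mem_zpowers g))
  have := hc'.mem_of_cj_mem_opStab (hr.of_iso hσ.iso) hs (h.op (F.isMap_cj hc'.1 hs) (hA hc')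
    fun y hy => by rw [cj_apply]; simpa [mul_assoc] using h.nrm.conj_mem _ (e _ ((m y).1 hy)) k)
  simpa [m, mul_assoc] using this

theorem Lift.group (h : Lift p A F) : Lift p A (groupFusionSystem S) :=
  ⟨h.syl, isSaturated_groupFusionSystem h.syl.toSylowTop, h.le, h.cen, fun P f hf a ha ha' => by
    obtain ⟨-, -, g, e⟩ := isMap_group.1 hf; rw [e a ha, h.cj ha'],
    fun P g hP hg => ⟨_, isMap_group_cj hP hg, fun x _ => by simp [mul_assoc]⟩, fun P f hf => by
    obtain ⟨-, -, g, e⟩ := isMap_group.1 hf; exact ⟨g, fun x hx => by simp [e x hx, mul_assoc]⟩⟩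

theorem Lift.eq_group (h : Lift p A F) (H : ∀ R g, Cc p A R → R ≤ S → (∀ x ∈ R, g * x * g⁻¹ ∈ S) →
    F.IsMap R (Fus.cj g)) : F = groupFusionSystem S := by
  have hS := h.syl.isPGroup
  refine eq_of_le_of_ge (h.sat.le_of_essential hS fun R σ hR hσ => ?_)
    (h.group.sat.le_of_essential hS fun R σ hR hσ => ?_)
  · obtain ⟨-, hc, hr⟩ := h.sat.frc_of_alperin hS hR
    obtain ⟨g, hg⟩ := h.down hσ.isMap
    have hR := h.cc hc hr
    have m : ∀ x ∈ R, g * x * g⁻¹ ∈ R := fun x hx => by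
      simpa using mul_mem (hσ.mem hx) (inv_mem (h.le_cc hR (hg x hx)))
    have := ((H R g hR hc.1 fun x hx => hc.1 (m x hx)).iso_self m).symm
    obtain ⟨z, -, hz⟩ := h.inner hR (hσ.trans this).isMap fun x hx => by
      rw [Perm.mul_apply, cj_inv_apply]
      simpa [mul_assoc] using h.nrm.conj_mem' _ (hg x hx) g
    refine isMap_group.2 ⟨hc.1, fun x hx => hσ.isMap.mem hx, g * z, fun x hx => ?_⟩
    have := hz x hx
    rw [Perm.mul_apply, cj_inv_apply] at this
    calc _ = g * (g⁻¹ * σ x * g) * g⁻¹ := by group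
      _ = _ := by rw [this]; group
  · obtain ⟨-, hc, hr⟩ := h.group.sat.frc_of_alperin hS hR
    obtain ⟨-, h1, g, e⟩ := isMap_group.1 hσ.isMap
    exact (H R g (h.group.cc hc hr) hc.1 fun x hx => e x hx ▸ h1 x hx).congr e

/-- the final step: twisting by a homomorphism `η : S → A` -/
theorem Lift.real (h : Lift p A F) {η : G → G} (hη : HomOn η S) (h1 : ∀ x ∈ S, η x ∈ A)
    (h2 : ∀ a ∈ A, η a = 1) (H : ∀ R g, Cc p A R → R ≤ S → (∀ x ∈ R, g * x * g⁻¹ ∈ S) →
    F.IsMap R fun x => g * x * g⁻¹ * η (g * x * g⁻¹) * (η x)⁻¹) : F.IsRealizable p := by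
  have e : ∀ x ∈ S, ∀ a ∈ A, η (x * a) = η x := fun x hx a ha => by
    rw [hη.map_mul hx (h.le ha), h2 a ha, mul_one]
  have t : PIso S S (fun x => x * (η x)⁻¹) (fun x => x * η x) := ⟨fun x hx y hy => by
      rw [hη.map_mul hx hy, mul_assoc x (η x)⁻¹, ← h.comm (inv_mem (h1 x hx))]; group,
    fun x hx => mul_mem hx (inv_mem (h.le (h1 x hx))), fun x hx => mul_mem hx (h.le (h1 x hx)),
    fun x hx => by simp [e x hx _ (inv_mem (h1 x hx))], fun x hx => by simp [e x hx _ (h1 x hx)]⟩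
  obtain ⟨F', k⟩ := t.exists_transp le_rfl F t.img_self
  have := h.nrm
  have q : ∀ x ∈ S, ((η x : G) : G ⧸ A) = 1 := fun x hx => (QuotientGroup.eq_one_iff _).2 (h1 x hx)
  have h' : Lift p A F' := by
    refine ⟨h.syl, k.isSaturated h.sat, h.le, h.cen, fun P f hf a ha ha' => ?_, fun P g hP hg => ?_,
      fun P f hf => ?_⟩
    · have := h.fix (k.map' hf) a (by simpa [h2 a ha'] using mem_img_of_mem (fun x => x * η x) ha) ha'
      have e1 := t.right (hf.mem ha)
      simp only [Function.comp_apply, h2 a ha', inv_one, mul_one] at this e1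
      rw [← e1, this, h2 a ha', inv_one, mul_one]
    · obtain ⟨f, hf, e1⟩ := h.up g (k.img_le' hP) fun x hx => by
        obtain ⟨y, hy, rfl⟩ := (t.symm.mem_img hP).1 hx
        simpa [mul_assoc] using mul_mem (hg y hy) (h.le (h.nrm.conj_mem _ (h1 y (hP hy)) g))
      have h3 := k.map hf
      rw [k.img_img' hP] at h3
      refine ⟨_, h3, fun y hy => QuotientGroup.eq.1 ?_⟩
      have hy' := mem_img_of_mem (fun x => x * η x) hy
      simpa [q _ (hP hy), q _ (hf.mem hy')] using QuotientGroup.eq.2 (e1 _ hy')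
    · obtain ⟨g, e1⟩ := h.down (k.map' hf)
      refine ⟨g, fun y hy => QuotientGroup.eq.1 ?_⟩
      have := QuotientGroup.eq.2 (e1 _ (mem_img_of_mem (fun x => x * η x) hy))
      rw [Function.comp_apply, Function.comp_apply, t.right (hf.le hy)] at this
      simpa [q _ (hf.le hy), q _ (hf.mem hy)] using this
  refine k.symm.isRealizable' ?_
  rw [h'.eq_group fun R g hR hRS hg => ?_]
  · exact isRealizable_of_realized (group_realizedBy_subtype S) (by rw [range_subtype]; exact h.syl)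
  · have m := h.le_cc hR
    have i : img (fun x => x * (η x)⁻¹) R = R := (t.hom.mono hRS).img_eq_of_card (t.injOn.mono hRS)
      (fun x hx => mul_mem hx (inv_mem (m (h1 x (hRS hx))))) le_rfl
    rw [← i]
    refine k.map_of_rep (H R g hR hRS hg) fun x hx => ?_
    have a1 := h1 _ (hg x hx)
    have a2 := inv_mem (h1 _ (hRS hx))
    rw [cj_apply, mul_assoc (g * x * g⁻¹), e _ (hg x hx) _ (mul_mem a1 a2), h.comm a2 (η _),
      ← mul_assoc g, mul_assoc (g * x), ← h.comm a2]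
    group

end Cfsg.Agent.Ch
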