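import Cfsg.Agent.Ch.X3
import Cfsg.Agent.Ch.I
import Cfsg.Agent.H5.PPart

/-! `KEY` from `HK`. -/

set_option autoImplicit false
set_option linter.style.haveILetI false

namespace Cfsg.Agent.Ch

open Subgroup Cfsg.Fus Cfsg.FusionSystem Cfsg.Agent.L Equiv
open scoped commutatorElement

universe w

section
variable {G : Type*} [Group G] [Finite G] {p : ℕ} [Fact p.Prime] {S A P R : Subgroup G}
  {F : FusionSystem S} {f f' : G → G}

theorem Lift.inner' (h : Lift p A F) (hA : A ≤ P) (hf : F.IsMap P f) (e : ∀ x ∈ P, x⁻¹ * f x ∈ A) :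
    ∃ z, ∀ x ∈ P, f x = z * x * z⁻¹ := by
  obtain ⟨σ, hσ, e1⟩ := hf.exists_perm
  obtain ⟨Q, hQ, ha, -⟩ := h.sat P hf.le
  obtain ⟨φ, hφ⟩ := hQ.exists_iso
  have := h.op hσ hA fun x hx => e1 x hx ▸ e x hx
  rw [← conj_mem_conjP (φ := φ), hφ.conjP_opStab] at this
  obtain ⟨s, hs, -, e2⟩ := mem_innS.1 (ha.opStab_le this)
  obtain ⟨g, hg⟩ := h.down hφ.isMap
  refine ⟨g⁻¹ * s * g, fun x hx => ?_⟩
  have e3 : φ (f x) = s * φ x * s⁻¹ := by simpa [e1 x hx] using e2 _ (hφ.mem hx)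
  have e4 : φ (f x) = φ x * (x⁻¹ * f x) := by
    rw [← h.fix hφ.isMap _ (hA (e x hx)) (e x hx), ← hφ.homOn.map_mul hx (hA (e x hx)), mul_inv_cancel_left]
  have e5 : x⁻¹ * f x = (φ x)⁻¹⁻¹⁻¹ * s * (φ x)⁻¹⁻¹ * s⁻¹ := by
    rw [mul_assoc, mul_assoc, inv_inv, inv_inv, ← mul_assoc s, ← e3, e4, inv_mul_cancel_left]
  rw [inv_inv (φ x)⁻¹, h.cj_eq (u := (g * x * g⁻¹)⁻¹) (by
    simpa [mul_assoc] using h.nrm.conj_mem _ (inv_mem (hg x hx)) (φ x)), ← h.cj (e x hx) g] at e5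
  calc _ = x * g⁻¹ * (g * (x⁻¹ * f x) * g⁻¹) * g := by group
    _ = _ := by rw [e5]; group

theorem Lift.inner2 (h : Lift p A F) (hA : A ≤ P) (hf : F.IsMap P f) (hf' : F.IsMap P f')
    (e : ∀ x ∈ P, (f x)⁻¹ * f' x ∈ A) : ∃ z : G, ∀ x ∈ P, (f x)⁻¹ * f' x = ⁅z, x⁆ := by
  obtain ⟨g, hg, e1⟩ := hf.exists_inv
  have e2 : ∀ x ∈ P, f' x = f (x * ((f x)⁻¹ * f' x)) := fun x hx => by
    rw [hf.homOn.map_mul hx (hA (e x hx)), h.fix hf _ (hA (e x hx)) (e x hx), mul_inv_cancel_left]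
  have m : ∀ x ∈ P, x * ((f x)⁻¹ * f' x) ∈ P := fun x hx => mul_mem hx (hA (e x hx))
  obtain ⟨z, hz⟩ := h.inner' hA (f := fun x => x * ((f x)⁻¹ * f' x)) ((hf'.comp hg fun x hx =>
    e2 x hx ▸ mem_img_of_mem _ (m x hx)).congr fun x hx => by
      rw [Function.comp_apply, congrArg g (e2 x hx), e1 _ (m x hx)]) fun x hx => by simpa using e x hx
  exact ⟨z, fun x hx => by rw [commutatorElement_def, ← hz x hx, h.cj (e x hx)]⟩

theorem Lift.pp (h : Lift p A F) (hR : Cc p A R) {y : G} (hy : ∀ x ∈ R, ⁅y, x⁆ ∈ A) :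
    ∃ z ∈ R, ∀ x ∈ R, ⁅z, x⁆ = ⁅y, x⁆ := by
  have e : ∀ x ∈ R, ∀ n : ℕ, ⁅y ^ n, x⁆ = ⁅y, x⁆ ^ n := fun x hx n => by
    induction n with
    | zero => simp
    | succ n ih =>
      rw [pow_succ', pow_succ, ← h.cj (pow_mem (hy x hx) n) y, ← ih]
      simp only [commutatorElement_def]; group
  have e' : ∀ x ∈ R, ⁅H5.pPart p y, x⁆ = ⁅y, x⁆ := fun x hx =>
    (e x hx _).trans (H5.pPart_of_pElt ((h.pw (h.le (hy x hx))).elim fun _ => H5.isPElt_of_pow))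
  refine ⟨_, hR _ ((H5.pPart_pElt y).imp fun k hk => hk ▸ pow_orderOf_eq_one _) fun x hx => ?_, e'⟩
  have := h.nrm.conj_mem' _ (e' x hx ▸ hy x hx) x
  rwa [commutatorElement_def, mul_assoc, inv_mul_cancel_right] at this

end

variable {G : Type} [Group G]

theorem mem_stT {X : Type} [MulAction G X] {l : List X} {x : G} :
    x ∈ st (⊤ : Subgroup G) l ↔ ∀ a ∈ l, x • a = a := by simp [st, mem_iInf]

theorem smul_mk_eq {S : Subgroup G} {x r : G} : x • (r : G ⧸ S) = r ↔ r⁻¹ * x * r ∈ S := by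
  rw [MulAction.Quotient.smul_mk, eq_comm, QuotientGroup.eq, smul_eq_mul, mul_assoc]

theorem HomA.cj {A P : Subgroup G} {h : G → G} (hh : HomA A P h) (hA : A ≤ center G) {s x : G}
    (hs : s ∈ P) (hx : x ∈ P) : h (s * x * s⁻¹) = h x := by
  have := hh.mul _ (mul_mem (mul_mem hs hx) (inv_mem hs)) s hs
  rw [inv_mul_cancel_right, hh.mul s hs x hx, mem_center_iff.1 (hA (hh.mem x hx))] at this
  exact (mul_right_cancel this).symm

/-- equivariant choice -/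
theorem exists_eqv {Y : Type} [MulAction G Y] (Gd : Y → (G → G) → Prop) (ex : ∀ y, ∃ h, Gd y h)
    (inv : ∀ y h (k : G), Gd y h → Gd (k • y) fun x => h (k⁻¹ * x * k))
    (cj : ∀ y h, Gd y h → ∀ s x : G, s • y = y → x • y = y → h (s * x * s⁻¹) = h x) :
    ∃ h : Y → G → G, (∀ y, Gd y (h y)) ∧ ∀ (g : G) y x, x • y = y → h (g • y) (g * x * g⁻¹) = h y x := by
  choose h₀ h1 using ex
  let rp : Y → Y := fun y => (Quotient.mk (MulAction.orbitRel G Y) y).out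
  have : ∀ y, ∃ k : G, k • rp y = y := fun y =>
    (MulAction.orbitRel G Y).symm (Quotient.exact (Quotient.out_eq (Quotient.mk _ y)))
  choose k hk using this
  refine ⟨fun y x => h₀ (rp y) ((k y)⁻¹ * x * k y), fun y => by simpa [hk] using inv _ _ (k y) (h1 (rp y)),
    fun g y x hx => ?_⟩
  have e : rp (g • y) = rp y := congrArg Quotient.out (Quotient.sound ⟨g, rfl⟩)
  have := cj _ _ (h1 (rp y)) ((k (g • y))⁻¹ * g * k y) ((k y)⁻¹ * x * k y)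
    (by rw [mul_smul, mul_smul, hk, inv_smul_eq_iff, ← e, hk]) (by rw [mul_smul, mul_smul, hk, hx, inv_smul_eq_iff, hk])
  simp only [← this, e]
  congr 1; group

variable {p : ℕ} {S A : Subgroup G} {F : FusionSystem S}

theorem Lift.ax (h : Lift p A F) : ∀ g ∈ A, ∀ a : G ⧸ S, g • a = a := fun g hg a => by
  obtain ⟨r, rfl⟩ := QuotientGroup.mk_surjective a
  exact smul_mk_eq.2 (h.le (h.nrm.conj_mem' _ hg r))

theorem mem_st2 {r r' y : G} : r * y * r⁻¹ ∈ st ⊤ [(r : G ⧸ S), r'] ↔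
    y ∈ S ∧ r'⁻¹ * r * y * (r'⁻¹ * r)⁻¹ ∈ S := by
  simp only [mem_stT, List.forall_mem_cons, smul_mk_eq]; simp [mul_assoc]

/-- `k` measures the difference between an `F`-map and conjugation -/
structure Gd (A : Subgroup G) (F : FusionSystem S) (a b : G ⧸ S) (k : G → G) : Prop where
  hom : HomA A (st ⊤ [a, b]) k
  map : ∀ (r r' : G) (P : Subgroup G), (r : G ⧸ S) = a → (r' : G ⧸ S) = b →
    (∀ x ∈ P, r * x * r⁻¹ ∈ st ⊤ [a, b]) → F.IsMap P fun x => r'⁻¹ * r * x * (r'⁻¹ * r)⁻¹ * k (r * x * r⁻¹)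

theorem Lift.gd (h : Lift p A F) (a b : G ⧸ S) : ∃ k, Gd A F a b k := by
  obtain ⟨r, rfl⟩ := QuotientGroup.mk_surjective a
  obtain ⟨r', rfl⟩ := QuotientGroup.mk_surjective b
  let P := (st ⊤ [(r : G ⧸ S), r']).comap (MulAut.conj r).toMonoidHom
  have mQ : ∀ x, x ∈ st ⊤ [(r : G ⧸ S), r'] → r⁻¹ * x * r ∈ P := fun x hx => by
    simpa [P, mul_assoc] using hx
  obtain ⟨f, hf, e⟩ := h.up (P := P) (r'⁻¹ * r) (fun x hx => (mem_st2.1 hx).1) fun x hx => (mem_st2.1 hx).2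
  refine ⟨fun x => (r'⁻¹ * r * (r⁻¹ * x * r) * (r'⁻¹ * r)⁻¹)⁻¹ * f (r⁻¹ * x * r), ⟨fun x hx y hy => ?_,
    fun x hx => e _ (mQ x hx), fun x hx => ?_⟩, fun u u' Q hu hu' hQ => ?_⟩
  · rw [show r⁻¹ * (x * y) * r = r⁻¹ * x * r * (r⁻¹ * y * r) by group, hf.homOn.map_mul (mQ x hx) (mQ y hy),
      ← mul_assoc _ _ (f (r⁻¹ * y * r)), ← mul_assoc _ _ (f (r⁻¹ * y * r)), ← h.comm (e _ (mQ x hx))]
    group
  · have a1 := h.nrm.conj_mem' _ hx r
    rw [h.fix hf _ (mQ x (mem_stT.2 fun a _ => h.ax x hx a)) a1, h.cj a1, inv_mul_cancel]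
  · have hs := QuotientGroup.eq.1 hu.symm
    have ht := QuotientGroup.eq.1 hu'
    have hQS : Q ≤ S := fun x hx => by
      have := mem_stT.1 (hQ x hx) r (by simp)
      rw [← hu, smul_mk_eq] at this
      simpa [mul_assoc] using this
    have h3 : ∀ x ∈ Q, Fus.cj (r⁻¹ * u) x ∈ P := fun x hx => by
      rw [cj_apply]; simpa [mul_assoc] using mQ _ (hQ x hx)
    refine (((F.isMap_cj hQS hs).comp hf h3).comp (F.isMap_cj le_rfl ht) fun x hx => hf.mem (h3 x hx)).congr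
      fun x hx => ?_
    simp only [Function.comp_apply, cj_apply]
    rw [← h.cj (e _ (mQ _ (hQ x hx))) (u'⁻¹ * r')]
    simp [mul_assoc]

theorem Gd.smul (h : Lift p A F) {a b : G ⧸ S} {k : G → G} (H : Gd A F a b k) (g : G) :
    Gd A F (g • a) (g • b) fun x => k (g⁻¹ * x * g) := by
  have m : ∀ x, x ∈ st ⊤ [g • a, g • b] → g⁻¹ * x * g ∈ st ⊤ [a, b] := fun x hx => by
    simpa [mem_stT, mul_smul, inv_smul_eq_iff] using hx
  refine ⟨⟨fun x hx y hy => ?_, fun x hx => H.hom.mem _ (m x hx),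
    fun x hx => H.hom.triv _ (h.nrm.conj_mem' _ hx g)⟩, fun r r' P hr hr' hP => ?_⟩
  · rw [← H.hom.mul _ (m x hx) _ (m y hy)]; congr 1; group
  · have := H.map (g⁻¹ * r) (g⁻¹ * r') P (inv_smul_eq_iff.2 hr) (inv_smul_eq_iff.2 hr') fun x hx => by
      simpa [mul_assoc] using m _ (hP x hx)
    simpa [mul_assoc] using this

variable [Finite G] [Fact p.Prime]

theorem Gd.coc (h : Lift p A F) {a b c : G ⧸ S} {u v w : G → G} (H1 : Gd A F a b u) (H2 : Gd A F b c v)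
    (H3 : Gd A F a c w) : ∃ y : G, ∀ x ∈ st (⊤ : Subgroup G) [a, b, c], v x * u x = w x * ⁅y, x⁆ := by
  obtain ⟨r, rfl⟩ := QuotientGroup.mk_surjective a
  obtain ⟨s, rfl⟩ := QuotientGroup.mk_surjective b
  obtain ⟨t, rfl⟩ := QuotientGroup.mk_surjective c
  generalize hT : st (⊤ : Subgroup G) [(r : G ⧸ S), s, t] = T
  have t1 : T ≤ st ⊤ [(r : G ⧸ S), s] := fun x hx => by simp [← hT, mem_stT] at hx ⊢; tauto
  have t2 : T ≤ st ⊤ [(s : G ⧸ S), t] := fun x hx => by simp [← hT, mem_stT] at hx ⊢; tauto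
  have t3 : T ≤ st ⊤ [(r : G ⧸ S), t] := fun x hx => by simp [← hT, mem_stT] at hx ⊢; tauto
  have tA : A ≤ T := fun x hx => hT ▸ mem_stT.2 fun a _ => h.ax x hx a
  have k : ∀ x, r * x * r⁻¹ ∈ T → s * (s⁻¹ * r * x * (s⁻¹ * r)⁻¹ * u (r * x * r⁻¹)) * s⁻¹ =
      r * x * r⁻¹ * u (r * x * r⁻¹) := fun x hx => by
    rw [mul_assoc s, mul_assoc _ _ s⁻¹, ← h.comm (H1.hom.mem _ (t1 hx))]; group
  have m := fun x (hx : x ∈ T) => mul_mem (inv_mem (H3.hom.mem _ (t3 hx)))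
    (mul_mem (H2.hom.mem _ (t2 hx)) (H1.hom.mem _ (t1 hx)))
  have h1 := (H1.map r s (T.comap (MulAut.conj r).toMonoidHom) rfl rfl fun x hx => t1 hx).comp (H2.map s t
    (T.comap (MulAut.conj s).toMonoidHom) rfl rfl fun x hx => t2 hx) fun x hx =>
    (k x hx ▸ mul_mem hx (tA (H1.hom.mem _ (t1 hx))) : s * _ * s⁻¹ ∈ T)
  obtain ⟨z, hz⟩ := h.inner2 (P := T.comap (MulAut.conj r).toMonoidHom)
    (f' := fun x => t⁻¹ * r * x * (t⁻¹ * r)⁻¹ * (v (r * x * r⁻¹) * u (r * x * r⁻¹)))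
    (fun x hx => tA (h.nrm.conj_mem _ hx r)) (H3.map r t _ rfl rfl fun x hx => t3 hx)
    (h1.congr fun x (hx : r * x * r⁻¹ ∈ T) => by
      have b1 := H1.hom.mem _ (t1 hx)
      rw [Function.comp_apply, k x hx, H2.hom.mul _ (t2 hx) _ (t2 (tA b1)), H2.hom.triv _ b1, mul_one,
        h.comm b1, mul_assoc (t⁻¹ * s), mul_assoc _ _ (t⁻¹ * s)⁻¹, ← h.comm b1 (t⁻¹ * s)⁻¹]
      group) fun x hx => by simpa [mul_assoc] using m _ hx
  refine ⟨r * z * r⁻¹, fun x hx => ?_⟩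
  have := hz (r⁻¹ * x * r) (by simpa [mul_assoc] using hx)
  simp only [mul_assoc, mul_inv_cancel_left, mul_inv_cancel, mul_one, mul_inv_rev,
    inv_mul_cancel_left] at this
  rw [← inv_mul_eq_iff_eq_mul, ← h.cj (m x hx) r, this]
  simp [commutatorElement_def, mul_assoc]

theorem Lift.geo (h : Lift p A F) : Geo p (⊤ : Subgroup G) (Set.univ : Set (G ⧸ S)) :=
  ⟨fun _ _ _ _ => trivial, fun a _ => by
    obtain ⟨r, rfl⟩ := QuotientGroup.mk_surjective a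
    exact (h.syl.isPGroup.map (MulAut.conj r).toMonoidHom).to_le fun x hx =>
      mem_map_conj_iff.2 (smul_mk_eq.1 hx.2), fun P _ hP => by
    obtain ⟨g, -, hg⟩ := h.syl.exists_conj_mem hP le_top
    exact ⟨(g⁻¹ : G), trivial, fun x hx => smul_mk_eq.2 (by simpa using hg x hx)⟩⟩

theorem Gd.fin (h : Lift p A F) {g y : G} {R : Subgroup G} {u η : G → G}
    (H : Gd A F (1 : G) (g⁻¹ : G) u) (hR : Cc p A R) (hRS : R ≤ S) (hg : ∀ x ∈ R, g * x * g⁻¹ ∈ S)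
    (hη : ∀ x ∈ S, η x ∈ A) (hy : ∀ x ∈ R, u x * η x = η (g * x * g⁻¹) * ⁅y, x⁆) :
    F.IsMap R fun x => g * x * g⁻¹ * η (g * x * g⁻¹) * (η x)⁻¹ := by
  have hT : ∀ x ∈ R, x ∈ st ⊤ [((1 : G) : G ⧸ S), (g⁻¹ : G)] := fun x hx => by
    simpa using (mem_st2 (r := 1) (r' := g⁻¹)).2 ⟨hRS hx, by simpa using hg x hx⟩
  have hyA : ∀ x ∈ R, ⁅y, x⁆ ∈ A := fun x hx => by
    rw [← inv_mul_eq_iff_eq_mul.2 (hy x hx)]
    exact mul_mem (inv_mem (hη _ (hg x hx))) (mul_mem (H.hom.mem _ (hT x hx)) (hη _ (hRS hx)))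
  obtain ⟨z, hz, e1⟩ := h.pp hR hyA
  have mz : ∀ x ∈ R, Fus.cj z⁻¹ x ∈ R := fun x hx => mul_mem (mul_mem (inv_mem hz) hx) (inv_mem (inv_mem hz))
  refine ((F.isMap_cj hRS (hRS (inv_mem hz))).comp (H.map 1 g⁻¹ R rfl rfl fun x hx => by
    simpa using hT x hx) mz).congr fun x hx => ?_
  have e2 := hy x hx
  have e3 : ⁅z, x⁆ ∈ A := e1 x hx ▸ hyA x hx
  rw [← e1 x hx, ← eq_mul_inv_iff_mul_eq] at e2
  simp only [Function.comp_apply, cj_apply, one_mul, inv_one, mul_one]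
  rw [H.hom.cj h.cen (hT _ (inv_mem hz)) (hT x hx), e2, h.comm e3 (η _), ← mul_assoc, ← mul_assoc,
    mul_left_inj, mul_left_inj, ← h.cj e3 (g * z⁻¹ * x⁻¹), commutatorElement_def]
  group

theorem Lift.real0 [HK] (h : Lift p A F) : F.IsRealizable p := by
  have m2 : ∀ (a b : G ⧸ S) (x : G), x ∈ st ⊤ [a, b] ↔ x • (a, b) = (a, b) := fun a b x => by simp [mem_stT]
  obtain ⟨H, H1, H2⟩ := exists_eqv (G := G) (Y := (G ⧸ S) × (G ⧸ S)) (fun y k => Gd A F y.1 y.2 k)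
    (fun y => h.gd y.1 y.2) (fun y _ g H => Gd.smul (a := y.1) (b := y.2) h H g)
    fun y k hk s x hs hx => hk.1.cj h.cen ((m2 y.1 y.2 _).2 hs) ((m2 y.1 y.2 _).2 hx)
  replace H1 : ∀ a b, Gd A F a b (H (a, b)) := fun a b => H1 (a, b)
  obtain ⟨η, η1, η2, η3⟩ := HK.out (X := G ⧸ S) h.cen (isPGroup_of_le h.syl.isPGroup h.le) h.geo h.ax
    (fun a b => H (a, b)) (fun a b => (H1 a b).1) (fun g a b x hx => H2 g (a, b) x ((m2 _ _ _).1 hx))
    fun a b c => Gd.coc h (H1 a b) (H1 b c) (H1 a c)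
  have m1 : ∀ x, x ∈ st ⊤ [((1 : G) : G ⧸ S)] ↔ x ∈ S := fun x => by
    simp only [mem_stT, List.forall_mem_cons, smul_mk_eq]; simp
  have b1 := η1 ((1 : G) : G ⧸ S)
  have b2 := fun x hx => b1.mem x ((m1 x).2 hx)
  refine h.real (η := η ((1 : G) : G ⧸ S)) (fun x hx y hy => b1.mul x ((m1 x).2 hx) y ((m1 y).2 hy))
    b2 b1.triv fun R g hR hRS hg => ?_
  obtain ⟨y, hy⟩ := η3 ((1 : G) : G ⧸ S) (g⁻¹ : G)
  refine Gd.fin h (y := y) (H1 _ _) hR hRS hg b2 fun x hx => ?_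
  have hT : x ∈ st ⊤ [((1 : G) : G ⧸ S), (g⁻¹ : G)] := by
    simpa using (mem_st2 (r := 1) (r' := g⁻¹)).2 ⟨hRS hx, by simpa using hg x hx⟩
  rw [hy x hT, ← η2 g _ x (mem_stT.2 fun a ha => mem_stT.1 hT a (by simp_all)), MulAction.Quotient.smul_mk,
    smul_eq_mul, mul_inv_cancel]

instance instKEY [HK] : KEY.{w} := ⟨fun {G} _ _ p _ S A F h => by
  let e := (Shrink.mulEquiv.{0} (α := G)).symm
  haveI := Finite.of_equiv _ e.toEquiv
  have t : PIso ⊤ ⊤ e e.symm := ⟨homOn_hom e.toMonoidHom _, fun _ _ => trivial, fun _ _ => trivial,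
    fun x _ => e.symm_apply_apply x, fun x _ => e.apply_symm_apply x⟩
  obtain ⟨F', k⟩ := t.exists_transp le_top F rfl
  have m : ∀ (P : Subgroup G) y, y ∈ img e P ↔ e.symm y ∈ P := fun P y => by simp [t.mem_img_iff le_top]
  have m' : ∀ P y, y ∈ img e.symm P ↔ e y ∈ P := fun P y => by simp [t.symm.mem_img_iff le_top]
  refine k.symm.isRealizable' (Lift.real0 (A := img e A) ⟨?_, k.isSaturated h.sat, img_mono _ h.le,
    fun a ha => mem_center_iff.2 fun x => e.symm.injective ?_, fun P f hf a ha ha' => e.symm.injective ?_,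
    fun P g hP hg => ?_, fun P f hf => ?_⟩)
  · have := h.syl.map e.toMonoidHom
    rwa [map_top_of_surjective _ e.surjective, ← img_hom] at this
  · rw [map_mul, map_mul, h.comm ((m _ _).1 ha)]
  · simpa using h.fix (k.map' hf) _ (mem_img_of_mem _ ha) ((m _ _).1 ha')
  · obtain ⟨f, hf, e1⟩ := h.up (e.symm g) (k.img_le' hP) fun x hx => by
      simpa [m] using hg _ ((m' _ _).1 hx)
    have h3 := k.map hf
    rw [k.img_img' hP] at h3
    exact ⟨_, h3, fun y hy => by simpa [m] using e1 _ (mem_img_of_mem _ hy)⟩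
  · obtain ⟨g, e1⟩ := h.down (k.map' hf)
    exact ⟨e g, fun y hy => by simpa [m] using e1 _ (mem_img_of_mem _ hy)⟩⟩

end Cfsg.Agent.Ch
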